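import Groth.Agent.Lib.Exchange.Chain
import Groth.Agent.Lib.ProperFin.Assembly
import Groth.Agent.Lib.ProperFin.ProjFacts
import Groth.Agent.Lib.ProjCoh.Coherent

/-!
# The exchange complex of a coherent sheaf on a proper scheme, flat over a Noetherian affine base
-/

set_option autoImplicit false
universe u

open CategoryTheory Limits AlgebraicGeometry

namespace ZarCoh.Exchange.Proper

open Groth.Agent.Lib

/-- The facts about projective space used for the finiteness theorem. -/
theorem facts : ProperFin.Projective.Facts.{u} :=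
  ProperFin.ProjFacts.facts_of (fun _ _ _ _ N hN q => ProjCoh.Coherent.finite_HH N hN q)
    fun n R _ _ N hN => by
      obtain ⟨d₀, hd⟩ := ProjCoh.Coherent.exists_forall_subsingleton N hN
      refine ⟨d₀, fun d h q => ?_⟩
      have := hd (d : ℤ) (by omega) q
      exact (Curves.LES.isoK R (TensorMod.Basic.comm (ProperFin.Projective.O n R d) N) (q + 1)).injective.subsingleton

variable (A : Type u) [CommRing A] [IsNoetherianRing A] {X : Scheme.{u}}
  [X.Over (Spec (CommRingCat.of A))] [IsProper (X ↘ Spec (CommRingCat.of A))] (F : X.Modules)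

/-- Coherent cohomology of a proper scheme over a Noetherian ring is finite. -/
theorem finite_HH (hF : Coh.IsCoh F) (p : ℕ) : Module.Finite A (Coh.HH X F p) :=
  ProperFin.Assembly.qfin_of_isCoh facts F hF p

/-- The representing chain complex. -/
theorem exists_rep (hF : Coh.IsCoh F)
    (hfl : FlatMod.IsFlatOver (X ↘ Spec (CommRingCat.of A)) F) :
    ∃ (b : ℤ) (P : ChainComplex (ModuleCat.{u} A) ℤ),
      (∀ i, i < b → IsZero (P.X i)) ∧ (∀ i, Module.Finite A (P.X i)) ∧
      (∀ i, Module.Free A (P.X i)) ∧ (∀ i : ℤ, 0 < i → ∀ M, IsZero (CohIII.T P i M)) ∧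
      ∀ p : ℕ, Nonempty (CohIII.TFun P (-(p : ℤ)) ⋙ forget₂ (ModuleCat.{u} A) AddCommGrpCat.{u} ≅
        CohIII.tensorAFunctor A F ⋙ CohIII.HAb X p) :=
  haveI : F.IsQuasicoherent := hF.1
  Chain.exists_rep A F hfl (finite_HH A F hF)

section Transfer

variable {A : Type u} [CommRing A] {T : ModuleCat.{u} A ⥤ ModuleCat.{u} A}
  {H : ModuleCat.{u} A ⥤ AddCommGrpCat.{u}}
  (e : T ⋙ forget₂ (ModuleCat.{u} A) AddCommGrpCat.{u} ≅ H)

include e in
theorem surjective_map_iff {M N : ModuleCat.{u} A} (g : M ⟶ N) :
    Function.Surjective (H.map g).hom ↔ Function.Surjective (T.map g).hom := by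
  have h := (MorphismProperty.epimorphisms AddCommGrpCat.{u}).arrow_mk_iso_iff
    (Arrow.isoMk (f := Arrow.mk ((T ⋙ forget₂ (ModuleCat.{u} A) AddCommGrpCat.{u}).map g))
      (g := Arrow.mk (H.map g)) (e.app M) (e.app N) (e.hom.naturality g).symm)
  exact ((AddCommGrpCat.epi_iff_surjective _).symm.trans h.symm).trans
    (AddCommGrpCat.epi_iff_surjective _)

include e in
theorem injective_map_iff {M N : ModuleCat.{u} A} (g : M ⟶ N) :
    Function.Injective (H.map g).hom ↔ Function.Injective (T.map g).hom := by
  have h := (MorphismProperty.monomorphisms AddCommGrpCat.{u}).arrow_mk_iso_iff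
    (Arrow.isoMk (f := Arrow.mk ((T ⋙ forget₂ (ModuleCat.{u} A) AddCommGrpCat.{u}).map g))
      (g := Arrow.mk (H.map g)) (e.app M) (e.app N) (e.hom.naturality g).symm)
  exact ((AddCommGrpCat.mono_iff_injective _).symm.trans h.symm).trans
    (AddCommGrpCat.mono_iff_injective _)

include e in
theorem preservesEpi_iff : H.PreservesEpimorphisms ↔ T.PreservesEpimorphisms := by
  constructor
  · intro _
    exact ⟨fun g _ => (ModuleCat.epi_iff_surjective _).2 ((surjective_map_iff e g).1
      ((AddCommGrpCat.epi_iff_surjective _).1 inferInstance))⟩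
  · intro _
    exact ⟨fun g _ => (AddCommGrpCat.epi_iff_surjective _).2 ((surjective_map_iff e g).2
      ((ModuleCat.epi_iff_surjective _).1 inferInstance))⟩

include e in
theorem preservesMono_iff : H.PreservesMonomorphisms ↔ T.PreservesMonomorphisms := by
  constructor
  · intro _
    exact ⟨fun g _ => (ModuleCat.mono_iff_injective _).2 ((injective_map_iff e g).1
      ((AddCommGrpCat.mono_iff_injective _).1 inferInstance))⟩
  · intro _
    exact ⟨fun g _ => (AddCommGrpCat.mono_iff_injective _).2 ((injective_map_iff e g).2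
      ((ModuleCat.mono_iff_injective _).1 inferInstance))⟩

end Transfer

end ZarCoh.Exchange.Proper
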