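import Groth.Agent.Lib.LocalCoh.DeltaSeq
import Groth.Agent.Lib.CechRes.Compute
import Groth.Agent.Lib.Curves.LES
import Groth.Agent.Lib.Curves.GlobalSections
import Groth.Agent.Lib.CohDelta.Basic

/-!
# Acyclic resolutions compute the cohomology modules
-/

set_option autoImplicit false
set_option linter.unusedSectionVars false
set_option linter.style.haveILetI false
universe u

open CategoryTheory Limits AlgebraicGeometry Opposite TopologicalSpace Abelian

attribute [local instance] HasDerivedCategory.standard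

namespace ZarCoh.Exchange.AcycRes

open Groth.Agent.Lib Groth.Agent.Lib.Curves

noncomputable section

variable (A : Type u) [CommRing A] {X : Scheme.{u}} [X.Over (Spec (CommRingCat.of A))]

local notation "pX" => (X ↘ Spec (CommRingCat.of A))

lemma extClass_natural {C : Type*} [Category.{u} C] [Abelian C] [HasExt.{u} C] {Y : C}
    {S S' : ShortComplex C} (hS : S.ShortExact) (hS' : S'.ShortExact) (φ : S ⟶ S') {n n' : ℕ}
    (h : n + 1 = n') (x : Ext Y S.X₃ n) :
    (x.comp (Ext.mk₀ φ.τ₃) (add_zero n)).comp hS'.extClass h =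
      (x.comp hS.extClass h).comp (Ext.mk₀ φ.τ₁) (add_zero n') := by
  rw [Ext.comp_assoc_of_second_deg_zero, Ext.comp_assoc_of_third_deg_zero,
    ShortComplex.ShortExact.extClass_naturality hS hS' φ]

/-- Cohomology as a functor to modules over the base ring. -/
def HF (n : ℕ) : X.Modules ⥤ ModuleCat.{u} A where
  obj M := ModuleCat.of A (Coh.HH X M n)
  map φ := ModuleCat.ofHom (LES.mapK A φ n)
  map_id M := ModuleCat.hom_ext (LES.mapK_id A M n)
  map_comp φ ψ := ModuleCat.hom_ext (LES.mapK_comp A φ ψ n)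

instance additive_HF (n : ℕ) : (HF A (X := X) n).Additive where
  map_add {M N φ ψ} := ModuleCat.hom_ext (LinearMap.ext fun x => by
    show Sheaf.H.map ((LES.F X).map (φ + ψ)) n x =
      Sheaf.H.map ((LES.F X).map φ) n x + Sheaf.H.map ((LES.F X).map ψ) n x
    rw [(LES.F X).map_add, Sheaf.H.map_apply, Sheaf.H.map_apply, Sheaf.H.map_apply, Ext.mk₀_add,
      Ext.comp_add])

theorem δK_natural {S S' : ShortComplex X.Modules} (hS : S.ShortExact) (hS' : S'.ShortExact)
    (φ : S ⟶ S') (n : ℕ) (x : Coh.HH X S.X₃ n) :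
    LES.δK A hS' n (n + 1) rfl (LES.mapK A φ.τ₃ n x) =
      LES.mapK A φ.τ₁ (n + 1) (LES.δK A hS n (n + 1) rfl x) :=
  @extClass_natural (Sheaf (Opens.grothendieckTopology X) AddCommGrpCat.{u}) _ _ _
    (LES.cst X) (LES.abSES S) (LES.abSES S') (LES.shortExact_abSES hS) (LES.shortExact_abSES hS')
    ((LES.F X).mapShortComplex.map φ) n (n + 1) rfl x

/-- The long exact sequence. -/
def deltaSeq : LocalCoh.DeltaSeq (HF A (X := X)) where
  δ hS n := ModuleCat.ofHom (LES.δK A hS n (n + 1) rfl)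
  mono₀ {S} hS := haveI := hS.mono_f; LES.mapK_injective_of_mono A S.f
  exact₂ hS n := LES.exactK₂ A hS n
  exact₃ hS n := LES.exactK₃ A hS n (n + 1) rfl
  exact₁ hS n := LES.exactK₁ A hS n (n + 1) rfl
  naturality {S S'} hS hS' φ n :=
    ModuleCat.hom_ext (LinearMap.ext fun x => δK_natural A hS hS' φ n x)

theorem rho_top (a : A) : CechRes.Sec.rho pX ⊤ a = Coh.toGlobal pX a := by
  show ((Scheme.ΓSpecIso (CommRingCat.of A)).inv ≫ (pX).appLE ⊤ ⊤ le_top) a = _
  rw [show (pX).appLE ⊤ ⊤ le_top = (pX).appTop from (Scheme.Hom.app_eq_appLE _).symm]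
  rfl

/-- Degree zero is global sections. -/
def zeroIso : HF A (X := X) 0 ≅ CechRes.Sec.secA pX (⊤ : X.Opens) :=
  NatIso.ofComponents (fun M => LinearEquiv.toModuleIso
    (X₂ := ((CechRes.Sec.secA pX (⊤ : X.Opens)).obj M : Type u))
    (m₂ := ((CechRes.Sec.secA pX (⊤ : X.Opens)).obj M).isModule)
    { toFun := fun z => CechRes.Sec.toSec pX (GlobalSections.h0Equiv M z)
      invFun := fun m => (GlobalSections.h0Equiv M).symm (CechRes.Sec.ofSec pX m)
      left_inv := fun z => (GlobalSections.h0Equiv M).symm_apply_apply z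
      right_inv := fun m => (GlobalSections.h0Equiv M).apply_symm_apply _
      map_add' := fun z z' => map_add (GlobalSections.h0Equiv M) z z'
      map_smul' := fun a z => by
        refine (GlobalSections.h0Equiv_smul M (Coh.toGlobal pX a) z).trans ?_
        exact congrArg (fun r : Γ(X, ⊤) => r • (show Γ(M, ⊤) from GlobalSections.h0Equiv M z))
          (rho_top A a).symm })
    fun {M N} φ => ModuleCat.hom_ext (LinearMap.ext fun z =>
      (Sheaf.H.equiv₀_naturality (f := (LES.F X).map φ) (isTerminalTop (α := Opens X)) z).symm)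

theorem subsingleton_HH_apSum [IsSeparated pX] {S : Set X.Opens} (hS : ∀ V ∈ S, IsAffineOpen V)
    {M : X.Modules} (hM : CechRes.Res.APSum S M) (k : ℕ) :
    Subsingleton (Coh.HH X M (k + 1)) := by
  induction hM with
  | @single V M hV h hq =>
    haveI := hq
    haveI := CechRes.Res.isAffineHom_ι pX (hS V hV)
    haveI : IsIso ((CechRes.Res.η V).app M) := h
    haveI : (M.restrict V.ι).IsQuasicoherent := inferInstance
    haveI : Subsingleton (Coh.HH (V : Scheme.{u}) (M.restrict V.ι) (k + 1)) :=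
      ZarCoh.Morph.HHon_subsingleton M (hS V hV) k
    haveI : Subsingleton (Coh.HH X ((CechRes.Res.E V).obj M) (k + 1)) :=
      show Subsingleton (Coh.HH X ((Coh.push V.ι).obj (M.restrict V.ι)) (k + 1)) from
        (ZarCoh.Morph.affineEquiv V.ι (M.restrict V.ι) (k + 1)).injective.subsingleton
    exact (LES.isoK A (asIso ((CechRes.Res.η V).app M)) (k + 1)).injective.subsingleton
  | @zero M h =>
    exact ModuleCat.subsingleton_of_isZero ((HF A (X := X) (k + 1)).map_isZero h)
  | @biprod M N _ _ a b =>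
    have h : IsZero ((HF A (X := X) (k + 1)).obj (M ⊞ N)) := by
      haveI := preservesBinaryBiproducts_of_preservesBiproducts (HF A (X := X) (k + 1))
      refine IsZero.of_iso ?_ ((HF A (X := X) (k + 1)).mapBiprod M N)
      refine (IsZero.iff_id_eq_zero _).2 (biprod.hom_ext' _ _ ?_ ?_)
      · exact (haveI : Subsingleton ((HF A (X := X) (k + 1)).obj M) := a; ModuleCat.isZero_of_subsingleton ((HF A (X := X) (k + 1)).obj M)).eq_of_src _ _
      · exact (haveI : Subsingleton ((HF A (X := X) (k + 1)).obj N) := b; ModuleCat.isZero_of_subsingleton ((HF A (X := X) (k + 1)).obj N)).eq_of_src _ _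
    exact ModuleCat.subsingleton_of_isZero h
  | @iso M N e _ a => exact (LES.isoK A e (k + 1)).symm.injective.subsingleton

/-- Acyclic resolutions of a module compute its cohomology. -/
theorem nonempty_homology_linearEquiv {P Q : CochainComplex X.Modules ℤ} (aug : P ⟶ Q) [QuasiIso aug]
    {G : X.Modules} (g : G ≅ P.X 0) (hP : ∀ i, i ≠ 0 → IsZero (P.X i))
    (hQ0 : ∀ i, i < 0 → IsZero (Q.X i)) (hac : ∀ i k, Subsingleton (Coh.HH X (Q.X i) (k + 1)))
    (n : ℕ) :
    Nonempty ((((CechRes.Sec.secA pX ⊤).mapHomologicalComplex (.up ℤ)).obj Q).homology (n : ℤ) ≃ₗ[A]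
      Coh.HH X G n) := by
  let J : CochainComplex X.Modules ℕ :=
    { X := fun i => Q.X i
      d := fun i j => Q.d i j
      shape := fun i j h => Q.shape _ _ fun h' => h (by
        show i + 1 = j
        have h'' : (i : ℤ) + 1 = (j : ℤ) := h'
        omega)
      d_comp_d' := fun i j k _ _ => Q.d_comp_d _ _ _ }
  have hw : (g.hom ≫ aug.f ((0 : ℕ) : ℤ)) ≫ Q.d ((0 : ℕ) : ℤ) ((1 : ℕ) : ℤ) = 0 := by
    rw [Category.assoc, aug.comm]
    exact (((hP _ (by simp)).eq_of_tgt (P.d ((0 : ℕ) : ℤ) ((1 : ℕ) : ℤ)) 0).symm ▸ by simp)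
  have h0 : (ShortComplex.mk (g.hom ≫ aug.f ((0 : ℕ) : ℤ)) (Q.d ((0 : ℕ) : ℤ) ((1 : ℕ) : ℤ)) hw).Exact ∧
      Mono (g.hom ≫ aug.f ((0 : ℕ) : ℤ)) := by
    have hq : QuasiIsoAt aug ((0 : ℕ) : ℤ) := inferInstance
    rw [quasiIsoAt_iff' aug (-1) ((0 : ℕ) : ℤ) ((1 : ℕ) : ℤ) (by simp) (by simp),
      ShortComplex.quasiIso_iff_of_zeros _ ((hP _ (by simp)).eq_of_src _ _)
        ((hP _ (by simp)).eq_of_tgt _ _) ((hQ0 _ (by simp)).eq_of_src _ _)] at hq
    obtain ⟨he, hm⟩ := hq
    haveI : Mono (aug.f ((0 : ℕ) : ℤ)) := hm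
    refine ⟨ShortComplex.exact_of_iso ?_ he, mono_comp' inferInstance inferInstance⟩
    exact ShortComplex.isoMk g.symm (Iso.refl _) (Iso.refl _)
      (by simp [HomologicalComplex.shortComplexFunctor'])
      (by simp [HomologicalComplex.shortComplexFunctor'])
  have hex : ∀ m : ℕ, (ShortComplex.mk _ _ (J.d_comp_d m (m + 1) (m + 2))).Exact := fun m => by
    have hq : Q.ExactAt ((m + 1 : ℕ) : ℤ) :=
      (exactAt_iff_of_quasiIsoAt aug ((m + 1 : ℕ) : ℤ)).1
        (HomologicalComplex.ExactAt.of_isZero (hP _ (by simp; omega)))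
    exact (Q.exactAt_iff' (m : ℤ) ((m + 1 : ℕ) : ℤ) ((m + 2 : ℕ) : ℤ) (by simp)
      (by simp; omega)).1 hq
  let R : LocalCoh.DeltaSeq.AcRes (HF A (X := X)) G :=
    { J := J
      ι := g.hom ≫ aug.f ((0 : ℕ) : ℤ)
      w := hw
      mono_ι := h0.2
      exact_zero := h0.1
      exact_succ := hex
      acyclic := fun i k => hac (i : ℤ) k }
  let T := CechRes.Sec.secA pX (⊤ : X.Opens)
  let CZ := (T.mapHomologicalComplex (.up ℤ)).obj Q
  let CN := (T.mapHomologicalComplex (.up ℕ)).obj J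
  let e₁ : R.cx ≅ CN := ((NatIso.mapHomologicalComplex (zeroIso A) (.up ℕ)).app J)
  have key : Nonempty (CN.homology n ≅ CZ.homology (n : ℤ)) := by
    cases n with
    | zero =>
      let φ : CN.sc' 0 0 1 ⟶ CZ.sc' (-1) ((0 : ℕ) : ℤ) ((1 : ℕ) : ℤ) :=
        { τ₁ := 0
          τ₂ := 𝟙 _
          τ₃ := 𝟙 _
          comm₁₂ := by
            show 0 ≫ _ = T.map (J.d 0 0) ≫ 𝟙 _
            rw [J.shape 0 0 (by simp), Functor.map_zero, zero_comp, zero_comp]
          comm₂₃ := (Category.id_comp _).trans (Category.comp_id _).symm }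
      haveI : Epi φ.τ₁ := ⟨fun a b _ => (T.map_isZero (hQ0 (-1) (by simp))).eq_of_src a b⟩
      haveI : IsIso φ.τ₂ := inferInstanceAs (IsIso (𝟙 _))
      haveI : Mono φ.τ₃ := inferInstanceAs (Mono (𝟙 _))
      haveI := ShortComplex.quasiIso_of_epi_of_isIso_of_mono φ
      exact ⟨CN.homologyIsoSc' 0 0 1 (by simp) (by simp) ≪≫ asIso (ShortComplex.homologyMap φ) ≪≫
        (CZ.homologyIsoSc' (-1) ((0 : ℕ) : ℤ) ((1 : ℕ) : ℤ) (by simp) (by simp)).symm⟩
    | succ m =>
      exact ⟨CN.homologyIsoSc' m (m + 1) (m + 2) (by simp) (by simp) ≪≫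
        (CZ.homologyIsoSc' (m : ℤ) ((m + 1 : ℕ) : ℤ) ((m + 2 : ℕ) : ℤ) (by simp)
          (by simp; omega)).symm⟩
  obtain ⟨e₂⟩ := key
  exact ⟨(e₂.symm ≪≫ (HomologicalComplex.homologyFunctor _ _ n).mapIso e₁.symm ≪≫
    R.homologyIso (deltaSeq A) n).toLinearEquiv⟩

end

end ZarCoh.Exchange.AcycRes
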