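import Groth.Agent.Lib.CechRes.PairGlobal
import Groth.Agent.Lib.CechRes.Cover
import Groth.Agent.Lib.TensorCx.Filtration
import Groth.Agent.Lib.Exchange.AcycRes

/-!
# The Künneth formula for the cohomology modules over an affine base
-/

set_option autoImplicit false
set_option linter.unusedSectionVars false
set_option linter.style.haveILetI false
universe u

open CategoryTheory Limits AlgebraicGeometry Opposite TopologicalSpace HomologicalComplex
open MonoidalCategory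
open scoped DirectSum

attribute [local instance] HasDerivedCategory.standard

namespace ZarCoh.Exchange.Kunneth

open Groth.Agent.Lib Groth.Agent.Lib.CechRes
open Sec Crit Res Compute AffPull Pair PairGlobal

section

variable {A : Type u} [CommRing A] {Z X₁ X₂ : Scheme.{u}} {p : Z ⟶ X₁} {q : Z ⟶ X₂}
  {f₁ : X₁ ⟶ Spec (CommRingCat.of A)} {f₂ : X₂ ⟶ Spec (CommRingCat.of A)}
  (H : IsPullback p q f₁ f₂) [IsSeparated f₁] [IsSeparated f₂]
  {S₁ : Set X₁.Opens} {S₂ : Set X₂.Opens}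
  (hS₁ : ∀ V ∈ S₁, IsAffineOpen V) (hS₂ : ∀ V ∈ S₂, IsAffineOpen V)

include H hS₁ hS₂ in
/-- External products of resolutions, with their global sections. -/
theorem exists_resolution_kunneth [QuasiCompact f₁] [QuasiCompact f₂]
    {P₁ : CochainComplex X₁.Modules ℤ} {P₂ : CochainComplex X₂.Modules ℤ}
    (hq₁ : ∀ i, (P₁.X i).IsQuasicoherent) (hq₂ : ∀ i, (P₂.X i).IsQuasicoherent)
    (r₁ : Resolution S₁ P₁) (r₂ : Resolution S₂ P₂) (a b : ℤ)
    (ha : ∀ i, a < i → IsZero (P₁.X i)) (ha' : ∀ i, a < i → IsZero (r₁.Q.X i))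
    (hb : ∀ i, b < i → IsZero (P₂.X i)) (hb' : ∀ i, b < i → IsZero (r₂.Q.X i))
    (hfl : ∀ i, Flat.SecFlat f₁ (P₁.X i)) (hfl' : ∀ i, Flat.SecFlat f₁ (r₁.Q.X i))
    (h0 : ∀ i, i < 0 → IsZero (r₁.Q.X i)) (h0' : ∀ i, i < 0 → IsZero (r₂.Q.X i)) :
    ∃ r : Resolution (boxes p q S₁ S₂) (mapBifunctor P₁ P₂ (T p q) (.up ℤ)),
      (∀ n, n < 0 → IsZero (r.Q.X n)) ∧
      Nonempty (HTor.tensorCx (((secA f₁ ⊤).mapHomologicalComplex (.up ℤ)).obj r₁.Q)
        (((secA f₂ ⊤).mapHomologicalComplex (.up ℤ)).obj r₂.Q) ≅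
          ((secA (p ≫ f₁) ⊤).mapHomologicalComplex (.up ℤ)).obj r.Q) := by
  haveI := isSeparated_Z H
  haveI : QuasiCompact p := MorphismProperty.of_isPullback H.flip inferInstance
  have hqQ₁ : ∀ i, (r₁.Q.X i).IsQuasicoherent := fun i => apSum_qc (r₁.apSum i)
  have hqQ₂ : ∀ i, (r₂.Q.X i).IsQuasicoherent := fun i => apSum_qc (r₂.apSum i)
  let φ := mapBifunctorMap r₁.aug r₂.aug (T p q) (.up ℤ)
  have hφ : QuasiIso φ := by
    refine (SpecSeq.AcyclicComplex.quasiIso_iff_acyclic_mappingCone φ).2 ((acyclic_iff_acycOn _).2 ?_)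
    refine acycOn_of_secA (p ≫ f₁) _ (fun n => ?_) _ fun x _ => ?_
    · exact (WayOut.Scheme.qc Z).prop_of_iso
        (HomologicalComplex.homotopyCofiber.XIsoBiprod φ n (n + 1) rfl).symm
        (qc_biprod _ _ (qc_total a b ha hb hq₁ hq₂ _) (qc_total a b ha' hb' hqQ₁ hqQ₂ _))
    obtain ⟨W₁, W₂, hW₁, hW₂, hx⟩ := AffPull.exists_box H x
    refine ⟨box p q W₁ W₂, AffPull.isAffineOpen_box H hW₁ hW₂, hx, fun n => ?_⟩
    let G := secA (p ≫ f₁) (box p q W₁ W₂)
    have hG : QuasiIso ((G.mapHomologicalComplex (.up ℤ)).map φ) := by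
      haveI h₁ : QuasiIso (((secA f₁ W₁).mapHomologicalComplex (.up ℤ)).map r₁.aug) := by
        refine (SpecSeq.AcyclicComplex.quasiIso_iff_acyclic_mappingCone _).2 fun n => ?_
        refine ExactAt.of_iso ?_ (CochainComplex.mappingCone.mapHomologicalComplexIso r₁.aug (secA f₁ W₁))
        exact (acyclic_secA_iff f₁ _ (fun m => (WayOut.Scheme.qc X₁).prop_of_iso
          (HomologicalComplex.homotopyCofiber.XIsoBiprod r₁.aug m (m + 1) rfl).symm
          (qc_biprod _ _ (hq₁ _) (hqQ₁ _))) hW₁).2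
          (((acyclic_iff_acycOn _).1 ((SpecSeq.AcyclicComplex.quasiIso_iff_acyclic_mappingCone _).1 r₁.qis)).mono
            (Set.subset_univ _)) n
      haveI h₂ : QuasiIso (((secA f₂ W₂).mapHomologicalComplex (.up ℤ)).map r₂.aug) := by
        refine (SpecSeq.AcyclicComplex.quasiIso_iff_acyclic_mappingCone _).2 fun n => ?_
        refine ExactAt.of_iso ?_ (CochainComplex.mappingCone.mapHomologicalComplexIso r₂.aug (secA f₂ W₂))
        exact (acyclic_secA_iff f₂ _ (fun m => (WayOut.Scheme.qc X₂).prop_of_iso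
          (HomologicalComplex.homotopyCofiber.XIsoBiprod r₂.aug m (m + 1) rfl).symm
          (qc_biprod _ _ (hq₂ _) (hqQ₂ _))) hW₂).2
          (((acyclic_iff_acycOn _).1 ((SpecSeq.AcyclicComplex.quasiIso_iff_acyclic_mappingCone _).1 r₂.qis)).mono
            (Set.subset_univ _)) n
      let θ := Pair.data H (inf_le_left : box p q W₁ W₂ ≤ p ⁻¹ᵁ W₁) (inf_le_right : box p q W₁ W₂ ≤ q ⁻¹ᵁ W₂)
      let e := secBoxIso H a b ha hb hW₁ hW₂ hq₁ hq₂
      let e' := secBoxIso H a b ha' hb' hW₁ hW₂ hqQ₁ hqQ₂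
      haveI := TensorQis.quasiIso_tensorHom (((secA f₁ W₁).mapHomologicalComplex (.up ℤ)).map r₁.aug)
        (((secA f₂ W₂).mapHomologicalComplex (.up ℤ)).map r₂.aug) (fun i => hfl i W₁ hW₁)
        (fun i => hfl' i W₁ hW₁) a (fun i hi => (secA f₁ W₁).map_isZero (ha i hi))
        (fun i hi => (secA f₁ W₁).map_isZero (ha' i hi)) b (fun i hi => (secA f₂ W₂).map_isZero (hb i hi))
      have hn := BiTotal.totalMap_natural θ r₁.aug r₂.aug
      have e0 : (G.mapHomologicalComplex (.up ℤ)).map φ = e.inv ≫ HomologicalComplex.tensorHom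
          (((secA f₁ W₁).mapHomologicalComplex (.up ℤ)).map r₁.aug)
          (((secA f₂ W₂).mapHomologicalComplex (.up ℤ)).map r₂.aug) ≫ e'.hom :=
        (Iso.eq_inv_comp e).2 hn.symm
      rw [e0]
      infer_instance
    exact ((SpecSeq.AcyclicComplex.quasiIso_iff_acyclic_mappingCone _).1 hG n).of_iso
      (CochainComplex.mappingCone.mapHomologicalComplexIso φ G).symm
  let r : Resolution (boxes p q S₁ S₂) (mapBifunctor P₁ P₂ (T p q) (.up ℤ)) :=
    { Q := mapBifunctor r₁.Q r₂.Q (T p q) (.up ℤ)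
      aug := φ
      qis := hφ
      apSum := fun n => prop_total a b ha' hb' n (APSum (boxes p q S₁ S₂)) (fun h => .zero h)
        (fun h h' => .biprod h h') (fun e h => .iso e h) fun i j => apSum_T H hS₁ hS₂ (r₁.apSum i) (r₂.apSum j) }
  refine ⟨r, fun n hn => ?_, ⟨BiTotal.totalIso r₁.Q r₂.Q
    (Pair.data H (W₁ := ⊤) (W₂ := ⊤) (le_top : (⊤ : Z.Opens) ≤ p ⁻¹ᵁ (⊤ : X₁.Opens)) (le_top : (⊤ : Z.Opens) ≤ q ⁻¹ᵁ (⊤ : X₂.Opens)))
    (finite_summands a b ha' hb') (fun i j => isIso_mul_top H hS₁ hS₂ (r₁.apSum i) (r₂.apSum j))⟩⟩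
  refine BiTotal.prop_term (s := ∅) (fun i _ => ?_) IsZero (fun h => h)
    (fun {M N} h h' => (IsZero.iff_id_eq_zero _).2 (biprod.hom_ext' _ _ (h.eq_of_src _ _) (h'.eq_of_src _ _)))
    (fun e h => h.of_iso e.symm) (fun i hi => absurd hi (Finset.notMem_empty i))
  by_cases hi : i < 0
  · exact ((T p q).flip.obj (r₂.Q.X (n - i))).map_isZero (h0 i hi)
  · exact ((T p q).obj (r₁.Q.X i)).map_isZero (h0' _ (by lia))

end

section Sum

variable {A : Type u} [CommRing A] {ι κ : Type} [DecidableEq ι] [DecidableEq κ] (M : κ → Type u)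
  [∀ b, AddCommGroup (M b)] [∀ b, Module A (M b)] (e : ι → κ)

/-- A direct sum is the sum over the nonzero summands. -/
theorem nonempty_sum_equiv (he : Function.Injective e) (h : ∀ b, b ∉ Set.range e → Subsingleton (M b)) :
    Nonempty ((⨁ a, M (e a)) ≃ₗ[A] ⨁ b, M b) := by
  let g : (⨁ a, M (e a)) →ₗ[A] ⨁ b, M b :=
    DirectSum.toModule A ι _ fun a => DirectSum.lof A κ M (e a)
  have key : ∀ x a, DirectSum.component A κ M (e a) (g x) =
      DirectSum.component A ι (fun a => M (e a)) a x := by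
    intro x a
    induction x using DirectSum.induction_on with
    | zero => simp only [map_zero]
    | of a' m =>
      rw [← DirectSum.lof_eq_of A]
      simp only [g, DirectSum.toModule_lof]
      by_cases ha : a' = a
      · subst ha
        rw [DirectSum.component.lof_self, DirectSum.component.lof_self]
      · rw [DirectSum.component.of, DirectSum.component.of, dif_neg ha, dif_neg fun h' => ha (he h')]
    | add x y hx hy => simp only [map_add, hx, hy]
  refine ⟨LinearEquiv.ofBijective g ⟨fun x y hxy => DirectSum.ext_component A fun a => ?_, fun y => ?_⟩⟩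
  · rw [← key, ← key, hxy]
  · induction y using DirectSum.induction_on with
    | zero => exact ⟨0, map_zero g⟩
    | of b m =>
      by_cases hb : b ∈ Set.range e
      · obtain ⟨a, rfl⟩ := hb
        exact ⟨DirectSum.lof A ι (fun a => M (e a)) a m, DirectSum.toModule_lof _ _ _⟩
      · haveI := h b hb
        exact ⟨0, by rw [Subsingleton.elim m 0, map_zero, map_zero]⟩
    | add x y hx hy =>
      obtain ⟨a, rfl⟩ := hx
      obtain ⟨b, rfl⟩ := hy
      exact ⟨a + b, map_add g a b⟩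

end Sum

theorem nonempty_kunneth (A : Type u) [CommRing A] (X₁ X₂ : Scheme.{u})
    [X₁.Over (Spec (CommRingCat.of A))] [X₂.Over (Spec (CommRingCat.of A))]
    [QuasiCompact (X₁ ↘ Spec (CommRingCat.of A))] [IsSeparated (X₁ ↘ Spec (CommRingCat.of A))]
    [QuasiCompact (X₂ ↘ Spec (CommRingCat.of A))] [IsSeparated (X₂ ↘ Spec (CommRingCat.of A))]
    (F₁ : X₁.Modules) [Coh.IsQCoh F₁] (F₂ : X₂.Modules) [Coh.IsQCoh F₂]
    (hfl : FlatMod.IsFlatOver (X₁ ↘ Spec (CommRingCat.of A)) F₁)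
    (hH : ∀ p : ℕ, Module.Flat A (Coh.HH X₁ F₁ p)) (n : ℕ) :
    Nonempty (Coh.HH (pullback (X₁ ↘ Spec (CommRingCat.of A)) (X₂ ↘ Spec (CommRingCat.of A)))
        (CohB1.tensorMod
          ((Scheme.Modules.pullback (pullback.fst (X₁ ↘ Spec (CommRingCat.of A)) (X₂ ↘ Spec (CommRingCat.of A)))).obj F₁)
          ((Scheme.Modules.pullback (pullback.snd (X₁ ↘ Spec (CommRingCat.of A)) (X₂ ↘ Spec (CommRingCat.of A)))).obj F₂)) n ≃+
      DirectSum (Finset.antidiagonal n) fun pq => TensorProduct A (Coh.HH X₁ F₁ pq.1.1) (Coh.HH X₂ F₂ pq.1.2)) := by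
  classical
  let f₁ := X₁ ↘ Spec (CommRingCat.of A)
  let f₂ := X₂ ↘ Spec (CommRingCat.of A)
  let p := pullback.fst f₁ f₂
  let q := pullback.snd f₁ f₂
  have H : IsPullback p q f₁ f₂ := IsPullback.of_hasPullback f₁ f₂
  letI : (pullback f₁ f₂).Over (Spec (CommRingCat.of A)) := ⟨p ≫ f₁⟩
  haveI : IsSeparated (pullback f₁ f₂ ↘ Spec (CommRingCat.of A)) := isSeparated_Z H
  let P₁ := (CochainComplex.singleFunctor X₁.Modules 0).obj F₁
  let P₂ := (CochainComplex.singleFunctor X₂.Modules 0).obj F₂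
  have z₁ : ∀ i, i ≠ 0 → IsZero (P₁.X i) := fun i hi => HomologicalComplex.isZero_single_obj_X _ _ _ _ hi
  have z₂ : ∀ i, i ≠ 0 → IsZero (P₂.X i) := fun i hi => HomologicalComplex.isZero_single_obj_X _ _ _ _ hi
  let g₁ : F₁ ≅ P₁.X 0 := (HomologicalComplex.singleObjXSelf (.up ℤ) 0 F₁).symm
  let g₂ : F₂ ≅ P₂.X 0 := (HomologicalComplex.singleObjXSelf (.up ℤ) 0 F₂).symm
  have hq₁ : ∀ i, (P₁.X i).IsQuasicoherent := fun i => by
    by_cases hi : i = 0
    · subst hi
      exact (WayOut.Scheme.qc X₁).prop_of_iso g₁ ‹Coh.IsQCoh F₁›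
    · exact qc_zero _ (z₁ i hi)
  have hq₂ : ∀ i, (P₂.X i).IsQuasicoherent := fun i => by
    by_cases hi : i = 0
    · subst hi
      exact (WayOut.Scheme.qc X₂).prop_of_iso g₂ ‹Coh.IsQCoh F₂›
    · exact qc_zero _ (z₂ i hi)
  have hfl₁ : ∀ i, Flat.SecFlat f₁ (P₁.X i) := fun i => by
    by_cases hi : i = 0
    · subst hi
      haveI : F₁.IsQuasicoherent := ‹Coh.IsQCoh F₁›
      exact ObjectProperty.prop_of_iso (Flat.SecFlat f₁) g₁ (Flat.secFlat_of_isFlatOver f₁ F₁ hfl)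
    · exact Flat.secFlat_zero f₁ _ (z₁ i hi)
  obtain ⟨l₁, hl₁, hcov₁⟩ := Cover.exists_list_cover f₁
  obtain ⟨l₂, hl₂, hcov₂⟩ := Cover.exists_list_cover f₂
  obtain ⟨r₁, hΦ₁, hz₁⟩ := exists_resolution f₁ l₁ hl₁ hcov₁ P₁ hq₁ (Flat.SecFlat f₁)
    (Flat.secFlat_biprod f₁) (Flat.secFlat_zero f₁) (fun V hV => Flat.secFlat_E f₁ (hl₁ V hV)) hfl₁
  obtain ⟨r₂, -, hz₂⟩ := exists_resolution f₂ l₂ hl₂ hcov₂ P₂ hq₂ (WayOut.Scheme.qc X₂) qc_biprod
    qc_zero (fun V hV M (hM : M.IsQuasicoherent) => isQCoh_E f₂ (hl₂ V hV) M) hq₂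
  have low₁ : ∀ i : ℤ, i < 0 → IsZero (r₁.Q.X i) := fun i hi => hz₁ i fun j _ h => z₁ j (by lia)
  have low₂ : ∀ i : ℤ, i < 0 → IsZero (r₂.Q.X i) := fun i hi => hz₂ i fun j _ h => z₂ j (by lia)
  have high₁ : ∀ i : ℤ, (l₁.length : ℤ) < i → IsZero (r₁.Q.X i) := fun i hi =>
    hz₁ i fun j h _ => z₁ j (by lia)
  have high₂ : ∀ i : ℤ, (l₂.length : ℤ) < i → IsZero (r₂.Q.X i) := fun i hi =>
    hz₂ i fun j h _ => z₂ j (by lia)
  obtain ⟨r, low, ⟨eT⟩⟩ := exists_resolution_kunneth H hl₁ hl₂ hq₁ hq₂ r₁ r₂ l₁.length l₂.length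
    (fun i hi => z₁ i (by lia)) high₁ (fun i hi => z₂ i (by lia)) high₂ hfl₁ hΦ₁ low₁ low₂
  let G := ((T p q).obj F₁).obj F₂
  have zP : ∀ i, i ≠ 0 → IsZero ((mapBifunctor P₁ P₂ (T p q) (.up ℤ)).X i) := fun i hi => by
    refine BiTotal.prop_term (s := ∅) (fun j _ => ?_) IsZero (fun h => h)
      (fun {M N} h h' => (IsZero.iff_id_eq_zero _).2 (biprod.hom_ext' _ _ (h.eq_of_src _ _) (h'.eq_of_src _ _)))
      (fun e h => h.of_iso e.symm) (fun j hj => absurd hj (Finset.notMem_empty j))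
    by_cases hj : j = 0
    · exact ((T p q).obj (P₁.X j)).map_isZero (z₂ _ (by lia))
    · exact ((T p q).flip.obj (P₂.X (i - j))).map_isZero (z₁ j hj)
  let gP : G ≅ (mapBifunctor P₁ P₂ (T p q) (.up ℤ)).X 0 :=
    (((T p q).mapIso g₁).app F₂ ≪≫ ((T p q).obj (P₁.X 0)).mapIso g₂ ≪≫
      ((T p q).obj (P₁.X 0)).mapIso (eqToIso (by rw [sub_zero]))) ≪≫
    { hom := BiTotal.ι (T p q) P₁ P₂ 0 0
      inv := BiTotal.π (T p q) P₁ P₂ 0 0
      hom_inv_id := BiTotal.ι_π _ _ _ _ _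
      inv_hom_id := by
        have := BiTotal.sum_π_ι (F := T p q) (K := P₁) (L := P₂) (n := 0) (s := {0}) fun j hj => by
          have hj' : j ≠ 0 := by simpa using hj
          exact ((T p q).flip.obj (P₂.X (0 - j))).map_isZero (z₁ j hj')
        simpa using this }
  let L := ((secA f₁ ⊤).mapHomologicalComplex (.up ℤ)).obj r₁.Q
  let M := ((secA f₂ ⊤).mapHomologicalComplex (.up ℤ)).obj r₂.Q
  haveI := r₁.qis
  haveI := r₂.qis
  haveI := r.qis
  have E₁ := AcycRes.nonempty_homology_linearEquiv A r₁.aug g₁ z₁ low₁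
    (fun i k => AcycRes.subsingleton_HH_apSum A hl₁ (r₁.apSum i) k)
  have E₂ := AcycRes.nonempty_homology_linearEquiv A r₂.aug g₂ z₂ low₂
    (fun i k => AcycRes.subsingleton_HH_apSum A hl₂ (r₂.apSum i) k)
  obtain ⟨E⟩ := AcycRes.nonempty_homology_linearEquiv A r.aug gP zP low
    (fun i k => AcycRes.subsingleton_HH_apSum A (by
      rintro _ ⟨V₁, h₁, V₂, h₂, rfl⟩
      exact AffPull.isAffineOpen_box H (hl₁ _ h₁) (hl₂ _ h₂)) (r.apSum i) k) n
  have zL : ∀ i : ℤ, i < 0 → Subsingleton (L.homology i) := fun i hi =>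
    ModuleCat.subsingleton_of_isZero
      (HomologicalComplex.ExactAt.of_isZero ((secA f₁ ⊤).map_isZero (low₁ i hi))).isZero_homology
  have zM : ∀ i : ℤ, i < 0 → Subsingleton (M.homology i) := fun i hi =>
    ModuleCat.subsingleton_of_isZero
      (HomologicalComplex.ExactAt.of_isZero ((secA f₂ ⊤).map_isZero (low₂ i hi))).isZero_homology
  have hHL : ∀ i, Module.Flat A (L.homology i) := fun i => by
    rcases Int.lt_or_le i 0 with hi | hi
    · haveI := zL i hi
      infer_instance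
    · obtain ⟨k, rfl⟩ := Int.eq_ofNat_of_zero_le hi
      haveI := hH k
      exact Module.Flat.of_linearEquiv (E₁ k).some
  have hLflat : DRing.TermwiseFlat L := fun i => Flat.flat_apSum f₁ hl₁ (r₁.apSum i) (hΦ₁ i)
  let K := LinearEquiv.ofBijective _ (TensorCx.Filtration.kmap_bijective L M hLflat l₁.length
    (fun i hi => (secA f₁ ⊤).map_isZero (high₁ i hi)) ((l₂.length : ℤ) + 1)
    (TensorCx.Filtration.exactAt_of_isZero_above M l₂.length
      fun i hi => (secA f₂ ⊤).map_isZero (high₂ i hi)) hHL (n : ℤ))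
  let e : ↥(Finset.antidiagonal n) → HTor.Antidiag (n : ℤ) := fun pq =>
    ⟨((pq.1.1 : ℤ), (pq.1.2 : ℤ)), by
      show (pq.1.1 : ℤ) + (pq.1.2 : ℤ) = (n : ℤ)
      exact_mod_cast Finset.mem_antidiagonal.1 pq.2⟩
  obtain ⟨S⟩ := nonempty_sum_equiv (A := A)
    (fun ij : HTor.Antidiag (n : ℤ) => TensorProduct A (L.homology ij.1.1) (M.homology ij.1.2)) e
    (fun x y hxy => by
      have h := congrArg Subtype.val hxy
      simp only [e, Prod.mk.injEq, Nat.cast_inj] at h
      exact Subtype.ext (Prod.ext h.1 h.2))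
    fun ij hij => by
      obtain ⟨⟨i, j⟩, hij'⟩ := ij
      rcases Int.lt_or_le i 0 with hi | hi
      · haveI := zL i hi
        exact subsingleton_of_forall_eq 0 fun x => by
          induction x using TensorProduct.induction_on with
          | zero => rfl
          | tmul a b => rw [Subsingleton.elim a 0, TensorProduct.zero_tmul]
          | add a b ha hb => rw [ha, hb, add_zero]
      rcases Int.lt_or_le j 0 with hj | hj
      · haveI := zM j hj
        exact subsingleton_of_forall_eq 0 fun x => by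
          induction x using TensorProduct.induction_on with
          | zero => rfl
          | tmul a b => rw [Subsingleton.elim b 0, TensorProduct.tmul_zero]
          | add a b ha hb => rw [ha, hb, add_zero]
      obtain ⟨i, rfl⟩ := Int.eq_ofNat_of_zero_le hi
      obtain ⟨j, rfl⟩ := Int.eq_ofNat_of_zero_le hj
      exact absurd ⟨⟨(i, j), Finset.mem_antidiagonal.2 (by
        show i + j = n
        have h : (i : ℤ) + (j : ℤ) = (n : ℤ) := hij'
        exact_mod_cast h)⟩, rfl⟩ hij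
  exact ⟨(E.symm.trans ((((HomologicalComplex.homologyFunctor _ _ (n : ℤ)).mapIso eT).toLinearEquiv.symm.trans
    K.symm).trans (S.symm.trans
      (DFinsupp.mapRange.linearEquiv fun pq => TensorProduct.congr (E₁ pq.1.1).some (E₂ pq.1.2).some)))).toAddEquiv⟩

end ZarCoh.Exchange.Kunneth
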