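import Groth.Agent.Lib.Exchange.Sections
import Groth.Prelude.Def_Formal

/-!
# `M ↦ f^* M~ ⊗ F` is linear over the base ring
-/

set_option autoImplicit false
set_option linter.style.haveILetI false
universe u

open CategoryTheory Limits AlgebraicGeometry Opposite TopologicalSpace

namespace ZarCoh.Exchange.Linear

open Groth.Agent.Lib Groth.Agent.Lib.Modules ZarCoh.Exchange.Sections

noncomputable section

theorem smulModΓ_app {X : Scheme.{u}} (M : X.Modules) (r : Coh.Γtop X) (U : X.Opens) (s : Γ(M, U)) :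
    (Formal.smulModΓ M r).app U s =
      (X.presheaf.map (homOfLE (le_top (a := U))).op r : Γ(X, U)) • s := rfl

theorem tilde_map_smul {A : Type u} [CommRing A] (M : ModuleCat.{u} A) (a : A) :
    (tilde.functor (CommRingCat.of A)).map (a • 𝟙 M) =
      Formal.smulModΓ ((tilde.functor (CommRingCat.of A)).obj M)
        ((Scheme.ΓSpecIso (CommRingCat.of A)).inv a) := by
  apply (tilde.adjunction.homEquiv M ((tilde.functor (CommRingCat.of A)).obj M)).injective
  refine ModuleCat.hom_ext (LinearMap.ext fun m => ?_)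
  show ((tilde.functor (CommRingCat.of A)).map (a • 𝟙 M)).app ⊤ (topSec M m) =
    (Formal.smulModΓ ((tilde.functor (CommRingCat.of A)).obj M) _).app ⊤ (topSec M m)
  rw [map_topSec, smulModΓ_app]
  show topSec M (a • m) = _
  rw [topSec_smul, show (homOfLE (le_top (a := (⊤ : (Spec (CommRingCat.of A)).Opens)))).op = 𝟙 _
    from rfl, CategoryTheory.Functor.map_id]
  rfl

theorem pullback_smul {X Y : Scheme.{u}} (f : X ⟶ Y) (N : Y.Modules) (r : Coh.Γtop Y) :
    (Scheme.Modules.pullback f).map (Formal.smulModΓ N r) =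
      Formal.smulModΓ ((Scheme.Modules.pullback f).obj N) (f.appTop r) := by
  apply ((Scheme.Modules.pullbackPushforwardAdjunction f).homEquiv _ _).injective
  rw [Adjunction.homEquiv_unit, Adjunction.homEquiv_unit]
  refine ((Scheme.Modules.pullbackPushforwardAdjunction f).unit.naturality _).symm.trans ?_
  ext U s
  let η := (Scheme.Modules.pullbackPushforwardAdjunction f).unit.app N
  show η.app U ((Formal.smulModΓ N r).app U s) =
    (Formal.smulModΓ ((Scheme.Modules.pullback f).obj N) (f.appTop r)).app (f ⁻¹ᵁ U) (η.app U s)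
  rw [smulModΓ_app, smulModΓ_app, Scheme.Modules.Hom.app_smul]
  let P := (Scheme.Modules.pullback f).obj N
  let x : Γ(P, f ⁻¹ᵁ U) := η.app U s
  show (f.app U (Y.presheaf.map (homOfLE (le_top (a := U))).op r)) • x = _ • x
  exact congrArg (· • x) (ConcreteCategory.congr_hom (f.naturality (homOfLE (le_top (a := U))).op) r)

theorem tmap_smul_id {X : Scheme.{u}} (P F : X.Modules) (r : Coh.Γtop X) :
    TensorMod.Basic.tmap (Formal.smulModΓ P r) (𝟙 F) =
      Formal.smulModΓ (CohB1.tensorMod P F) r := by
  refine TensorMod.Free.hom_ext_pairM fun U m n => ?_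
  rw [← TensorSec.app_tens, ← TensorSec.app_tens, TensorSec.tmap_tens, smulModΓ_app,
    smulModΓ_app, TensorSec.tens_smul_left]
  rfl

variable {A : Type u} [CommRing A] {X : Scheme.{u}} [X.Over (Spec (CommRingCat.of A))]

theorem G_map_smul (F : X.Modules) (M : ModuleCat.{u} A) (a : A) :
    (CohIII.tensorAFunctor A F).map (a • 𝟙 M) =
      Formal.smulModΓ (G F M) (Coh.toGlobal (X ↘ Spec (CommRingCat.of A)) a) := by
  rw [G_map, tilde_map_smul, pullback_smul, tmap_smul_id]
  rfl

theorem HAb_map_smul (F : X.Modules) (M : ModuleCat.{u} A) (a : A) (p : ℕ)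
    (x : Coh.HH X (G F M) p) :
    ((CohIII.tensorAFunctor A F ⋙ CohIII.HAb X p).map (a • 𝟙 M)) x = a • x := by
  show Sheaf.H.map ((SheafOfModules.toSheaf X.ringCatSheaf).map
    ((CohIII.tensorAFunctor A F).map (a • 𝟙 M))) p x = _
  rw [G_map_smul]
  rfl

end

end ZarCoh.Exchange.Linear
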