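import Groth.Agent.Lib.FlatCx.Above

/-!
# Universally exact complexes of flat modules and quasi-isomorphisms that stay so after tensoring
-/

set_option autoImplicit false
set_option linter.style.haveILetI false
universe u

open CategoryTheory CategoryTheory.Limits TensorProduct
open Groth.Agent.Lib.FlatCx Groth.Agent.Lib.FlatCx.Elem Groth.Agent.Lib.FlatCx.Above

namespace ZarCoh.Exchange.Universal

section Seq

variable {A : Type u} [CommRing A] {W : ℤ → Type u} [∀ i, AddCommGroup (W i)] [∀ i, Module A (W i)]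
  (dd : ∀ i j, W i →ₗ[A] W j)

/-- The sequence is exact at `j` after tensoring with every module. -/
def UExact (i j k : ℤ) : Prop :=
  ∀ (M : Type u) [AddCommGroup M] [Module A M],
    Function.Exact ((dd i j).rTensor M) ((dd j k).rTensor M)

theorem flat_coker_of_uexact {i j k : ℤ} [Module.Flat A (W k)] (h : UExact dd i j k) :
    Module.Flat A (W j ⧸ LinearMap.range (dd i j)) := by
  rw [Module.Flat.iff_lTensor_preserves_injective_linearMap]
  intro M N _ _ _ _ g hg
  rw [injective_iff_map_eq_zero]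
  intro x hx
  obtain ⟨z, rfl⟩ := LinearMap.rTensor_surjective M (Submodule.mkQ_surjective _) x
  have hq : ∀ (P : Type u) [AddCommGroup P] [Module A P],
      Function.Exact ((dd i j).rTensor P) ((LinearMap.range (dd i j)).mkQ.rTensor P) :=
    fun P _ _ => _root_.rTensor_exact P (LinearMap.exact_map_mkQ_range _) (Submodule.mkQ_surjective _)
  rw [Basic.lTensor_rTensor] at hx
  obtain ⟨w, hw⟩ := (hq N _).1 hx
  have h0 : (dd j k).rTensor M z = 0 := by
    apply Module.Flat.lTensor_preserves_injective_linearMap (M := W k) g hg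
    rw [map_zero, Basic.lTensor_rTensor, ← hw]
    exact (h N).apply_apply_eq_zero w
  obtain ⟨v, hv⟩ := (h M z).1 h0
  exact ((hq M) z).2 ⟨v, hv⟩

/-- An exact sequence of flat modules which is universally exact far to the right has flat cokernels. -/
theorem flat_coker [∀ i, Module.Flat A (W i)] (b : ℤ)
    (hex : ∀ i, Function.Exact (dd i (i + 1)) (dd (i + 1) (i + 1 + 1)))
    (hhigh : ∀ i, b ≤ i → UExact dd i (i + 1) (i + 1 + 1)) (i : ℤ) :
    Module.Flat A (W (i + 1) ⧸ LinearMap.range (dd i (i + 1))) := by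
  suffices key : ∀ (n : ℕ) i, b - i ≤ n →
      Module.Flat A (W (i + 1) ⧸ LinearMap.range (dd i (i + 1))) from
    key (b - i).toNat i (by omega)
  intro n
  induction n with
  | zero => exact fun i hi => flat_coker_of_uexact dd (hhigh i (by omega))
  | succ n ih =>
    intro i hi
    haveI := ih (i + 1) (by omega)
    haveI : Module.Flat A (LinearMap.range (dd (i + 1) (i + 1 + 1))) := Ker.flat_range _
    exact Module.Flat.of_linearEquiv
      ((Submodule.quotEquivOfEq _ _ (hex i).linearMap_ker_eq.symm).trans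
        (dd (i + 1) (i + 1 + 1)).quotKerEquivRange)

/-- An exact sequence of flat modules which is universally exact far to the right is universally
exact. -/
theorem uexact [∀ i, Module.Flat A (W i)] (b : ℤ)
    (hex : ∀ i, Function.Exact (dd i (i + 1)) (dd (i + 1) (i + 1 + 1)))
    (hhigh : ∀ i, b ≤ i → UExact dd i (i + 1) (i + 1 + 1)) (i : ℤ) :
    UExact dd i (i + 1) (i + 1 + 1) := fun M _ _ => by
  haveI := flat_coker dd b hex hhigh (i + 1)
  let S := LinearMap.range (dd i (i + 1))
  let e : (W (i + 1) ⧸ S) →ₗ[A] W (i + 1 + 1) :=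
    S.liftQ (dd (i + 1) (i + 1 + 1)) (hex i).linearMap_ker_eq.ge
  have he : Function.Injective e := by
    rw [← LinearMap.ker_eq_bot]
    exact Submodule.ker_liftQ_eq_bot _ _ _ (hex i).linearMap_ker_eq.le
  have hr : LinearMap.range e = LinearMap.range (dd (i + 1) (i + 1 + 1)) := Submodule.range_liftQ _ _ _
  have hsub : Function.Injective (e.rTensor M) :=
    (LinearMap.lTensor_inj_iff_rTensor_inj _ _).1 (LinearMap.lTensor_injective_of_exact_of_flat
      (LinearMap.range (dd (i + 1) (i + 1 + 1))).mkQ (Submodule.mkQ_surjective _) _ he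
      (by rw [LinearMap.exact_iff, Submodule.ker_mkQ, hr]) M)
  rw [show dd (i + 1) (i + 1 + 1) = e ∘ₗ S.mkQ from (Submodule.liftQ_mkQ _ _ _).symm,
    LinearMap.rTensor_comp]
  exact (_root_.rTensor_exact M (LinearMap.exact_map_mkQ_range _)
    (Submodule.mkQ_surjective _)).comp_injective _ hsub (map_zero _)

end Seq

section Cone

variable {A : Type u} [CommRing A] {C D : CochainComplex (ModuleCat.{u} A) ℤ} (φ : C ⟶ D)
  (M : ModuleCat.{u} A)

/-- A quasi-isomorphism of complexes of flat modules whose source is bounded above and whose target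
is universally exact far to the right stays one after tensoring. -/
theorem quasiIso_tmap [QuasiIso φ] (hC : ∀ i, Module.Flat A (C.X i))
    (hD : ∀ i, Module.Flat A (D.X i)) (b : ℤ) (hbC : ∀ i, b < i → IsZero (C.X i))
    (hbD : ∀ i, b ≤ i → UExact (W := fun i => (D.X i : Type u)) (fun i j => (D.d i j).hom)
      i (i + 1) (i + 1 + 1)) :
    QuasiIso (tmap φ M) := by
  haveI : ∀ i, Module.Flat A (C.X (i + 1) × D.X i) := fun i =>
    haveI := hC (i + 1)
    haveI := hD i
    RightExact.flat_extension (LinearMap.inl A _ _) (LinearMap.snd A _ _) LinearMap.inl_injective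
      LinearMap.snd_surjective Function.Exact.inl_snd
  have hex : ∀ i, Function.Exact ((cd φ i (i + 1)).rTensor M)
      ((cd φ (i + 1) (i + 1 + 1)).rTensor M) := fun i => by
    refine uexact (W := fun i => C.X (i + 1) × D.X i) (cd φ) b (exact_cd φ) (fun j hj => ?_) i M
    intro N _ _ x
    let p₀ := prodLeft A A (C.X (j + 1)) (D.X j) N
    let p₁ := prodLeft A A (C.X (j + 1 + 1)) (D.X (j + 1)) N
    let p₂ := prodLeft A A (C.X (j + 1 + 1 + 1)) (D.X (j + 1 + 1)) N
    haveI : Subsingleton (C.X (j + 1 + 1)) := ModuleCat.subsingleton_of_isZero (hbC _ (by omega))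
    haveI : Subsingleton (C.X (j + 1 + 1) ⊗[A] N) := inferInstance
    have hx1 : (p₁ x).1 = 0 := Subsingleton.elim _ _
    have key₁ := prodLeft_cd φ (ModuleCat.of A N) (j + 1) x
    constructor
    · intro hx
      have h2 : (D.d (j + 1) (j + 1 + 1)).hom.rTensor N (p₁ x).2 = 0 := by
        have h := (congrArg Prod.snd key₁).symm.trans
          ((congrArg (fun t => (p₂ t).2) hx).trans (congrArg Prod.snd (map_zero p₂)))
        simpa [p₁, p₂, hx1] using h
      obtain ⟨y, hy⟩ := (hbD j hj N _).1 h2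
      refine ⟨p₀.symm (0, y), p₁.injective ?_⟩
      have key₀ := prodLeft_cd φ (ModuleCat.of A N) j (p₀.symm (0, y))
      refine key₀.trans ?_
      rw [LinearEquiv.apply_symm_apply]
      exact Prod.ext ((Subsingleton.elim (α := C.X (j + 1 + 1) ⊗[A] N) _ _)) (by simpa using hy)
    · rintro ⟨y, rfl⟩
      refine p₂.injective ?_
      rw [map_zero]
      refine (prodLeft_cd φ (ModuleCat.of A N) (j + 1) _).trans ?_
      refine Prod.ext ?_ ?_
      · show -((C.d (j + 1 + 1) (j + 1 + 1 + 1)).hom.rTensor N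
          (p₁ ((cd φ j (j + 1)).rTensor N y)).1) = 0
        rw [Subsingleton.elim (p₁ ((cd φ j (j + 1)).rTensor N y)).1 0, map_zero, neg_zero]
      · have h2 : (p₁ ((cd φ j (j + 1)).rTensor N y)).2 =
            (φ.f (j + 1)).hom.rTensor N (p₀ y).1 + (D.d j (j + 1)).hom.rTensor N (p₀ y).2 :=
          congrArg Prod.snd (prodLeft_cd φ (ModuleCat.of A N) j y)
        have h3 : (D.d (j + 1) (j + 1 + 1)).hom ∘ₗ (φ.f (j + 1)).hom =
            (φ.f (j + 1 + 1)).hom ∘ₗ (C.d (j + 1) (j + 1 + 1)).hom := by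
          rw [← ModuleCat.hom_comp, φ.comm, ModuleCat.hom_comp]
        show (φ.f (j + 1 + 1)).hom.rTensor N (p₁ ((cd φ j (j + 1)).rTensor N y)).1 +
          (D.d (j + 1) (j + 1 + 1)).hom.rTensor N (p₁ ((cd φ j (j + 1)).rTensor N y)).2 = 0
        rw [Subsingleton.elim (p₁ ((cd φ j (j + 1)).rTensor N y)).1 0, map_zero, zero_add, h2,
          map_add, (hbD j hj N).apply_apply_eq_zero, add_zero, ← LinearMap.comp_apply,
          ← LinearMap.rTensor_comp, h3, LinearMap.rTensor_comp, LinearMap.comp_apply,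
          Subsingleton.elim ((C.d (j + 1) (j + 1 + 1)).hom.rTensor N (p₀ y).1) 0, map_zero]
  have key : ∀ i (c : (C.X (i + 1 + 1)) ⊗[A] M) (e : (D.X (i + 1)) ⊗[A] M),
      (C.d (i + 1 + 1) (i + 1 + 1 + 1)).hom.rTensor M c = 0 →
      (φ.f (i + 1 + 1)).hom.rTensor M c + (D.d (i + 1) (i + 1 + 1)).hom.rTensor M e = 0 →
      ∃ (c' : (C.X (i + 1)) ⊗[A] M) (e' : (D.X i) ⊗[A] M),
        -((C.d (i + 1) (i + 1 + 1)).hom.rTensor M c') = c ∧
          (φ.f (i + 1)).hom.rTensor M c' + (D.d i (i + 1)).hom.rTensor M e' = e := by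
    intro i c e hc he
    obtain ⟨y, hy⟩ := (hex i ((prodLeft A A _ _ _).symm (c, e))).1 (by
      apply (prodLeft A A (C.X (i + 1 + 1 + 1)) (D.X (i + 1 + 1)) M).injective
      rw [map_zero, prodLeft_cd, LinearEquiv.apply_symm_apply, hc, he]; simp)
    have h := congrArg (prodLeft A A (C.X (i + 1 + 1)) (D.X (i + 1)) M) hy
    rw [prodLeft_cd, LinearEquiv.apply_symm_apply, Prod.mk.injEq] at h
    exact ⟨_, _, h⟩
  rw [quasiIso_iff]
  intro p
  rw [quasiIsoAt_iff_isIso_homologyMap, ConcreteCategory.isIso_iff_bijective]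
  constructor
  · obtain ⟨i, rfl⟩ : ∃ i, i + 1 + 1 = p := ⟨p - 2, by omega⟩
    refine (injective_homologyMap_iff (tmap φ M) (prev_up (rfl : i + 1 + 1 = i + 1 + 1)) (next_up rfl)).2 ?_
    intro (c : (C.X (i + 1 + 1)) ⊗[A] M) hc (y : (D.X (i + 1)) ⊗[A] M) hy
    obtain ⟨c', e', h1, -⟩ := key i c (-y) hc (by
      rw [map_neg, show (D.d (i + 1) (i + 1 + 1)).hom.rTensor M y = (φ.f (i + 1 + 1)).hom.rTensor M c from hy]
      exact add_neg_cancel _)
    refine ⟨(-c' : (C.X (i + 1)) ⊗[A] M), ?_⟩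
    show (C.d (i + 1) (i + 1 + 1)).hom.rTensor M (-c') = c
    rw [map_neg, h1]
  · obtain ⟨i, rfl⟩ : ∃ i, i + 1 = p := ⟨p - 1, by omega⟩
    refine (surjective_homologyMap_iff (tmap φ M) (prev_up (rfl : i + 1 = i + 1)) (next_up rfl)).2 ?_
    intro (e : (D.X (i + 1)) ⊗[A] M) he
    obtain ⟨c', e', h1, h2⟩ := key i 0 e (map_zero _) (by
      rw [map_zero, zero_add]; exact he)
    refine ⟨c', (-e' : (D.X i) ⊗[A] M), ?_, ?_⟩
    · show (C.d (i + 1) (i + 1 + 1)).hom.rTensor M c' = 0
      exact neg_eq_zero.1 h1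
    · show (φ.f (i + 1)).hom.rTensor M c' = e + (D.d i (i + 1)).hom.rTensor M (-e')
      rw [map_neg, ← h2]
      abel

end Cone

end ZarCoh.Exchange.Universal
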