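import Groth.Agent.Lib.Exchange.Compare
import Groth.Agent.Lib.Exchange.Linear
import Groth.Agent.Lib.Exchange.Universal
import Groth.Agent.Lib.DR.Resolve
import Groth.Agent.Lib.DR.PseudoCoherent
import Groth.Agent.Lib.ZarCoh.Bounded
import Groth.Agent.Lib.Curves.LES
import Groth.Agent.Lib.TensorMod.LocIso
import Mathlib.Algebra.Homology.ShortComplex.Linear

/-!
# A finite free complex computing `H^p(X, f^* M~ ⊗ F)` naturally in `M`
-/

set_option autoImplicit false
set_option linter.style.haveILetI false
universe u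

open CategoryTheory Limits AlgebraicGeometry Opposite TopologicalSpace
open scoped TensorProduct

namespace ZarCoh.Exchange.Main

open Groth.Agent.Lib ZarCoh.Exchange.Sections ZarCoh.Exchange.Complex

noncomputable section

variable (A : Type u) [CommRing A] {X : Scheme.{u}} [X.Over (Spec (CommRingCat.of A))] (F : X.Modules)

local notation "pX" => (X ↘ Spec (CommRingCat.of A))

/-- `f^* A~ ⊗ F ≅ F`. -/
def oneIso : G F (ModuleCat.of A A) ≅ F :=
  TensorMod.Basic.tensorIso ((Scheme.Modules.pullback pX).mapIso
      (tildeSelf (R := CommRingCat.of A)) ≪≫ PicLoc.pullbackStructureIso pX) (Iso.refl F) ≪≫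
    TensorMod.Basic.leftUnit F

section Linear

variable {p : ℕ} {T : ModuleCat.{u} A ⥤ ModuleCat.{u} A}
  (e : T ⋙ forget₂ (ModuleCat.{u} A) AddCommGrpCat.{u} ≅ CohIII.tensorAFunctor A F ⋙ CohIII.HAb X p)
  (M : ModuleCat.{u} A)

/-- The components of a natural isomorphism with cohomology, as additive equivalences. -/
def addEquivApp : T.obj M ≃+ Coh.HH X (G F M) p := (e.app M).addCommGroupIsoToAddEquiv

variable [T.Linear A]

theorem natIso_smul (a : A) (x : T.obj M) :
    addEquivApp A F e M (a • x) = a • addEquivApp A F e M x := by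
  have h := ConcreteCategory.congr_hom (e.hom.naturality (a • 𝟙 M)) x
  have hx : a • x = T.map (a • 𝟙 M) x := by
    rw [T.map_smul, T.map_id]
    rfl
  rw [hx]
  exact h.trans (Linear.HAb_map_smul F M a p (addEquivApp A F e M x))

/-- The components of a natural isomorphism with cohomology are linear over the base. -/
def linearEquivApp : T.obj M ≃ₗ[A] Coh.HH X (G F M) p :=
  { addEquivApp A F e M with map_smul' := natIso_smul A F e M }

end Linear

/-- `TFun` is linear. -/
instance linear_TFun {ι : Type} {c : ComplexShape ι} (P : HomologicalComplex (ModuleCat.{u} A) c)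
    (p : ι) : (CohIII.TFun P p).Linear A where
  map_smul {M N} g a := by
    show HomologicalComplex.homologyMap (CohIII.tensorMap P (a • g)) p =
      a • HomologicalComplex.homologyMap (CohIII.tensorMap P g) p
    show ShortComplex.homologyMap _ = a • ShortComplex.homologyMap _
    refine Eq.trans ?_ (ShortComplex.homologyMap_smul
      (φ := (HomologicalComplex.shortComplexFunctor (ModuleCat.{u} A) c p).map (CohIII.tensorMap P g))
      (a := a))
    congr 1
    refine ShortComplex.hom_ext _ _ ?_ ?_ ?_ <;>
      exact ModuleCat.hom_ext (TensorProduct.ext' fun x m => TensorProduct.tmul_smul a x (g.hom m))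

/-- Tensoring with the ring does not change homology. -/
def tOne {ι : Type} {c : ComplexShape ι} (P : HomologicalComplex (ModuleCat.{u} A) c) (p : ι) :
    CohIII.T P p (ModuleCat.of A A) ≃ₗ[A] P.homology p :=
  (((HomologicalComplex.homologyFunctor _ _ p).mapIso
    (HomologicalComplex.Hom.isoOfComponents (fun i => (TensorProduct.rid A (P.X i)).toModuleIso)
      (fun i j _ => ModuleCat.hom_ext (TensorProduct.ext' fun x r => by
        show (P.d i j) (r • x) = r • (P.d i j) x
        rw [map_smul])) : CohIII.tensorObj P (ModuleCat.of A A) ≅ P))).toLinearEquiv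

open CochainComplex in
theorem approximable [IsNoetherianRing A] (K : CochainComplex (ModuleCat.{u} A) ℤ) (b : ℤ)
    (hK : ∀ i, Module.Finite A (K.homology i)) :
    DR.Resolve.Approximable (DR.PseudoCoherent.ff A) K b := by
  intro n E φ _ _ hE _
  haveI := hK n
  haveI := (hE (n + 1)).1
  let Z := LinearMap.ker ((mappingCone φ).d n (n + 1)).hom
  let c : Z →ₗ[A] (mappingCone φ).homology n :=
    FlatCx.Elem.cls (K := mappingCone φ) (FlatCx.Above.next_up rfl)
  let N := LinearMap.range (HomologicalComplex.homologyMap (mappingCone.inr φ) n).hom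
  let f : Z →ₗ[A] E.X (n + 1) := ((mappingCone.fst φ).1.v n (n + 1) rfl).hom ∘ₗ Z.subtype
  have hk : LinearMap.ker f ≤ LinearMap.ker (N.mkQ ∘ₗ c) := fun z hz => by
    rw [LinearMap.mem_ker, LinearMap.comp_apply, Submodule.mkQ_apply, Submodule.Quotient.mk_eq_zero]
    have hid := ConcreteCategory.congr_hom (mappingCone.id_X φ n (n + 1) rfl) z.1
    let k : K.X n := (mappingCone.snd φ).v n n (add_zero n) z.1
    have hk' : (mappingCone.inr φ).f n k = z.1 := by
      have hz' : (mappingCone.fst φ).1.v n (n + 1) rfl z.1 = 0 := hz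
      simpa [hz', k] using hid
    have hd : K.d n (n + 1) k = 0 := by
      have h1 : (mappingCone φ).d n (n + 1) ((mappingCone.inr φ).f n k) = 0 := by
        rw [hk']; exact z.2
      rw [← ConcreteCategory.comp_apply, mappingCone.inr_f_d, ConcreteCategory.comp_apply] at h1
      have h2 := congrArg ((mappingCone.snd φ).v (n + 1) (n + 1) (add_zero _)) h1
      rwa [← ConcreteCategory.comp_apply, mappingCone.inr_f_snd_v, ConcreteCategory.id_apply,
        map_zero] at h2
    exact ⟨FlatCx.Elem.cls (FlatCx.Above.next_up rfl) ⟨k, hd⟩,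
      FlatCx.Elem.homologyMap_cls (mappingCone.inr φ) (FlatCx.Above.next_up rfl) ⟨k, hd⟩ z hk'⟩
  haveI : Module.Finite A (Z ⧸ LinearMap.ker f) :=
    Module.Finite.equiv f.quotKerEquivRange.symm
  haveI : Module.Finite A (((mappingCone φ).homology n) ⧸ N) := by
    refine Module.Finite.of_surjective ((LinearMap.ker f).liftQ (N.mkQ ∘ₗ c) hk) fun x => ?_
    obtain ⟨y, rfl⟩ := Submodule.mkQ_surjective N x
    obtain ⟨z, rfl⟩ := FlatCx.Elem.cls_surjective (K := mappingCone φ) (FlatCx.Above.next_up rfl) y
    exact ⟨Submodule.Quotient.mk z, rfl⟩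
  haveI : Module.Finite A ((mappingCone φ).homology n) := Module.Finite.of_submodule_quotient N
  obtain ⟨F', π, hF, hπ⟩ := DR.PseudoCoherent.exists_free_cover (A := A) ((mappingCone φ).homology n)
  exact ⟨F', π, hF, (ModuleCat.epi_iff_surjective π).2 hπ⟩

/-- Resolution by finite free modules. -/
theorem exists_resolution_ff [IsNoetherianRing A] (K : CochainComplex (ModuleCat.{u} A) ℤ) (b : ℤ)
    (hb : ∀ i, b < i → K.ExactAt i) (hK : ∀ i, Module.Finite A (K.homology i)) :
    ∃ (L : CochainComplex (ModuleCat.{u} A) ℤ) (s : L ⟶ K),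
      (∀ i, b < i → IsZero (L.X i)) ∧ (∀ i, Module.Finite A (L.X i) ∧ Module.Free A (L.X i)) ∧
        QuasiIso s :=
  DR.Resolve.exists_resolution DR.PseudoCoherent.good_ff DR.PseudoCoherent.projective_of_ff hb
    (approximable A K b hK)

/-- `H^p(X, f^* M~ ⊗ F)` is computed by a bounded above complex of finite free modules, when `F` is
flat over the base and has finite cohomology. -/
theorem exists_rep [IsNoetherianRing A] [QuasiCompact pX] [IsSeparated pX] [F.IsQuasicoherent]
    (hfl : FlatMod.IsFlatOver pX F) (hfin : ∀ p, Module.Finite A (Coh.HH X F p)) :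
    ∃ (b : ℤ) (L : CochainComplex (ModuleCat.{u} A) ℤ),
      (∀ i, b < i → IsZero (L.X i)) ∧ (∀ i, Module.Finite A (L.X i) ∧ Module.Free A (L.X i)) ∧
      (∀ i : ℤ, i < 0 → ∀ M, IsZero (CohIII.T L i M)) ∧
      ∀ p : ℕ, Nonempty (CohIII.TFun L ((p : ℕ) : ℤ) ⋙ forget₂ (ModuleCat.{u} A) AddCommGrpCat.{u} ≅
        CohIII.tensorAFunctor A F ⋙ CohIII.HAb X p) := by
  haveI : X.IsSeparated := ⟨by rw [← terminal.comp_from pX]; infer_instance⟩
  haveI : CompactSpace X := (quasiCompact_iff_compactSpace pX).mp inferInstance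
  obtain ⟨s, hs, hcov⟩ :=
    isCompact_and_isOpen_iff_finite_and_eq_biUnion_affineOpens.mp
      ⟨(isCompact_univ : IsCompact (Set.univ : Set X)), isOpen_univ⟩
  haveI := hs.to_subtype
  let U : s → X.Opens := fun i => i.1.1
  have hU : ∀ {q : ℕ} (i : Fin (q + 1) → s), IsAffineOpen (Cech.Complex.inter U i) := fun i =>
    IsAffineOpen.iInf fun a => (i a).1.2
  have hUtop : iSup U = ⊤ := by
    apply TopologicalSpace.Opens.ext
    rw [TopologicalSpace.Opens.coe_iSup, TopologicalSpace.Opens.coe_top, hcov]
    ext x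
    simp
  have hC : ∀ i, Module.Flat A ((C A U F).X i) := fun i => by
    rcases Int.lt_or_le i 0 with hi | hi
    · haveI := ModuleCat.subsingleton_of_isZero (isZero_C A U F i hi)
      infer_instance
    · obtain ⟨q, rfl⟩ := Int.eq_ofNat_of_zero_le hi
      haveI : ∀ j : Fin (q + 1) → s,
          Module.Flat A ((CechRes.Sec.secA pX (Cech.Complex.inter U j)).obj F) := fun j =>
        CechRes.Flat.secFlat_of_isFlatOver pX F hfl _ (hU j)
      classical
      haveI := Fintype.ofFinite s
      exact Module.Flat.of_linearEquiv (DFinsupp.linearEquivFunOnFintype (R := A)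
        (M := fun j : Fin (q + 1) → s =>
          ((CechRes.Sec.secA pX (Cech.Complex.inter U j)).obj F : Type u))).symm
  have iso := Compare.nonempty_natIso A U F hU hUtop
  obtain ⟨n₀, hn₀⟩ := ZarCoh.Bounded.exists_bound_HH X
  have hT : ∀ (M : ModuleCat.{u} A) (q : ℕ), n₀ ≤ q → Subsingleton (CohIII.T (C A U F) (q : ℤ) M) :=
    fun M q hq => by
      haveI : ((tilde.functor (CommRingCat.of A)).obj M).IsQuasicoherent := by
        dsimp [tilde.functor]; infer_instance
      haveI := QCoh.Pullback.isQCoh_pullback pX ((tilde.functor (CommRingCat.of A)).obj M)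
      haveI : (G F M).IsQuasicoherent := TensorMod.TensorQCoh.isQCoh_tensorMod
        ((Scheme.Modules.pullback pX).obj ((tilde.functor (CommRingCat.of A)).obj M)) F
      haveI := hn₀ (G F M) inferInstance q hq
      exact (linearEquivApp A F (iso q).some M).toEquiv.subsingleton
  let e₁ : ∀ q : ℕ, (C A U F).homology (q : ℤ) ≃ₗ[A] Coh.HH X F q := fun q =>
    (tOne A (C A U F) (q : ℤ)).symm.trans
      ((linearEquivApp A F (iso q).some (ModuleCat.of A A)).trans
        (Curves.LES.isoK A (oneIso A F) q))
  have hb : ∀ i, (n₀ : ℤ) < i → (C A U F).ExactAt i := fun i hi => by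
    obtain ⟨q, rfl⟩ := Int.eq_ofNat_of_zero_le (show 0 ≤ i by omega)
    haveI := hT (ModuleCat.of A A) q (by omega)
    haveI := (tOne A (C A U F) (q : ℤ)).symm.toEquiv.subsingleton
    rw [HomologicalComplex.exactAt_iff_isZero_homology]
    exact ModuleCat.isZero_of_subsingleton _
  have hfinC : ∀ i, Module.Finite A ((C A U F).homology i) := fun i => by
    rcases Int.lt_or_le i 0 with hi | hi
    · haveI := ModuleCat.subsingleton_of_isZero ((HomologicalComplex.ExactAt.of_isZero
        (isZero_C A U F i hi)).isZero_homology)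
      infer_instance
    · obtain ⟨q, rfl⟩ := Int.eq_ofNat_of_zero_le hi
      haveI := hfin q
      exact Module.Finite.equiv (e₁ q).symm
  obtain ⟨L, u, hL0, hLf, hu⟩ := exists_resolution_ff A (C A U F) (n₀ : ℤ) hb hfinC
  have hq : ∀ (p : ℤ) (M : ModuleCat.{u} A), IsIso (HomologicalComplex.homologyMap
      (Groth.Agent.Lib.FlatCx.Above.tmap u M) p) := fun p M => by
    haveI := hu
    haveI : ∀ i, Module.Flat A (L.X i) := fun i => haveI := (hLf i).2; inferInstance
    haveI := Universal.quasiIso_tmap u M (fun i => inferInstance) hC n₀ hL0 fun i hi N _ _ x => by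
      obtain ⟨q, hq⟩ := Int.eq_ofNat_of_zero_le (show 0 ≤ i + 1 by omega)
      haveI := hT (ModuleCat.of A N) q (by omega)
      constructor
      · intro hx
        have h0 : IsZero ((CohIII.tensorObj (C A U F) (ModuleCat.of A N)).homology (i + 1)) := by
          rw [hq]; exact ModuleCat.isZero_of_subsingleton _
        obtain ⟨y, hy⟩ := (FlatCx.Elem.isZero_homology_iff (FlatCx.Above.prev_up rfl)
          (FlatCx.Above.next_up rfl)).1 h0 x hx
        exact ⟨y, hy⟩
      · rintro ⟨y, rfl⟩
        rw [← LinearMap.comp_apply, ← LinearMap.rTensor_comp, ← ModuleCat.hom_comp,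
          (C A U F).d_comp_d, ModuleCat.hom_zero, LinearMap.rTensor_zero, LinearMap.zero_apply]
    infer_instance
  refine ⟨n₀, L, hL0, hLf, fun i hi M => ?_, fun p => ?_⟩
  · have hz : IsZero ((CohIII.tensorObj (C A U F) M).homology i) :=
      (HomologicalComplex.ExactAt.of_isZero
        ((MonoidalCategory.tensorRight M).map_isZero (isZero_C A U F i hi))).isZero_homology
    haveI := hq i M
    exact hz.of_iso (asIso (HomologicalComplex.homologyMap (Groth.Agent.Lib.FlatCx.Above.tmap u M) i))
  refine ⟨?_ ≪≫ (iso p).some⟩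
  exact Functor.isoWhiskerRight (NatIso.ofComponents (fun M => @asIso _ _ _ _ _ (hq p M)) fun g => by
    show HomologicalComplex.homologyMap (CohIII.tensorMap L g) _ ≫
        HomologicalComplex.homologyMap (Groth.Agent.Lib.FlatCx.Above.tmap u _) _ =
      HomologicalComplex.homologyMap (Groth.Agent.Lib.FlatCx.Above.tmap u _) _ ≫
        HomologicalComplex.homologyMap (CohIII.tensorMap (C A U F) g) _
    rw [← HomologicalComplex.homologyMap_comp, ← HomologicalComplex.homologyMap_comp]
    congr 1
    refine HomologicalComplex.hom_ext _ _ fun i => ModuleCat.hom_ext (TensorProduct.ext' fun x m => ?_)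
    rfl) _

end

end ZarCoh.Exchange.Main
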