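import Groth.Agent.Lib.Exchange.BaseChange
import Groth.Agent.Lib.Exchange.Main

/-!
# Cohomology of the fibres from the exchange complex
-/

set_option autoImplicit false
set_option linter.style.haveILetI false
universe u

open CategoryTheory Limits AlgebraicGeometry

namespace ZarCoh.Exchange.Fibre

open Groth.Agent.Lib ZarCoh.Exchange.Main

noncomputable section

section BC

variable {A A' : Type u} [CommRing A] [CommRing A'] [Algebra A A'] {X X' : Scheme.{u}}
  [X.Over (Spec (CommRingCat.of A))] [X'.Over (Spec (CommRingCat.of A'))] {g' : X' ⟶ X}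
  (hsq : IsPullback g' (X' ↘ Spec (CommRingCat.of A')) (X ↘ Spec (CommRingCat.of A))
    (Spec.map (CommRingCat.ofHom (algebraMap A A'))))
  (F : X.Modules) [F.IsQuasicoherent]
  [QuasiCompact (X ↘ Spec (CommRingCat.of A))] [IsSeparated (X ↘ Spec (CommRingCat.of A))]
  {ι : Type} {c : ComplexShape ι} {P : HomologicalComplex (ModuleCat.{u} A) c} {i : ι} {p : ℕ}

include hsq in
/-- The cohomology of the inverse image is the homology of the base-changed complex. -/
theorem nonempty_linearEquiv
    (e : CohIII.TFun P i ⋙ forget₂ (ModuleCat.{u} A) AddCommGrpCat.{u} ≅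
      CohIII.tensorAFunctor A F ⋙ CohIII.HAb X p) :
    Nonempty (Coh.HH X' ((Scheme.Modules.pullback g').obj F) p ≃ₗ[A']
      (CohIII.bcCx (algebraMap A A') P).homology i) := by
  obtain ⟨b⟩ := BaseChange.nonempty_baseChange_iso hsq F p
  let e' : CohIII.TFun (CohIII.bcCx (algebraMap A A') P) i ⋙
      forget₂ (ModuleCat.{u} A') AddCommGrpCat.{u} ≅
        CohIII.tensorAFunctor A' ((Scheme.Modules.pullback g').obj F) ⋙ CohIII.HAb X' p :=
    (ExtScalars.iso (ExtScalars.isBCCx_bcCx A' P) i).symm ≪≫
      Functor.isoWhiskerLeft (ExtScalars.res (A := A) (B := A')) e ≪≫ b.symm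
  exact ⟨(Curves.LES.isoK A' (oneIso A' ((Scheme.Modules.pullback g').obj F)) p).symm.trans
    ((linearEquivApp A' _ e' (ModuleCat.of A' A')).symm.trans (tOne A' _ i))⟩

end BC

section Fiber

variable {A : Type u} [CommRing A] {X : Scheme.{u}} (f : X ⟶ Spec (CommRingCat.of A))
  (F : X.Modules)

theorem isPullback_fiber (x : PrimeSpectrum A) :
    IsPullback (f.fiberι x)
      (f.fiberToSpecResidueField x ≫ Spec.map (Scheme.Spec.residueFieldIso (CommRingCat.of A) x).inv)
      f (Spec.map (CommRingCat.ofHom (algebraMap A x.asIdeal.ResidueField))) := by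
  refine IsPullback.of_iso (IsPullback.of_hasPullback f ((Spec (CommRingCat.of A)).fromSpecResidueField x))
    (Iso.refl _) (Iso.refl _) (asIso (Spec.map (Scheme.Spec.residueFieldIso (CommRingCat.of A) x).inv))
    (Iso.refl _) ?_ ?_ ?_ ?_
  · exact (Category.comp_id _).trans (Category.id_comp _).symm
  · exact (Category.id_comp _).symm
  · exact (Category.comp_id _).trans (Category.id_comp _).symm
  · exact (Category.comp_id _).trans
      (Scheme.Spec.map_residueFieldIso_inv_eq_fromSpecResidueField (CommRingCat.of A) x).symm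

theorem toGlobal_comp_residueFieldIso (x : PrimeSpectrum A) {X' : Scheme.{u}}
    (h : X' ⟶ Spec ((Spec (CommRingCat.of A)).residueField x))
    (r : CommRingCat.of x.asIdeal.ResidueField) :
    Coh.toGlobal (X := X') (h ≫ Spec.map (Scheme.Spec.residueFieldIso (CommRingCat.of A) x).inv) r =
      Coh.toGlobal (X := X') h ((Scheme.Spec.residueFieldIso (CommRingCat.of A) x).inv r) := by
  show (h ≫ Spec.map _).appTop ((Scheme.ΓSpecIso _).inv r) =
    h.appTop ((Scheme.ΓSpecIso _).inv ((Scheme.Spec.residueFieldIso (CommRingCat.of A) x).inv r))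
  rw [Scheme.Hom.comp_appTop, CommRingCat.comp_apply]
  exact congrArg h.appTop
    (ConcreteCategory.congr_hom (Scheme.ΓSpecIso_inv_naturality
      (Scheme.Spec.residueFieldIso (CommRingCat.of A) x).inv) r).symm

variable [QuasiCompact f] [IsSeparated f] [F.IsQuasicoherent]
  {ι : Type} {c : ComplexShape ι} {P : HomologicalComplex (ModuleCat.{u} A) c} {i : ι} {p : ℕ}

/-- The fibre dimensions are the dimensions of the base-changed complex. -/
theorem fiberRank_eq (x : PrimeSpectrum A)
    (e : letI : X.Over (Spec (CommRingCat.of A)) := ⟨f⟩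
      CohIII.TFun P i ⋙ forget₂ (ModuleCat.{u} A) AddCommGrpCat.{u} ≅
        CohIII.tensorAFunctor A F ⋙ CohIII.HAb X p) :
    CohIII.fiberRank f F p x = CohIII.dRank P i x := by
  letI : X.Over (Spec (CommRingCat.of A)) := ⟨f⟩
  letI : (f.fiber x).Over (Spec (CommRingCat.of x.asIdeal.ResidueField)) :=
    ⟨f.fiberToSpecResidueField x ≫ Spec.map (Scheme.Spec.residueFieldIso (CommRingCat.of A) x).inv⟩
  haveI : QuasiCompact (X ↘ Spec (CommRingCat.of A)) := ‹QuasiCompact f›
  haveI : IsSeparated (X ↘ Spec (CommRingCat.of A)) := ‹IsSeparated f›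
  obtain ⟨E⟩ := nonempty_linearEquiv (A' := x.asIdeal.ResidueField) (X' := f.fiber x)
    (isPullback_fiber f x) F e
  refine Eq.trans ?_ E.finrank_eq
  refine congrArg Cardinal.toNat (rank_eq_of_equiv_equiv
    (Scheme.Spec.residueFieldIso (CommRingCat.of A) x).hom (AddEquiv.refl _)
    ((Scheme.Spec.residueFieldIso (CommRingCat.of A) x).commRingCatIsoToRingEquiv.bijective) ?_)
  intro r m
  show Coh.toGlobal (X := f.fiber x) (f.fiberToSpecResidueField x) r • m =
    Coh.toGlobal (X := f.fiber x) (f.fiberToSpecResidueField x ≫ _)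
      ((Scheme.Spec.residueFieldIso (CommRingCat.of A) x).hom r) • m
  rw [toGlobal_comp_residueFieldIso, Iso.hom_inv_id_apply]

end Fiber

end

end ZarCoh.Exchange.Fibre
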