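import Groth.Agent.Lib.Exchange.Local
import Groth.Agent.Lib.Exchange.Fibre
import Groth.Agent.Lib.RefHull.LocFree

/-!
# The exchange complex over an affine open of the base
-/

set_option autoImplicit false
set_option linter.style.haveILetI false
universe u

open CategoryTheory Limits AlgebraicGeometry TopologicalSpace

namespace ZarCoh.Exchange.LocalRep

open Groth.Agent.Lib ZarCoh.Exchange.Local ZarCoh.Exchange.Main

noncomputable section

theorem toGlobal_comp {K K' : CommRingCat.{u}} (φ : K ⟶ K') {W : Scheme.{u}} (h : W ⟶ Spec K')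
    (r : K) : Coh.toGlobal (A := K) (X := W) (h ≫ Spec.map φ) r =
      Coh.toGlobal (A := K') (X := W) h (φ r) := by
  show (h ≫ Spec.map _).appTop ((Scheme.ΓSpecIso _).inv r) = h.appTop ((Scheme.ΓSpecIso _).inv (φ r))
  rw [Scheme.Hom.comp_appTop, CommRingCat.comp_apply]
  exact congrArg h.appTop (ConcreteCategory.congr_hom (Scheme.ΓSpecIso_inv_naturality φ) r).symm

variable {X S : Scheme.{u}} (f : X ⟶ S) (V : S.Opens) [IsAffine (V : Scheme.{u})]

/-- The affine open, as a map from a spectrum. -/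
def k : Spec (CommRingCat.of (AV V)) ⟶ S := (V : Scheme.{u}).isoSpec.inv ≫ V.ι

instance : IsOpenImmersion (k V) := by unfold k; infer_instance

theorem isPullback_k :
    IsPullback (f ⁻¹ᵁ V).ι (XV f V ↘ Spec (CommRingCat.of (AV V))) f (k V) := by
  refine IsPullback.of_iso (isPullback_morphismRestrict f V).flip (Iso.refl _) (Iso.refl _)
    (V : Scheme.{u}).isoSpec (Iso.refl _) ?_ ?_ ?_ ?_
  · exact (Category.comp_id _).trans (Category.id_comp _).symm
  · exact (Category.id_comp _).symm
  · exact (Category.comp_id _).trans (Category.id_comp _).symm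
  · rw [Iso.refl_hom, Category.comp_id, k, Iso.hom_inv_id_assoc]

instance [IsLocallyNoetherian S] : IsNoetherianRing (AV V) :=
  IsLocallyNoetherian.component_noetherian ⟨⊤, isAffineOpen_top (V : Scheme.{u})⟩

variable (F : X.Modules) [F.IsQuasicoherent]

/-- The fibre dimensions in the local exchange complex. -/
theorem fiberRank_eq [IsProper f] (x : PrimeSpectrum (AV V)) {ι : Type} {c : ComplexShape ι}
    {P : HomologicalComplex (ModuleCat.{u} (AV V)) c} {i : ι} {p : ℕ}
    (e : CohIII.TFun P i ⋙ forget₂ (ModuleCat.{u} (AV V)) AddCommGrpCat.{u} ≅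
      CohIII.tensorAFunctor (AV V) (MV f V F) ⋙ CohIII.HAb (XV f V) p) :
    CohIII.fiberRank f F p (k V x) = CohIII.dRank P i x := by
  let y : S := k V x
  let θ : S.residueField y ≅ CommRingCat.of x.asIdeal.ResidueField :=
    asIso ((k V).residueFieldMap x) ≪≫ Scheme.Spec.residueFieldIso (CommRingCat.of (AV V)) x
  have hθ : Spec.map θ.hom ≫ S.fromSpecResidueField y =
      Spec.map (CommRingCat.ofHom (algebraMap (AV V) x.asIdeal.ResidueField)) ≫ k V := by
    rw [Iso.trans_hom, asIso_hom, Spec.map_comp, Category.assoc,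
      Scheme.Hom.SpecMap_residueFieldMap_fromSpecResidueField, ← Category.assoc]
    congr 1
    rw [← Scheme.Spec.map_residueFieldIso_inv_eq_fromSpecResidueField, ← Category.assoc,
      ← Spec.map_comp, Iso.inv_hom_id, Spec.map_id, Category.id_comp]
  letI : (f.fiber y).Over (Spec (CommRingCat.of x.asIdeal.ResidueField)) :=
    ⟨f.fiberToSpecResidueField y ≫ Spec.map θ.inv⟩
  have hR := isPullback_k f V
  have hbig : IsPullback (f.fiberι y)
      (f.fiber y ↘ Spec (CommRingCat.of x.asIdeal.ResidueField)) f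
      (Spec.map (CommRingCat.ofHom (algebraMap (AV V) x.asIdeal.ResidueField)) ≫ k V) := by
    refine IsPullback.of_iso (IsPullback.of_hasPullback f (S.fromSpecResidueField y))
      (Iso.refl _) (Iso.refl _) (asIso (Spec.map θ.inv)) (Iso.refl _) ?_ ?_ ?_ ?_
    · exact (Category.comp_id _).trans (Category.id_comp _).symm
    · exact (Category.id_comp _).symm
    · exact (Category.comp_id _).trans (Category.id_comp _).symm
    · rw [Iso.refl_hom, Category.comp_id, asIso_hom, ← hθ, ← Category.assoc, ← Spec.map_comp,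
        Iso.hom_inv_id, Spec.map_id, Category.id_comp]
  let g' : f.fiber y ⟶ XV f V := hR.lift (f.fiberι y)
    ((f.fiber y ↘ Spec (CommRingCat.of x.asIdeal.ResidueField)) ≫
      Spec.map (CommRingCat.ofHom (algebraMap (AV V) x.asIdeal.ResidueField)))
    (by rw [Category.assoc]; exact hbig.w)
  have hg : g' ≫ (f ⁻¹ᵁ V).ι = f.fiberι y := hR.lift_fst _ _ _
  have hsq : IsPullback g' (f.fiber y ↘ Spec (CommRingCat.of x.asIdeal.ResidueField))
      (XV f V ↘ Spec (CommRingCat.of (AV V)))
      (Spec.map (CommRingCat.ofHom (algebraMap (AV V) x.asIdeal.ResidueField))) :=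
    IsPullback.of_right (hg.symm ▸ hbig) (hR.lift_snd _ _ _) hR
  obtain ⟨E⟩ := Fibre.nonempty_linearEquiv hsq (MV f V F) e
  let i : (Scheme.Modules.pullback g').obj (MV f V F) ≅ CohIII.fiberMod f F y :=
    (Scheme.Modules.pullback g').mapIso
        ((Scheme.Modules.restrictFunctorIsoPullback (f ⁻¹ᵁ V).ι).app F) ≪≫
      (Scheme.Modules.pullbackComp g' (f ⁻¹ᵁ V).ι).app F ≪≫
      (Scheme.Modules.pullbackCongr hg).app F
  refine Eq.trans ?_ ((Curves.LES.isoK x.asIdeal.ResidueField i.symm p).trans E).finrank_eq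
  refine congrArg Cardinal.toNat (rank_eq_of_equiv_equiv θ.hom (AddEquiv.refl _)
    θ.commRingCatIsoToRingEquiv.bijective ?_)
  intro r m
  show Coh.toGlobal (X := f.fiber y) (f.fiberToSpecResidueField y) r • m =
    Coh.toGlobal (X := f.fiber y) (f.fiberToSpecResidueField y ≫ Spec.map θ.inv) (θ.hom r) • m
  rw [toGlobal_comp, Iso.hom_inv_id_apply]
  rfl

variable [HasInjectiveResolutions X.Modules]

/-- The sections of the higher direct images over an affine open are the cohomology of the preimage. -/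
theorem nonempty_sections [QuasiCompact f] [QuasiSeparated f] (p : ℕ) :
    Nonempty (Γ(((Coh.Rpush f p).obj F).restrict V.ι, ⊤) ≃ₗ[AV V]
      Coh.HH (XV f V) (MV f V F) p) := by
  cases p with
  | zero => exact nonempty_linearEquiv_zero f V F
  | succ p => exact nonempty_linearEquiv_succ f V p

/-- A complex of finite free modules computing the higher direct images over an affine open and the
cohomology of the fibres over it. -/
theorem exists_rep [IsProper f] [IsLocallyNoetherian S] (hF : Coh.IsCoh F)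
    (hfl : FlatMod.IsFlatOver f F) :
    ∃ (b : ℤ) (P : ChainComplex (ModuleCat.{u} (AV V)) ℤ),
      (∀ i, i < b → IsZero (P.X i)) ∧ (∀ i, Module.Finite (AV V) (P.X i)) ∧
      (∀ i, Module.Free (AV V) (P.X i)) ∧ (∀ i : ℤ, 0 < i → ∀ M, IsZero (CohIII.T P i M)) ∧
      ∀ p : ℕ, Nonempty (Γ(((Coh.Rpush f p).obj F).restrict V.ι, ⊤) ≃ₗ[AV V] P.homology (-(p : ℤ))) ∧
        ∀ x : PrimeSpectrum (AV V), CohIII.fiberRank f F p (k V x) = CohIII.dRank P (-(p : ℤ)) x := by
  haveI : IsLocallyNoetherian X := LocallyOfFiniteType.isLocallyNoetherian f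
  obtain ⟨b, P, h1, h2, h3, h4, hiso⟩ := Proper.exists_rep (AV V) (MV f V F)
    (RefHull.LocFree.isCoh_restrict hF (f ⁻¹ᵁ V)) (flat_over f V hfl)
  refine ⟨b, P, h1, h2, h3, h4, fun p => ?_⟩
  obtain ⟨e⟩ := hiso p
  obtain ⟨s⟩ := nonempty_sections f V F p
  exact ⟨⟨s.trans ((Curves.LES.isoK (AV V) (oneIso (AV V) (MV f V F)) p).symm.trans
    ((linearEquivApp (AV V) _ e (ModuleCat.of (AV V) (AV V))).symm.trans (tOne (AV V) P _)))⟩,
    fun x => fiberRank_eq f V F x e⟩

end

end ZarCoh.Exchange.LocalRep
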