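import Groth.Agent.Lib.ZarCoh.FlatBC.Equiv
import Groth.Agent.Lib.ZarCoh.Morph
import Groth.Agent.Lib.Curves.LES
import Groth.Agent.H78.Existence.AmpleVanish
import Groth.Agent.Lib.Cyc.FP.Stalk

/-!
# Vanishing on preimages of smaller affine opens, and relative Serre vanishing
-/

set_option autoImplicit false
set_option linter.style.haveILetI false

universe u

open CategoryTheory CategoryTheory.Limits AlgebraicGeometry Opposite TopologicalSpace

namespace Groth.Agent.Lib.Exchange.RelVanish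

open Groth.Agent.Lib

variable {X S : Scheme.{u}} (f : X ⟶ S)

theorem isPullback_restrict_of_le {V U : S.Opens} (h : V ≤ U) :
    IsPullback (X.homOfLE (f.preimage_mono h)) (f ∣_ V) (f ∣_ U) (S.homOfLE h) := by
  refine IsPullback.of_right ?_ ?_ (isPullback_morphismRestrict f U).flip
  · rw [Scheme.homOfLE_ι, Scheme.homOfLE_ι]
    exact (isPullback_morphismRestrict f V).flip
  · rw [← cancel_mono U.ι, Category.assoc, Category.assoc, morphismRestrict_ι, Scheme.homOfLE_ι,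
      morphismRestrict_ι, Scheme.homOfLE_ι_assoc]

/-- The preimage of an affine open, over the spectrum of its functions. -/
noncomputable abbrev overA {V : S.Opens} (hV : IsAffineOpen V) :
    (f ⁻¹ᵁ V : Scheme.{u}) ⟶ Spec Γ(S, V) :=
  (f ∣_ V) ≫ hV.isoSpec.hom

theorem homOfLE_isoSpec {V W : S.Opens} (hV : IsAffineOpen V) (hW : IsAffineOpen W) (h : W ≤ V) :
    S.homOfLE h ≫ hV.isoSpec.hom = hW.isoSpec.hom ≫ Spec.map (S.presheaf.map (homOfLE h).op) := by
  rw [← cancel_mono hV.fromSpec, Category.assoc, Category.assoc, hV.map_fromSpec hW (homOfLE h).op,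
    IsAffineOpen.isoSpec_hom_fromSpec, IsAffineOpen.isoSpec_hom_fromSpec, Scheme.homOfLE_ι]

theorem isPullback_overA {V W : S.Opens} (hV : IsAffineOpen V) (hW : IsAffineOpen W) (h : W ≤ V) :
    IsPullback (X.homOfLE (f.preimage_mono h)) (overA f hW) (overA f hV)
      (Spec.map (S.presheaf.map (homOfLE h).op)) :=
  (isPullback_restrict_of_le f h).paste_vert
    (IsPullback.of_vert_isIso ⟨homOfLE_isoSpec hV hW h⟩)

/-- Cohomology vanishing on the preimage of an affine open passes to affine opens inside it. -/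
theorem subsingleton_preimage_of_le [QuasiCompact f] [QuasiSeparated f] (M : X.Modules)
    [M.IsQuasicoherent] {V W : S.Opens} (hV : IsAffineOpen V) (hW : IsAffineOpen W) (h : W ≤ V)
    (n : ℕ) (h0 : Subsingleton (Coh.HH _ (M.restrict (f ⁻¹ᵁ V).ι) n)) :
    Subsingleton (CohTop.HU (Coh.toAb M) n (f ⁻¹ᵁ W)) := by
  letI : Algebra Γ(S, V) Γ(S, W) := (S.presheaf.map (homOfLE h).op).hom.toAlgebra
  letI : (f ⁻¹ᵁ V : Scheme.{u}).Over (Spec (CommRingCat.of Γ(S, V))) := ⟨overA f hV⟩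
  letI : (f ⁻¹ᵁ W : Scheme.{u}).Over (Spec (CommRingCat.of Γ(S, W))) := ⟨overA f hW⟩
  have hflat : Flat (Spec.map (S.presheaf.map (homOfLE h).op)) := by
    haveI : IsOpenImmersion (hW.isoSpec.hom ≫ Spec.map (S.presheaf.map (homOfLE h).op)) := by
      rw [← homOfLE_isoSpec hV hW h]; infer_instance
    haveI : IsOpenImmersion (Spec.map (S.presheaf.map (homOfLE h).op)) := by
      rw [← Iso.inv_hom_id_assoc hW.isoSpec (Spec.map (S.presheaf.map (homOfLE h).op))]
      infer_instance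
    infer_instance
  haveI : Module.Flat Γ(S, V) Γ(S, W) := (HasRingHomProperty.Spec_iff (P := @Flat)).1 hflat
  haveI : QuasiCompact (overA f hV) := inferInstance
  haveI : CompactSpace (f ⁻¹ᵁ V : Scheme.{u}) :=
    QuasiCompact.compactSpace_of_compactSpace (overA f hV)
  haveI : QuasiSeparatedSpace (f ⁻¹ᵁ V : Scheme.{u}) :=
    quasiSeparatedSpace_of_quasiSeparated (overA f hV)
  let g' := X.homOfLE (f.preimage_mono h)
  obtain ⟨e⟩ := _root_.ZarCoh.FlatBC.Equiv.nonempty_linearEquiv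
    (A := Γ(S, V)) (B := Γ(S, W)) (g' := g') (isPullback_overA f hV hW h) (M.restrict (f ⁻¹ᵁ V).ι) n
  haveI h1 : Subsingleton (Coh.HH _ ((Scheme.Modules.pullback g').obj (M.restrict (f ⁻¹ᵁ V).ι)) n) := by
    haveI := h0
    exact e.symm.toEquiv.subsingleton
  let i : (Scheme.Modules.pullback g').obj (M.restrict (f ⁻¹ᵁ V).ι) ≅ M.restrict (f ⁻¹ᵁ W).ι :=
    (Scheme.Modules.pullback g').mapIso ((Scheme.Modules.restrictFunctorIsoPullback _).app M) ≪≫
      (Scheme.Modules.pullbackComp g' (f ⁻¹ᵁ V).ι).app M ≪≫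
      (Scheme.Modules.pullbackCongr (X.homOfLE_ι (f.preimage_mono h))).app M ≪≫
      ((Scheme.Modules.restrictFunctorIsoPullback _).app M).symm
  haveI h2 : Subsingleton (Coh.HH _ (M.restrict (f ⁻¹ᵁ W).ι) n) :=
    (Curves.LES.isoK Γ(S, W) i n).symm.toEquiv.subsingleton
  have h5 := (ZarCoh.Morph.openEquiv (f ⁻¹ᵁ W).ι M n).symm.toEquiv.subsingleton
  rwa [Scheme.Opens.ι_image_top] at h5

/-- **Relative Serre vanishing.** -/
theorem exists_isZero_RpushAb [IsProper f] [IsNoetherian S] (L : X.Modules) (hL : PicF.IsInvertible L)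
    (ha : ∀ W : S.Opens, IsAffineOpen W → CohB1.IsAmple (L.restrict (f ⁻¹ᵁ W).ι))
    (M : X.Modules) (hM : Coh.IsCoh M) :
    ∃ n₀ : ℕ, ∀ n : ℕ, n₀ ≤ n → ∀ q : ℕ,
      IsZero ((Coh.RpushAb f (q + 1)).obj (Coh.toAb (CohB1.tensorMod M (CohB1.tensorPow L n)))) := by
  classical
  choose V hV hxV using fun x : S =>
    (exists_isAffineOpen_mem_and_subset (X := S) (x := x) (U := ⊤) trivial).imp
      fun V hV => And.intro hV.1 hV.2.1
  obtain ⟨T, hT⟩ := isCompact_univ.elim_finite_subcover (fun x => (V x : Set S))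
    (fun x => (V x).2) fun x _ => Set.mem_iUnion.2 ⟨x, hxV x⟩
  haveI : IsLocallyNoetherian X := LocallyOfFiniteType.isLocallyNoetherian f
  have hn : ∀ x : S, ∃ n₀ : ℕ, ∀ n, n₀ ≤ n → ∀ q : ℕ, Subsingleton (Coh.HH _
      ((CohB1.tensorMod M (CohB1.tensorPow L n)).restrict (f ⁻¹ᵁ V x).ι) (q + 1)) := fun x => by
    haveI : IsNoetherianRing Γ(S, V x) := IsLocallyNoetherian.component_noetherian ⟨V x, hV x⟩
    letI : (f ⁻¹ᵁ V x : Scheme.{u}).Over (Spec (CommRingCat.of Γ(S, V x))) := ⟨overA f (hV x)⟩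
    haveI : IsProper (f ∣_ V x) :=
      MorphismProperty.of_isPullback (P := @IsProper) (isPullback_morphismRestrict f (V x)).flip
        inferInstance
    haveI : IsProper ((f ⁻¹ᵁ V x : Scheme.{u}) ↘ Spec (CommRingCat.of Γ(S, V x))) :=
      inferInstanceAs (IsProper (overA f (hV x)))
    obtain ⟨n₀, hn₀⟩ := Groth.Agent.H78.Existence.AmpleVanish.exists_subsingleton Γ(S, V x)
      (ha (V x) (hV x))
      (CohBasics.Closure.isCoh_of_iso ((Scheme.Modules.restrictFunctorIsoPullback _).app M).symm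
        (Cyc.FP.Stalk.isCoh_pullback (f ⁻¹ᵁ V x).ι hM))
    refine ⟨n₀, fun n hn q => ?_⟩
    haveI := hn₀ n hn q
    exact (Curves.LES.isoK Γ(S, V x) (TensorMod.Pullback.restrictTensorIso (f ⁻¹ᵁ V x).ι M _ ≪≫
      TensorMod.Basic.tensorIso (Iso.refl _) (Ample.Pow.restrictPow _ L n)) (q + 1)).toEquiv.subsingleton
  choose n₀ hn₀ using hn
  refine ⟨T.sup n₀, fun n hn q => ?_⟩
  haveI : (CohB1.tensorMod M (CohB1.tensorPow L n)).IsQuasicoherent :=
    (CohBasics.Closure.isCoh_of_iso (TensorMod.Basic.comm _ M) (Snapper.Twist.isCoh_twist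
      (TensorMod.Invertible.isInvertible_tensorPow hL n) hM)).1
  refine ZarCoh.RpushVanish.isZero_RpushAb f.base
    (B := {W | ∃ x ∈ T, IsAffineOpen (W : S.Opens) ∧ W ≤ V x}) ?_ q fun W ⟨x, hx, hW, hWV⟩ =>
      subsingleton_preimage_of_le f _ (hV x) hW hWV (q + 1)
        (hn₀ x n ((Finset.le_sup hx).trans hn) q)
  refine Opens.isBasis_iff_nbhd.2 fun {U y} hy => ?_
  obtain ⟨x, hx, hyx⟩ := Set.mem_iUnion₂.1 (hT (Set.mem_univ y))
  obtain ⟨W, hW, hyW, hle⟩ := exists_isAffineOpen_mem_and_subset (U := U ⊓ V x) (x := y) ⟨hy, hyx⟩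
  exact ⟨W, ⟨x, hx, hW, fun z hz => (hle hz).2⟩, hyW, fun z hz => (hle hz).1⟩

end Groth.Agent.Lib.Exchange.RelVanish
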