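import Groth.Prelude.Def_RefHull
import Groth.Agent.Lib.RefHull.Colim
import Groth.Agent.Lib.DerivedOX.TensorSheaf
import Groth.Agent.Lib.TensorMod.Pullback
import Groth.Agent.Lib.TensorMod.HomGlue
import Groth.Agent.Lib.DerivedOX.PullTensor
import Groth.Prelude.Def_DCoh4

/-!
# `homSh A -` is right adjoint to `A ⊗ -`
-/

set_option autoImplicit false
universe u

open CategoryTheory AlgebraicGeometry Opposite TopologicalSpace
open scoped TensorProduct

namespace ZarCoh.Exchange.HomAdj

open Groth.Agent.Lib Groth.Agent.Lib.Modules Groth.Agent.Lib.TensorMod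
open Groth.Agent.Lib.TensorMod.Dual Groth.Agent.Lib.TensorMod.Basic Groth.Agent.Lib.TensorMod.Free
open Groth.Agent.Lib.RefHull.SecHom
open Groth.Agent.Lib.DerivedOX.TensorSheaf (tensorStalk shStalkEquiv unitSh)

noncomputable section

variable {X : Scheme.{u}} {A M M' B : X.Modules}

theorem tensorStalk_germ {U : X.Opens} {x : X} (hx : x ∈ U) (a : Γ(A, U)) (m : Γ(M, U)) :
    tensorStalk x A M ((CohB1.tensorMod A M).presheaf.germ U x hx (pairM (𝟙 _) a m)) =
      A.presheaf.germ U x hx a ⊗ₜ M.presheaf.germ U x hx m := by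
  let w := DerivedOX.TensorStalk.germ (x := x) hx
    (DerivedOX.TensorStalk.tm (P := DCoh.toP.obj A) (Q := DCoh.toP.obj M) a m)
  have h : shStalkEquiv x _ w = (CohB1.tensorMod A M).presheaf.germ U x hx (pairM (𝟙 _) a m) := by
    refine (DerivedOX.TensorStalk.stMap_germ (unitSh _) hx _).trans ?_
    refine congrArg _ ?_
    exact (congrArg (fun t => Whisker.pair (M := (fgt X).obj A) (P := (fgt X).obj M) (X := op U) t a m)
      ((adj X).homEquiv_id _)).symm
  rw [← h]
  refine (DerivedOX.TensorSheaf.tensorStalk_shStalkEquiv x A M w).trans ?_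
  exact congrArg (TensorProduct.congr _ _) (DerivedOX.TensorStalk.tensorStalkEquiv_germ_tm hx a m)

/-- The stalk of a pairing, as a bilinear map. -/
def stalkPair (φ : CohB1.tensorMod A M ⟶ B) (x : X) :
    M.presheaf.stalk x →ₗ[X.presheaf.stalk x] RefHull.StalkHom A B x :=
  (((TensorProduct.mk (X.presheaf.stalk x) (A.presheaf.stalk x) (M.presheaf.stalk x)).compr₂
    ((StalkModule.stalkMapₗ φ x).comp (tensorStalk x A M).symm.toLinearMap))).flip

theorem stalkPair_germ (φ : CohB1.tensorMod A M ⟶ B) {U : X.Opens} {x : X} (hx : x ∈ U)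
    (a : Γ(A, U)) (m : Γ(M, U)) :
    stalkPair φ x (M.presheaf.germ U x hx m) (A.presheaf.germ U x hx a) =
      B.presheaf.germ U x hx (pairM φ a m) := by
  show StalkModule.stalkMapₗ φ x ((tensorStalk x A M).symm (_ ⊗ₜ _)) = _
  rw [← tensorStalk_germ hx a m]
  refine (congrArg _ ((tensorStalk x A M).symm_apply_apply _)).trans ?_
  rw [StalkModule.stalkMapₗ_germ, ← pairM_comp, Category.id_comp]

/-- The section of the sheaf Hom adjoint to a pairing at a section. -/
def currySec (φ : CohB1.tensorMod A M ⟶ B) {U : X.Opens} (m : Γ(M, U)) :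
    Γ(_root_.RefHull.homSh A B, U) :=
  ⟨fun x => stalkPair φ x.1 (M.presheaf.germ U x.1 x.2 m), fun V i a x =>
    ⟨V, x.2, 𝟙 V, pairM φ a (rs M i.le m), fun y => by
      rw [← stalkPair_germ φ y.2 a (rs M i.le m), germ_rs i.le y.2 m]⟩⟩

theorem app_currySec (φ : CohB1.tensorMod A M ⟶ B) {U V : X.Opens} (h : V ≤ U) (m : Γ(M, U))
    (a : Γ(A, V)) : app (currySec φ m) h a = pairM φ a (rs M h m) :=
  sec_ext fun y hy => by
    rw [germ_app, ← stalkPair_germ φ hy a (rs M h m), germ_rs h hy m]
    rfl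

/-- The morphism adjoint to a pairing. -/
def curry (φ : CohB1.tensorMod A M ⟶ B) : M ⟶ _root_.RefHull.homSh A B :=
  ⟨PresheafOfModules.homMk
    { app := fun U => AddCommGrpCat.ofHom
        { toFun := fun m : Γ(M, U.unop) => currySec φ m
          map_zero' := Subtype.ext <| funext fun x => by
            show stalkPair φ x.1 _ = 0
            exact (congrArg (stalkPair φ x.1) (map_zero (M.presheaf.germ U.unop x.1 x.2).hom)).trans (map_zero _)
          map_add' := fun m m' => Subtype.ext <| funext fun x => by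
            show stalkPair φ x.1 _ = stalkPair φ x.1 _ + stalkPair φ x.1 _
            exact (congrArg (stalkPair φ x.1) (map_add (M.presheaf.germ U.unop x.1 x.2).hom m m')).trans (map_add _ _ _) }
      naturality := fun {U V} i => by
        ext m
        refine Subtype.ext <| funext fun x => ?_
        show stalkPair φ x.1 (M.presheaf.germ V.unop x.1 x.2 (rs M i.unop.le m)) =
          stalkPair φ x.1 (M.presheaf.germ U.unop x.1 _ m)
        rw [germ_rs] }
    (fun U r m => Subtype.ext <| funext fun x => by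
      show stalkPair φ x.1 (M.presheaf.germ U.unop x.1 x.2 ((show Γ(X, U.unop) from r) • (show Γ(M, U.unop) from m))) =
        X.presheaf.germ U.unop x.1 x.2 (show Γ(X, U.unop) from r) • stalkPair φ x.1 _
      rw [StalkModule.germ_smul, map_smul])⟩

theorem curry_app (φ : CohB1.tensorMod A M ⟶ B) {U : X.Opens} (m : Γ(M, U)) :
    (curry φ).app U m = currySec φ m := rfl

theorem exists_uncurry (ψ : M ⟶ _root_.RefHull.homSh A B) :
    ∃ φ : CohB1.tensorMod A M ⟶ B, ∀ U (a : Γ(A, U)) (m : Γ(M, U)),
      pairM φ a m = app (ψ.app U m) le_rfl a :=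
  TensorMod.Pullback.exists_hom_of_pairing (fun U a m => app (ψ.app U m) le_rfl a)
    (fun U a a' m => map_add _ a a')
    (fun U a m m' => sec_ext fun y hy => by
      rw [map_add, germ_app, map_add, germ_app, germ_app]; rfl)
    (fun U r a m => map_smul _ r a)
    (fun U r a m => by
      rw [Scheme.Modules.Hom.app_smul, RefHull.HomSh.app_smul_left, rf_self])
    (fun V U i a m => by
      show rs B i.le _ = app (ψ.app V (rs M i.le m)) le_rfl (rs A i.le a)
      rw [← HomGlue.rs_app ψ i.le m]
      exact (RefHull.HomSh.app_res (ψ.app U m) le_rfl i.le a).symm)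

theorem curry_injective : Function.Injective (curry (A := A) (M := M) (B := B)) := fun φ φ' h =>
  hom_ext_pairM fun U a m => by
    have := congrArg (fun ψ : M ⟶ _ => app (ψ.app U m) le_rfl a) h
    simp only [curry_app, app_currySec, rs_self] at this
    exact this

theorem curry_surjective : Function.Surjective (curry (A := A) (M := M) (B := B)) := fun ψ => by
  obtain ⟨φ, hφ⟩ := exists_uncurry ψ
  refine ⟨φ, Scheme.Modules.hom_ext _ _ fun U => ?_⟩
  ext m
  refine Subtype.ext <| funext fun x => LinearMap.ext fun v => ?_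
  obtain ⟨V, hV, a, rfl⟩ := TopCat.Presheaf.exists_germ_eq A.presheaf v
  have hx : x.1 ∈ U ⊓ V := ⟨x.2, hV⟩
  rw [← TopCat.Presheaf.germ_res_apply A.presheaf (homOfLE (inf_le_right : U ⊓ V ≤ V)) x.1 hx a]
  show stalkPair φ x.1 (M.presheaf.germ U x.1 x.2 m)
    (A.presheaf.germ (U ⊓ V) x.1 hx (rs A inf_le_right a)) = _
  rw [← germ_rs (inf_le_left : U ⊓ V ≤ U) hx m, stalkPair_germ, hφ, germ_app, ← HomGlue.rs_app]
  rfl

variable (A B) in
/-- The adjunction bijection. -/
def homEquiv (M : X.Modules) : (CohB1.tensorMod A M ⟶ B) ≃ (M ⟶ _root_.RefHull.homSh A B) :=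
  Equiv.ofBijective curry ⟨curry_injective, curry_surjective⟩

theorem homEquiv_natural (h : M' ⟶ M) (φ : CohB1.tensorMod A M ⟶ B) :
    homEquiv A B M' (tmap (𝟙 A) h ≫ φ) = h ≫ homEquiv A B M φ := by
  refine (homEquiv A B M').symm.injective (hom_ext_pairM fun U a m => ?_)
  rw [Equiv.symm_apply_apply]
  obtain ⟨φ', hφ'⟩ := exists_uncurry (h ≫ homEquiv A B M φ)
  have e : (homEquiv A B M').symm (h ≫ homEquiv A B M φ) = φ' := by
    rw [Equiv.symm_apply_eq]
    refine (homEquiv A B M').symm.injective (hom_ext_pairM fun U a m => ?_)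
    rw [Equiv.symm_apply_apply, hφ']
    obtain ⟨φ'', hφ''⟩ := (homEquiv A B M').surjective (h ≫ homEquiv A B M φ)
    rw [← hφ'', Equiv.symm_apply_apply]
    show _ = app ((curry φ'').app U m) le_rfl a
    rw [curry_app, app_currySec, rs_self]
  rw [e, hφ']
  show _ = app ((curry φ).app U (h.app U m)) le_rfl a
  rw [curry_app, app_currySec, rs_self, pairM_tmap_comp]
  rfl

/-- The sheaf Hom chosen as right adjoint is the concrete sheaf Hom. -/
theorem nonempty_sheafHom_iso {A' B' : X.Modules} [DCoh.HasSheafHom A'] (e : A' ≅ A) (e' : B' ≅ B) :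
    Nonempty ((DCoh.sheafHom A').obj B' ≅ _root_.RefHull.homSh A B) := by
  let H := (DCoh.sheafHom A').obj B'
  let E : ∀ T : X.Modules, (T ⟶ H) ≃ (T ⟶ _root_.RefHull.homSh A B) := fun T =>
    (((DCoh.sheafHomAdj A').homEquiv T B').symm.trans
      (Iso.homCongr (tensorIso e (Iso.refl T)) e')).trans (homEquiv A B T)
  refine ⟨Yoneda.ext H _ (fun {T} t => E T t) (fun {T} t => (E T).symm t)
    (fun t => (E _).symm_apply_apply t) (fun t => (E _).apply_symm_apply t) ?_⟩
  intro T T' h t
  show homEquiv A B T' _ = h ≫ homEquiv A B T _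
  rw [← homEquiv_natural]
  refine congrArg _ ?_
  simp only [Iso.homCongr_apply, Equiv.trans_apply]
  rw [Adjunction.homEquiv_naturality_left_symm, DerivedOX.PullTensor.tensorBi_obj_map]
  simp only [tensorIso, Iso.refl_inv, Iso.refl_hom, Category.assoc]
  have hs : tmap e.inv (𝟙 T') ≫ tmap (𝟙 A') h = tmap (𝟙 A) h ≫ tmap e.inv (𝟙 T) := by
    rw [← tmap_comp, ← tmap_comp, Category.comp_id, Category.id_comp, Category.id_comp,
      Category.comp_id]
  exact (Category.assoc _ _ _).symm.trans ((congrArg (· ≫ _) hs).trans (Category.assoc _ _ _))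

end

end ZarCoh.Exchange.HomAdj
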