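import Groth.Agent.Lib.Exchange.LocalAmple
import Groth.Agent.Lib.Lim.LocalLimit
import Groth.Agent.Lib.Lim.Basic
import Groth.Agent.Lib.Ample.Pullback
import Groth.Agent.S9223

/-!
# Ampleness spreads from a fibre to a neighbourhood
-/

set_option autoImplicit false
set_option linter.style.haveILetI false
set_option backward.isDefEq.respectTransparency false

noncomputable section

universe u

open CategoryTheory Limits AlgebraicGeometry

namespace Groth.Agent.Lib.Exchange.AmpleSpread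

open Groth.Agent.Lib Groth.Agent.Lib.Lim

local notation "pb" => Scheme.Modules.pullback

variable {X Y : Scheme.{u}} (f : X ⟶ Y)

/-- Pullback along a composite. -/
def compIso {Z W : Scheme.{u}} (v : Z ⟶ W) (w : W ⟶ X) (u : Z ⟶ X) (h : v ≫ w = u) (L : X.Modules) :
    (pb v).obj ((pb w).obj L) ≅ (pb u).obj L :=
  (Scheme.Modules.pullbackComp v w).app L ≪≫ (Scheme.Modules.pullbackCongr h).app L

/-- Ampleness passes along an affine morphism over `X`. -/
theorem isAmple_of_comp {Z W : Scheme.{u}} (v : Z ⟶ W) [IsAffineHom v] (w : W ⟶ X) (u : Z ⟶ X)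
    (h : v ≫ w = u) {L : X.Modules} (hL : CohB1.IsAmple ((pb w).obj L)) :
    CohB1.IsAmple ((pb u).obj L) :=
  Ample.Pow.isAmple_of_iso (compIso v w u h L)
    (Ample.Pullback.isAmple_pullback v (Ample.Pullback.isQuasiAffine_of_isAffineHom v) hL)

/-- Ample on the fibre gives ample over the local ring. -/
theorem isAmple_local [IsProper f] [IsLocallyNoetherian Y] {L : X.Modules} (hL : PicF.IsInvertible L)
    (y : Y) (hy : CohB1.IsAmple ((pb (f.fiberι y)).obj L)) :
    CohB1.IsAmple ((pb (pullback.fst f (Y.fromSpecStalk y))).obj L) := by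
  let g := pullback.snd f (Y.fromSpecStalk y)
  let m := IsLocalRing.maximalIdeal (Y.presheaf.stalk y)
  refine LocalAmple.isAmple m g (IsLocalRing.maximalIdeal_le_jacobson _)
    (PicLoc.isInvertible_pullback _ hL) ?_
  let u : CohB1.thick g m 0 ⟶ X := CohB1.thickι g m 0 ≫ pullback.fst f (Y.fromSpecStalk y)
  let e : CommRingCat.of (Y.presheaf.stalk y ⧸ m ^ (0 + 1)) ≅ Y.residueField y :=
    (Ideal.quotEquivOfEq (show m ^ (0 + 1) = m by rw [zero_add, pow_one])).toCommRingCatIso
  let t : CohB1.thick g m 0 ⟶ Spec (Y.residueField y) :=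
    CohB1.thickToBase g m 0 ≫ Spec.map e.inv
  have hres : Y.residue y ≫ e.inv = CommRingCat.ofHom (Ideal.Quotient.mk (m ^ (0 + 1))) := by
    ext a; rfl
  have hq : u ≫ f = t ≫ Y.fromSpecResidueField y := by
    have h1 : pullback.fst f (Y.fromSpecStalk y) ≫ f = g ≫ Y.fromSpecStalk y := pullback.condition
    have h2 : CohB1.thickι g m 0 ≫ g = CohB1.thickToBase g m 0 ≫ CohB1.specQuot m 0 :=
      pullback.condition
    rw [Scheme.fromSpecResidueField]
    simp only [u, t, Category.assoc, h1]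
    rw [← Category.assoc, h2, Category.assoc, ← Category.assoc (Spec.map e.inv), ← Spec.map_comp,
      hres]
    rfl
  let q : CohB1.thick g m 0 ⟶ f.fiber y := pullback.lift u t hq
  have hqu : q ≫ f.fiberι y = u := pullback.lift_fst _ _ _
  have hsq : IsPullback q (CohB1.thickToBase g m 0) (f.fiberToSpecResidueField y) (Spec.map e.inv) := by
    refine IsPullback.of_right ?_ (pullback.lift_snd _ _ _)
      (IsPullback.of_hasPullback f (Y.fromSpecResidueField y))
    rw [pullback.lift_fst, Scheme.fromSpecResidueField, ← Category.assoc, ← Spec.map_comp, hres]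
    exact (IsPullback.of_hasPullback g (CohB1.specQuot m 0)).paste_horiz
      (IsPullback.of_hasPullback f (Y.fromSpecStalk y))
  haveI : IsIso q := hsq.isIso_fst_of_isIso
  exact Ample.Pow.isAmple_of_iso (compIso (CohB1.thickι g m 0) _ u rfl L).symm
    (isAmple_of_comp q (f.fiberι y) u hqu hy)

/-- Ampleness over the local scheme at a point gives ampleness near that point. -/
theorem exists_nhd [QuasiCompact f] [QuasiSeparated f] {L : X.Modules} (hL : PicF.IsInvertible L)
    (y : Y) (h : CohB1.IsAmple ((pb (pullback.fst f (Y.fromSpecStalk y))).obj L)) :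
    ∃ U : Y.Opens, y ∈ U ∧ IsAffineOpen U ∧ CohB1.IsAmple (L.restrict (f ⁻¹ᵁ U).ι) := by
  obtain ⟨V, hV, hyV, -⟩ := exists_isAffineOpen_mem_and_subset (x := y) (U := (⊤ : Y.Opens)) trivial
  let p : PrimeSpectrum Γ(Y, V) := hV.primeIdealOf ⟨y, hyV⟩
  letI : Algebra Γ(Y, V) (Y.presheaf.stalk y) := TopCat.Presheaf.algebra_section_stalk Y.presheaf ⟨y, hyV⟩
  haveI : IsLocalization.AtPrime (Y.presheaf.stalk y) p.asIdeal := hV.isLocalization_stalk ⟨y, hyV⟩
  let e := IsLocalization.algEquiv p.asIdeal.primeCompl (Y.presheaf.stalk y)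
    (Localization.AtPrime p.asIdeal)
  let g : Spec (LocalLimit.loc p) ⟶ Spec (Y.presheaf.stalk y) :=
    Spec.map (CommRingCat.ofHom e.toRingEquiv.toRingHom)
  haveI : IsIso g := by
    have : IsIso (CommRingCat.ofHom e.toRingEquiv.toRingHom) :=
      (e.toRingEquiv.toCommRingCatIso).isIso_hom
    infer_instance
  have hg : g ≫ Y.fromSpecStalk y = LocalLimit.toSpec p ≫ hV.fromSpec := by
    rw [← hV.fromSpecStalk_eq_fromSpecStalk hyV]
    show g ≫ Spec.map (Y.presheaf.germ V y hyV) ≫ hV.fromSpec = _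
    rw [← Category.assoc, ← Spec.map_comp]
    congr 2
    ext a
    exact e.commutes a
  let i₀ : LocalLimit.Nhd p := ⟨1, p.asIdeal.ne_top_iff_one.1 p.2.ne_top⟩
  let b : (LocalLimit.op' p i₀ : Scheme.{u}) ⟶ Y := (LocalLimit.op' p i₀).ι ≫ hV.fromSpec
  let D := LocalLimit.diag p
  haveI : IsAffine (LocalLimit.op' p i₀ : Scheme.{u}) := IsAffineOpen.Spec_basicOpen _
  haveI : IsAffine (D.obj i₀) := IsAffineOpen.Spec_basicOpen _
  haveI : ∀ {i j : LocalLimit.Nhd p} (φ : i ⟶ j), IsAffineHom (D.map φ) := fun {i j} φ => by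
    haveI : IsAffine (D.obj i) := IsAffineOpen.Spec_basicOpen _
    haveI : IsAffine (D.obj j) := IsAffineOpen.Spec_basicOpen _
    exact isAffineHom_of_isAffine _
  let X₀ := pullback f b
  let f₀ : X₀ ⟶ D.obj i₀ := pullback.snd f b
  haveI : QuasiCompact f₀ := MorphismProperty.pullback_snd _ _ ‹_›
  haveI : QuasiSeparated f₀ := MorphismProperty.pullback_snd _ _ ‹_›
  haveI hcX : CompactSpace X₀ := QuasiCompact.compactSpace_of_compactSpace f₀
  haveI hqX : QuasiSeparatedSpace X₀ := quasiSeparatedSpace_of_quasiSeparated f₀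
  let c := LocalLimit.cone p
  have hπb : c.π.app i₀ ≫ b = LocalLimit.toSpec p ≫ hV.fromSpec := by
    rw [← Category.assoc]
    exact congrArg (· ≫ hV.fromSpec) (LocalLimit.cone_π_ι p i₀)
  let π₀ : c.pt ⟶ D.obj i₀ := c.π.app i₀
  have hP := IsPullback.of_hasPullback f₀ π₀
  -- the local base change maps to the one over the stalk
  have hsq : (pullback.fst f₀ π₀ ≫ pullback.fst f b) ≫ f =
      (pullback.snd f₀ π₀ ≫ g) ≫ Y.fromSpecStalk y := by
    rw [Category.assoc, Category.assoc, hg, ← hπb, pullback.condition,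
      ← Category.assoc, ← Category.assoc]
    exact congrArg (· ≫ b) pullback.condition
  let r : pullback f₀ π₀ ⟶ pullback f (Y.fromSpecStalk y) := pullback.lift _ _ hsq
  haveI : IsAffineHom r := by
    have hsq' : IsPullback r (pullback.snd f₀ π₀) (pullback.snd f (Y.fromSpecStalk y)) g := by
      refine IsPullback.of_right ?_ (pullback.lift_snd _ _ _)
        (IsPullback.of_hasPullback f (Y.fromSpecStalk y))
      rw [pullback.lift_fst, hg, ← hπb]
      exact hP.paste_horiz (IsPullback.of_hasPullback f b)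
    haveI : IsIso r := hsq'.isIso_fst_of_isIso
    infer_instance
  have hloc : CohB1.IsAmple ((pb (pullback.fst f₀ π₀)).obj ((pb (pullback.fst f b)).obj L)) :=
    Ample.Pow.isAmple_of_iso ((Scheme.Modules.pullbackComp _ _).app L).symm
      (isAmple_of_comp r _ _ (pullback.lift_fst _ _ _) h)
  let BD := Basic.bcDiagram D f₀
  haveI : ∀ (i j : Over i₀) (φ : i ⟶ j), IsAffineHom (BD.map φ) := fun i j φ =>
    Basic.isAffineHom_bcDiagram_map D f₀ φ
  haveI : ∀ i, CompactSpace (BD.obj i) := fun i => Basic.compactSpace_bcDiagram D f₀ i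
  haveI : ∀ i, QuasiSeparatedSpace (BD.obj i) := fun i => Basic.quasiSeparatedSpace_bcDiagram D f₀ i
  let j₀ : Over i₀ := Over.mk (𝟙 i₀)
  let L₀ : (BD.obj j₀).Modules := (pb (pullback.fst f₀ (D.map j₀.hom))).obj ((pb (pullback.fst f b)).obj L)
  obtain ⟨i, φ, hi⟩ := Groth.Agent.S9223.result BD (Basic.bcCone hP.w)
    (Basic.isLimitBcCone (LocalLimit.isLimit p) hP) j₀ L₀
    (PicLoc.isInvertible_pullback _ (PicLoc.isInvertible_pullback _ hL))
    (Ample.Pow.isAmple_of_iso (compIso _ _ _ (Basic.bcCone_π_fst hP.w j₀) _).symm hloc)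
  have hi' : CohB1.IsAmple ((pb (pullback.fst f₀ (D.map i.hom) ≫ pullback.fst f b)).obj L) :=
    Ample.Pow.isAmple_of_iso (compIso (BD.map φ) _ _ (Basic.bcDiagram_map_fst D f₀ φ) _ ≪≫
      (Scheme.Modules.pullbackComp _ _).app L) hi
  let bi : (LocalLimit.op' p i.left : Scheme.{u}) ⟶ Y := (LocalLimit.op' p i.left).ι ≫ hV.fromSpec
  have hbi : D.map i.hom ≫ b = bi := by
    simp [b, bi, D, LocalLimit.diag]
  have sq : IsPullback (pullback.fst f₀ (D.map i.hom) ≫ pullback.fst f b)
      (pullback.snd f₀ (D.map i.hom)) f bi := by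
    rw [← hbi]
    exact (IsPullback.of_hasPullback f₀ (D.map i.hom)).paste_horiz (IsPullback.of_hasPullback f b)
  let U : Y.Opens := bi.opensRange
  haveI : IsAffine (LocalLimit.op' p i.left : Scheme.{u}) := IsAffineOpen.Spec_basicOpen _
  refine ⟨U, ⟨⟨p, i.left.2⟩, hV.fromSpec_primeIdealOf ⟨y, hyV⟩⟩, isAffineOpen_opensRange bi, ?_⟩
  let ei : (LocalLimit.op' p i.left : Scheme.{u}) ≅ (U : Scheme.{u}) := bi.isoOpensRange
  have sqU : IsPullback (f ⁻¹ᵁ U).ι (f ∣_ U ≫ ei.inv) f bi :=
    IsPullback.of_iso (isPullback_morphismRestrict f U).flip (Iso.refl _) (Iso.refl _) ei.symm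
      (Iso.refl _) (by simp) (by simp) (by simp) (by simp [ei, U, bi.isoOpensRange_inv_comp])
  exact Ample.Pow.isAmple_of_iso
    (compIso (sqU.isoIsPullback _ _ sq).hom _ _ (sqU.isoIsPullback_hom_fst _ _ sq) L ≪≫
      ((Scheme.Modules.restrictFunctorIsoPullback (f ⁻¹ᵁ U).ι).app L).symm)
    (Ample.Pullback.isAmple_pullback _ (Ample.Pullback.isQuasiAffine_of_isAffineHom _) hi')

/-- Restrictions to smaller affine opens stay ample. -/
theorem isAmple_restrict_le {L : X.Modules} {U W : Y.Opens} (hU : IsAffineOpen U) (hW : IsAffineOpen W)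
    (hWU : W ≤ U) (h : CohB1.IsAmple (L.restrict (f ⁻¹ᵁ U).ι)) :
    CohB1.IsAmple (L.restrict (f ⁻¹ᵁ W).ι) := by
  haveI : IsAffine (U : Scheme.{u}) := hU
  haveI : IsAffine (W : Scheme.{u}) := hW
  have hv : IsPullback (X.homOfLE (f.preimage_mono hWU)) (f ∣_ W) (f ∣_ U) (Y.homOfLE hWU) := by
    refine IsPullback.of_right ?_ ?_ (isPullback_morphismRestrict f U).flip
    · simpa using (isPullback_morphismRestrict f W).flip
    · rw [← cancel_mono U.ι]; simp
  haveI : IsAffineHom (X.homOfLE (f.preimage_mono hWU)) :=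
    MorphismProperty.of_isPullback (P := @IsAffineHom) hv.flip (isAffineHom_of_isAffine _)
  exact Ample.Pow.isAmple_of_iso
    ((Scheme.Modules.restrictFunctorIsoPullback (f ⁻¹ᵁ W).ι).app L).symm
    (isAmple_of_comp _ (f ⁻¹ᵁ U).ι _ (X.homOfLE_ι _)
      (Ample.Pow.isAmple_of_iso ((Scheme.Modules.restrictFunctorIsoPullback (f ⁻¹ᵁ U).ι).app L) h))

/-- **Ampleness on a fibre spreads to a neighbourhood.** -/
theorem exists_nhd_of_fiber [IsProper f] [IsLocallyNoetherian Y] {L : X.Modules}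
    (hL : PicF.IsInvertible L) (y : Y) (hy : CohB1.IsAmple ((pb (f.fiberι y)).obj L)) :
    ∃ U : Y.Opens, y ∈ U ∧ IsAffineOpen U ∧ CohB1.IsAmple (L.restrict (f ⁻¹ᵁ U).ι) :=
  exists_nhd f hL y (isAmple_local f hL y hy)

end Groth.Agent.Lib.Exchange.AmpleSpread
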