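import Groth.Prelude.Def_ega3
import Groth.Agent.Lib.FlatCx.Basic
import Groth.Agent.Lib.FlatCx.HKer
import Groth.Agent.Lib.FlatCx.Local
import Groth.Agent.Lib.FlatCx.RightExact
import Mathlib.LinearAlgebra.Contraction
import Mathlib.LinearAlgebra.Dual.Lemmas
import Mathlib.CategoryTheory.Linear.Yoneda

/-!
# A left exact `T_p` is corepresented by a finite module
-/

set_option autoImplicit false
set_option linter.style.haveILetI false
universe u

open CategoryTheory Limits Opposite
open scoped TensorProduct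

namespace ZarCoh.Exchange.Corep

open Groth.Agent.Lib.FlatCx

noncomputable section

variable {A : Type u} [CommRing A]

/-- `N ⊗ M → Hom(N^∨, M)`. -/
def Φ (N M : Type u) [AddCommGroup N] [Module A N] [AddCommGroup M] [Module A M] :
    N ⊗[A] M →ₗ[A] Module.Dual A N →ₗ[A] M :=
  TensorProduct.lift (LinearMap.mk₂ A (fun n m => (Module.Dual.eval A N n).smulRight m)
    (fun n n' m => by ext ξ; simp [add_smul])
    (fun r n m => by ext ξ; simp [mul_smul])
    (fun n m m' => by ext ξ; simp)
    (fun r n m => by ext ξ; simp [smul_comm r (ξ n) m]))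

theorem Φ_tmul (N M : Type u) [AddCommGroup N] [Module A N] [AddCommGroup M] [Module A M]
    (n : N) (m : M) (ξ : Module.Dual A N) : Φ N M (n ⊗ₜ m) ξ = ξ n • m := rfl

theorem Φ_bijective (N M : Type u) [AddCommGroup N] [Module A N] [Module.Finite A N]
    [Module.Projective A N] [AddCommGroup M] [Module A M] : Function.Bijective (Φ (A := A) N M) := by
  let e := (TensorProduct.congr (Module.evalEquiv A N) (LinearEquiv.refl A M)).trans
    (dualTensorHomEquiv (R := A) (M := Module.Dual A N) (N := M))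
  have h : ∀ z, Φ N M z = e z := fun z => by
    induction z using TensorProduct.induction_on with
    | zero => simp only [map_zero]
    | tmul n m => ext ξ; rfl
    | add a b ha hb => simp only [map_add, ha, hb]
  exact (funext h : ⇑(Φ N M) = _) ▸ e.bijective

theorem Φ_rTensor {N₁ N₂ : Type u} [AddCommGroup N₁] [Module A N₁] [AddCommGroup N₂] [Module A N₂]
    (f : N₁ →ₗ[A] N₂) (M : Type u) [AddCommGroup M] [Module A M] (z : N₁ ⊗[A] M) :
    Φ N₂ M (f.rTensor M z) = Φ N₁ M z ∘ₗ f.dualMap := by
  induction z using TensorProduct.induction_on with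
  | zero => simp
  | tmul n m => ext ξ; rfl
  | add a b ha hb => simp only [map_add, ha, hb, LinearMap.add_comp]

theorem Φ_lTensor (N : Type u) [AddCommGroup N] [Module A N] {M M' : Type u} [AddCommGroup M]
    [Module A M] [AddCommGroup M'] [Module A M'] (g : M →ₗ[A] M') (z : N ⊗[A] M) :
    Φ N M' (g.lTensor N z) = g ∘ₗ Φ N M z := by
  induction z using TensorProduct.induction_on with
  | zero => simp
  | tmul n m => ext ξ; simp [Φ_tmul]
  | add a b ha hb => simp only [map_add, ha, hb, LinearMap.comp_add]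

section Ker

variable {N₁ N₂ : Type u} [AddCommGroup N₁] [Module A N₁] [AddCommGroup N₂] [Module A N₂]
  [Module.Finite A N₁] [Module.Projective A N₁] [Module.Finite A N₂] [Module.Projective A N₂]
  (f : N₁ →ₗ[A] N₂)

/-- The module corepresenting `M ↦ ker (f ⊗ M)`. -/
abbrev Cok : Type u := Module.Dual A N₁ ⧸ LinearMap.range f.dualMap

variable (M : Type u) [AddCommGroup M] [Module A M]

theorem range_le_ker (z : LinearMap.ker (f.rTensor M)) :
    LinearMap.range f.dualMap ≤ LinearMap.ker (Φ N₁ M z.1) := by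
  rintro _ ⟨η, rfl⟩
  rw [LinearMap.mem_ker, ← LinearMap.comp_apply, ← Φ_rTensor, z.2, map_zero, LinearMap.zero_apply]

/-- `ker (f ⊗ M) → Hom(coker f^∨, M)`. -/
def kerToHom : LinearMap.ker (f.rTensor M) →ₗ[A] Cok f →ₗ[A] M where
  toFun z := (LinearMap.range f.dualMap).liftQ (Φ N₁ M z.1) (range_le_ker f M z)
  map_add' z z' := by
    refine Submodule.linearMap_qext _ ?_
    ext ξ
    simp
  map_smul' r z := by
    refine Submodule.linearMap_qext _ ?_
    ext ξ
    simp

theorem kerToHom_mk (z : LinearMap.ker (f.rTensor M)) (ξ : Module.Dual A N₁) :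
    kerToHom f M z (Submodule.Quotient.mk ξ) = Φ N₁ M z.1 ξ := rfl

theorem kerToHom_bijective : Function.Bijective (kerToHom f M) := by
  constructor
  · intro z z' h
    apply Subtype.ext
    apply (Φ_bijective N₁ M).1
    ext ξ
    exact LinearMap.congr_fun h (Submodule.Quotient.mk ξ)
  · intro φ
    obtain ⟨z, hz⟩ := (Φ_bijective N₁ M).2 (φ ∘ₗ (LinearMap.range f.dualMap).mkQ)
    refine ⟨⟨z, ?_⟩, ?_⟩
    · rw [LinearMap.mem_ker]
      apply (Φ_bijective N₂ M).1
      rw [Φ_rTensor, hz, map_zero]
      ext η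
      show φ (Submodule.Quotient.mk (f.dualMap η)) = 0
      rw [(Submodule.Quotient.mk_eq_zero _).2 (LinearMap.mem_range_self f.dualMap η), map_zero]
    · refine Submodule.linearMap_qext _ ?_
      ext ξ
      exact LinearMap.congr_fun hz ξ

end Ker

variable (P : ChainComplex (ModuleCat.{u} A) ℤ)

open HKer in
/-- If `Q_p` is finite projective, `T_p` is corepresented by a finite module. -/
theorem exists_corep {p q : ℤ} (hpq : q + 1 = p) [Module.Finite A (Basic.Q P p)]
    [Module.Projective A (Basic.Q P p)] [Module.Finite A (P.X q)] [Module.Projective A (P.X q)] :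
    ∃ R : ModuleCat.{u} A, Module.Finite A R ∧
      Nonempty (CohIII.TFun P p ≅ (linearCoyoneda A (ModuleCat.{u} A)).obj (op R)) := by
  let f := Dbar P p q
  refine ⟨ModuleCat.of A (Cok f), (inferInstance : Module.Finite A (Cok f)), ⟨?_⟩⟩
  let e : ∀ M : ModuleCat.{u} A, CohIII.T P p M ≃ₗ[A] (ModuleCat.of A (Cok f) ⟶ M) := fun M =>
    (TKerEquiv P M hpq).trans ((LinearEquiv.ofBijective (kerToHom f M) (kerToHom_bijective f M)).trans
      (ModuleCat.homLinearEquiv (R := A) (S := A) (M := ModuleCat.of A (Cok f)) (N := M)).symm)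
  refine NatIso.ofComponents (fun M => (e M).toModuleIso) fun {M N} g => ?_
  refine ModuleCat.hom_ext (LinearMap.ext fun a => ?_)
  obtain ⟨z, hz, rfl⟩ := Local.tcls_surjective P M p q (Basic.next_eq hpq) a
  have hz' : (Basic.D P p q).rTensor N (g.hom.lTensor (P.X p) z) = 0 := by
    rw [← Basic.lTensor_rTensor, hz, map_zero]
  show e N ((CohIII.TFun P p).map g (Local.tcls P M p q (Basic.next_eq hpq) z hz)) =
    e M (Local.tcls P M p q (Basic.next_eq hpq) z hz) ≫ g
  rw [Local.map_tcls P g p q (Basic.next_eq hpq) z hz hz']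
  refine ModuleCat.hom_ext (Submodule.linearMap_qext _ (LinearMap.ext fun ξ => ?_))
  show Φ _ N (TKerEquiv P N hpq (Local.tcls P N p q _ _ hz')).1 ξ =
    g.hom (Φ _ M (TKerEquiv P M hpq (Local.tcls P M p q _ z hz)).1 ξ)
  rw [RightExact.TKerEquiv_tcls P N hpq, RightExact.TKerEquiv_tcls P M hpq,
    ← Basic.lTensor_rTensor, Φ_lTensor]
  rfl

end

end ZarCoh.Exchange.Corep
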