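import Groth.Agent.Lib.Exchange.Proper
import Groth.Agent.Lib.Exchange.Corep
import Groth.Agent.Lib.CechRes.Sec

/-!
# `M ↦ Γ(X, f^* M~ ⊗ F)` as `T_0`
-/

set_option autoImplicit false
set_option linter.style.haveILetI false
universe u

open CategoryTheory Limits AlgebraicGeometry Opposite TopologicalSpace

namespace ZarCoh.Exchange.GlobalSections

open Groth.Agent.Lib ZarCoh.Exchange.Sections ZarCoh.Exchange.Main
open Groth.Agent.Lib.CechRes.Sec (rho secA)

noncomputable section

variable (A : Type u) [CommRing A] {X : Scheme.{u}} [X.Over (Spec (CommRingCat.of A))]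

local notation "pX" => (X ↘ Spec (CommRingCat.of A))

/-- `H^0` is the global sections, linearly. -/
def hZeroLinear (M : X.Modules) : Coh.HH X M 0 ≃ₗ[A] (secA pX ⊤).obj M where
  toFun x := Sheaf.H.equiv₀ (Coh.toAb M) (T := (⊤ : Opens X)) isTerminalTop x
  invFun s := (Sheaf.H.equiv₀ (Coh.toAb M) (T := (⊤ : Opens X)) isTerminalTop).symm s
  left_inv x := AddEquiv.symm_apply_apply _ x
  right_inv s := AddEquiv.apply_symm_apply _ s
  map_add' := map_add _
  map_smul' a x := by
    show Sheaf.H.equiv₀ (Coh.toAb M) isTerminalTop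
        (Sheaf.H.map (Coh.smulAb M (Coh.toGlobal pX a)) 0 x) = _
    refine (Sheaf.H.equiv₀_naturality (f := Coh.smulAb M (Coh.toGlobal pX a))
      (hT := (isTerminalTop : IsTerminal (⊤ : Opens X))) x).symm.trans ?_
    exact Coh.smulAb_app M _ (op ⊤) _

theorem hZeroLinear_natural {M N : X.Modules} (φ : M ⟶ N) (x : Coh.HH X M 0) :
    hZeroLinear A N (Sheaf.H.map ((SheafOfModules.toSheaf X.ringCatSheaf).map φ) 0 x) =
      (secA pX ⊤).map φ (hZeroLinear A M x) :=
  (Sheaf.H.equiv₀_naturality (f := (SheafOfModules.toSheaf X.ringCatSheaf).map φ)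
    (hT := (isTerminalTop : IsTerminal (⊤ : Opens X))) x).symm

/-- The two global sections functors. -/
def globalIso : secA pX ⊤ ≅ CohIII.globalSectionsA A := CechRes.Sec.globalIso pX

variable {A} (F : X.Modules) {T : ModuleCat.{u} A ⥤ ModuleCat.{u} A} [T.Linear A]
  (e : T ⋙ forget₂ (ModuleCat.{u} A) AddCommGrpCat.{u} ≅ CohIII.tensorAFunctor A F ⋙ CohIII.HAb X 0)

/-- `T^0` as a functor to modules is the functor of global sections. -/
def natIso : T ≅ CohIII.tensorAFunctor A F ⋙ CohIII.globalSectionsA A :=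
  NatIso.ofComponents (fun M => ((linearEquivApp A F e M).trans
      (hZeroLinear A (G F M))).toModuleIso ≪≫ (globalIso A).app (G F M)) fun {M N} g => by
    refine ModuleCat.hom_ext (LinearMap.ext fun x => ?_)
    show (globalIso A).hom.app (G F N) (hZeroLinear A (G F N) (addEquivApp A F e N (T.map g x))) =
      (CohIII.globalSectionsA A).map ((CohIII.tensorAFunctor A F).map g)
        ((globalIso A).hom.app (G F M) (hZeroLinear A (G F M) (addEquivApp A F e M x)))
    have h1 : addEquivApp A F e N (T.map g x) = Sheaf.H.map ((SheafOfModules.toSheaf X.ringCatSheaf).map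
        ((CohIII.tensorAFunctor A F).map g)) 0 (addEquivApp A F e M x) :=
      ConcreteCategory.congr_hom (e.hom.naturality g) x
    rw [h1, hZeroLinear_natural]
    exact ConcreteCategory.congr_hom ((globalIso A).hom.naturality ((CohIII.tensorAFunctor A F).map g)) _

variable (A) in
/-- `Γ(X, f^* M~ ⊗ F)` is corepresented by a finite module. -/
theorem exists_corep [IsNoetherianRing A] [IsProper pX] (hF : Coh.IsCoh F)
    (hfl : FlatMod.IsFlatOver pX F) :
    ∃ Q : ModuleCat.{u} A, Module.Finite A Q ∧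
      Nonempty (CohIII.tensorAFunctor A F ⋙ CohIII.globalSectionsA A ≅
        (linearCoyoneda A (ModuleCat.{u} A)).obj (op Q)) := by
  obtain ⟨b, P, -, hfin, hfree, hpos, hiso⟩ := Proper.exists_rep A F hF hfl
  haveI := hfree
  haveI := hfin
  obtain ⟨e⟩ := hiso 0
  have h1 : (CohIII.TFun P 1).PreservesEpimorphisms := ⟨fun {M N} g _ =>
    (ModuleCat.epi_iff_surjective _).2 fun y => by
      haveI := ModuleCat.subsingleton_of_isZero (hpos 1 one_pos N)
      exact ⟨0, Subsingleton.elim (α := CohIII.T P 1 N) _ _⟩⟩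
  have hq : (-((0 : ℕ) : ℤ)) + 1 = 1 := by simp
  haveI := (FlatCx.Basic.preservesEpi_iff P 1 _ hq).1 h1
  haveI : Module.FinitePresentation A (FlatCx.Basic.Q P (-((0 : ℕ) : ℤ))) :=
    Module.finitePresentation_of_finite A _
  haveI : Module.Projective A (FlatCx.Basic.Q P (-((0 : ℕ) : ℤ))) :=
    Module.Flat.projective_of_finitePresentation
  obtain ⟨R, hR, ⟨r⟩⟩ := Corep.exists_corep P (p := -((0 : ℕ) : ℤ)) (q := -1) (by simp)
  exact ⟨R, hR, ⟨(natIso F e).symm ≪≫ r⟩⟩

end

end ZarCoh.Exchange.GlobalSections
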