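import Groth.Agent.Lib.Exchange.SectionLift
import Groth.Agent.Lib.Exchange.LocalRep
import Groth.Agent.Lib.ProjMor.Sec
import Groth.Agent.Lib.TensorMod.FibreTriv
import Groth.Agent.Lib.TensorMod.Invertible
import Groth.Agent.Lib.Perfect.Coherent

/-!
# Invertible modules trivial on a fibre without `H^1` are trivial near it
-/

set_option autoImplicit false
set_option linter.style.haveILetI false
set_option maxHeartbeats 1000000
universe u

open CategoryTheory Limits AlgebraicGeometry Opposite TopologicalSpace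

namespace ZarCoh.Exchange.NearFibre

open Groth.Agent.Lib ZarCoh.Exchange.Local
open Groth.Agent.Lib.TensorMod Groth.Agent.Lib.TensorMod.Basic Groth.Agent.Lib.TensorMod.Free Groth.Agent.Lib.ProjMor.Sec Groth.Agent.Lib.Ample.GenLocus

noncomputable section

theorem isFlatOver_of_isFinLocFree {X Y : Scheme.{u}} (f : X ⟶ Y) [Flat f] {M : X.Modules}
    (hM : FlatMod.IsFinLocFree M) : FlatMod.IsFlatOver f M := fun x => by
  let R := Y.presheaf.stalk (f.base x)
  let B := X.presheaf.stalk x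
  let P := M.presheaf.stalk x
  letI : Algebra R B := (f.stalkMap x).hom.toAlgebra
  haveI : Module.Flat R B := Flat.stalkMap f x
  letI : Module R P := FlatMod.moduleStalkOver f M x
  haveI : IsScalarTower R B P := IsScalarTower.of_algebraMap_smul fun _ _ => rfl
  haveI : Module.Flat B P := TensorMod.FPConv.isFlat_of_isFinLocFree hM x
  exact Module.Flat.trans R B P

/-- A global section generating everywhere trivialises. -/
theorem nonempty_iso_of_locus {W : Scheme.{u}} {L : W.Modules} (m : Γ(L, ⊤)) (h : locus m = ⊤) :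
    Nonempty (Coh.structureModule W ≅ L) := by
  have hm : Gen.IsGen L (⊤ : W.Opens) m := by
    have := isGen_locus m
    rw [h] at this
    simpa using this
  obtain ⟨φ, -⟩ := HomGlue.exists_iso_of_gen (U := fun _ : PUnit.{u + 1} => (⊤ : W.Opens))
    (iSup_const) (fun _ => Gen.one W ⊤) (fun _ => isGen_one ⊤) (fun _ => m) (fun _ => hm)
    fun i j V hi hj c hc => by
      have h1 := (isGen_one (X := W) ⊤ V hi).1 (show (1 : Γ(W, V)) • _ = c • _ from (one_smul _ _).trans hc)
      rw [← h1, one_smul]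
  exact ⟨φ⟩

theorem exists_pullback_trivial {X Y : Scheme.{u}} (f : X ⟶ Y) [IsProper f] [Flat f]
    [IsLocallyNoetherian Y] (y : Y) (N : X.Modules) (hN : PicF.IsInvertible N)
    (hy : Nonempty (CohIII.fiberMod f N y ≅ Coh.structureModule (f.fiber y)))
    (h1 : Subsingleton (Coh.HH (f.fiber y) (Coh.structureModule (f.fiber y)) 1)) :
    ∃ U : Y.Opens, y ∈ U ∧
      Nonempty ((Scheme.Modules.pullback (f ⁻¹ᵁ U).ι).obj N ≅ Coh.structureModule ↑(f ⁻¹ᵁ U)) := by
  obtain ⟨φ⟩ := hy
  obtain ⟨V, hV, hyV, -⟩ := exists_isAffineOpen_mem_and_subset (U := ⊤) (x := y) trivial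
  haveI : IsAffine (V : Scheme.{u}) := hV
  let x : PrimeSpectrum (AV V) := (V : Scheme.{u}).isoSpec.hom ⟨y, hyV⟩
  have hk : LocalRep.k V x = y := by
    show ((V : Scheme.{u}).isoSpec.hom ≫ (V : Scheme.{u}).isoSpec.inv ≫ V.ι) ⟨y, hyV⟩ = y
    rw [Iso.hom_inv_id_assoc]
    rfl
  clear_value x
  subst hk
  haveI : IsLocallyNoetherian X := LocallyOfFiniteType.isLocallyNoetherian f
  have hlf := LocFree.of_rank (LocFree.of_isInvertible hN)
  have hcoh : Coh.IsCoh N := Perfect.Coherent.isCoh_of_isFinLocFree hlf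
  haveI : N.IsQuasicoherent := hcoh.1
  let F := MV f V N
  have hF : Coh.IsCoh F := RefHull.LocFree.isCoh_restrict hcoh (f ⁻¹ᵁ V)
  have hfl := flat_over f V (isFlatOver_of_isFinLocFree f hlf)
  let k := LocalRep.k V
  let y := k x
  let K := x.asIdeal.ResidueField
  let θ : Y.residueField y ≅ CommRingCat.of K :=
    asIso (k.residueFieldMap x) ≪≫ Scheme.Spec.residueFieldIso (CommRingCat.of (AV V)) x
  have hθ : Spec.map θ.hom ≫ Y.fromSpecResidueField y =
      Spec.map (CommRingCat.ofHom (algebraMap (AV V) K)) ≫ k := by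
    rw [Iso.trans_hom, asIso_hom, Spec.map_comp, Category.assoc,
      Scheme.Hom.SpecMap_residueFieldMap_fromSpecResidueField, ← Category.assoc]
    congr 1
    rw [← Scheme.Spec.map_residueFieldIso_inv_eq_fromSpecResidueField, ← Category.assoc,
      ← Spec.map_comp, Iso.inv_hom_id, Spec.map_id, Category.id_comp]
  letI : (f.fiber y).Over (Spec (CommRingCat.of K)) :=
    ⟨f.fiberToSpecResidueField y ≫ Spec.map θ.inv⟩
  have hR := LocalRep.isPullback_k f V
  have hbig : IsPullback (f.fiberι y) (f.fiber y ↘ Spec (CommRingCat.of K)) f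
      (Spec.map (CommRingCat.ofHom (algebraMap (AV V) K)) ≫ k) := by
    refine IsPullback.of_iso (IsPullback.of_hasPullback f (Y.fromSpecResidueField y))
      (Iso.refl _) (Iso.refl _) (asIso (Spec.map θ.inv)) (Iso.refl _) ?_ ?_ ?_ ?_
    · exact (Category.comp_id _).trans (Category.id_comp _).symm
    · exact (Category.id_comp _).symm
    · exact (Category.comp_id _).trans (Category.id_comp _).symm
    · rw [Iso.refl_hom, Category.comp_id, asIso_hom, ← hθ, ← Category.assoc, ← Spec.map_comp,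
        Iso.hom_inv_id, Spec.map_id, Category.id_comp]
  let g' : f.fiber y ⟶ XV f V := hR.lift (f.fiberι y)
    ((f.fiber y ↘ Spec (CommRingCat.of K)) ≫ Spec.map (CommRingCat.ofHom (algebraMap (AV V) K)))
    (by rw [Category.assoc]; exact hbig.w)
  have hg : g' ≫ (f ⁻¹ᵁ V).ι = f.fiberι y := hR.lift_fst _ _ _
  have hsq : IsPullback g' (f.fiber y ↘ Spec (CommRingCat.of K))
      (XV f V ↘ Spec (CommRingCat.of (AV V)))
      (Spec.map (CommRingCat.ofHom (algebraMap (AV V) K))) :=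
    IsPullback.of_right (hg.symm ▸ hbig) (hR.lift_snd _ _ _) hR
  let ρ := (Scheme.Modules.restrictFunctorIsoPullback (f ⁻¹ᵁ V).ι).app N
  let i : (Scheme.Modules.pullback g').obj F ≅ CohIII.fiberMod f N y :=
    (Scheme.Modules.pullback g').mapIso ρ ≪≫
      (Scheme.Modules.pullbackComp g' (f ⁻¹ᵁ V).ι).app N ≪≫ (Scheme.Modules.pullbackCongr hg).app N
  let ψ := φ.symm ≪≫ i.symm
  let t : Γ((Scheme.Modules.pullback g').obj F, ⊤) := ψ.hom.app ⊤ (Gen.one _ ⊤)
  have hrank : CohIII.fiberRank f N 1 y = 0 := by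
    haveI := h1
    haveI : Subsingleton (CohIII.fiberH f N y 1) :=
      (Curves.LES.isoK K φ 1).injective.subsingleton
    exact Module.finrank_zero_of_subsingleton
  haveI : F.IsQuasicoherent := hF.1
  obtain ⟨a, ha, s, hs⟩ := SectionLift.exists_lift (A := AV V) x hsq F hF hfl
    (fun P _ _ e₁ => ((LocalRep.fiberRank_eq f V N x e₁).symm.trans hrank)) t
  have ht : Gen.IsGen ((Scheme.Modules.pullback g').obj F) (⊤ : (f.fiber y).Opens) t :=
    isGen_of_isIso_over (isIso_over_of_iso ψ ⊤) (isGen_one ⊤)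
  have hua : IsUnit (Coh.toGlobal (f.fiber y ↘ Spec (CommRingCat.of K)) (algebraMap (AV V) K a) :
      Γ(f.fiber y, ⊤)) := by
    refine IsUnit.map _ (isUnit_iff_ne_zero.2 ?_)
    rwa [Ne, Ideal.algebraMap_residueField_eq_zero]
  let u : Γ(f.fiber y, ⊤) := Coh.toGlobal (f.fiber y ↘ Spec (CommRingCat.of K)) (algebraMap (AV V) K a)
  have hu : ProjUP.pullSec g' F s = u • t := by
    refine Eq.trans ?_ hs
    exact (TensorMod.Dual.rs_self ((Scheme.Modules.pullback g').obj F) le_top _).symm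
  have hloc : locus (ProjUP.pullSec g' F s) = ⊤ := by
    rw [hu]
    refine top_le_iff.1 (le_locus (U := ⊤) ?_)
    rw [show gl (u • t) ⊤ = u • t from TensorMod.Dual.rs_self _ le_top _]
    exact IsGen_smul_isUnit ht hua
  have hFinv : PicF.IsInvertible F :=
    Invertible.isInvertible_of_iso ρ.symm (PicLoc.isInvertible_pullback _ hN)
  rw [locus_pullback hFinv] at hloc
  let q : XV f V ⟶ Spec (CommRingCat.of (AV V)) := XV f V ↘ Spec (CommRingCat.of (AV V))
  obtain ⟨W, hW, hWs⟩ := FibreTriv.exists_preimage_le q q.isClosedMap (y := x) (O := locus s)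
    fun z hz => by
      have hzy : (f ⁻¹ᵁ V).ι z ∈ Set.range (f.fiberι y) := by
        rw [Scheme.Hom.range_fiberι]
        show f ((f ⁻¹ᵁ V).ι z) = k x
        rw [← hz]
        exact congrArg (fun h : XV f V ⟶ Y => h z) hR.w
      obtain ⟨z', hz'⟩ := hzy
      have : g' z' = z := (f ⁻¹ᵁ V).ι.isOpenEmbedding.injective
        ((congrArg (fun h : f.fiber y ⟶ X => h z') hg).trans hz')
      rw [← this]
      exact SetLike.ext_iff.1 hloc z' |>.2 trivial
  refine ⟨k ''ᵁ W, ⟨x, hW, rfl⟩, ?_⟩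
  let O := f ⁻¹ᵁ (k ''ᵁ W)
  have hle : O ≤ f ⁻¹ᵁ V := f.preimage_mono (by
    rintro _ ⟨w, -, rfl⟩
    exact ((V : Scheme.{u}).isoSpec.inv w).2)
  let e : (O : Scheme.{u}) ⟶ XV f V := X.homOfLE hle
  have hloc' : locus (ProjUP.pullSec e F s) = ⊤ := by
    rw [locus_pullback hFinv]
    refine top_le_iff.1 fun z _ => hWs ?_
    obtain ⟨w, hw, hwz⟩ := z.2
    have h2 : k (q (e z)) = k w := by
      refine Eq.trans ?_ hwz.symm
      refine (congrArg (fun h : XV f V ⟶ Y => h (e z)) hR.w).symm.trans ?_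
      show f ((e ≫ (f ⁻¹ᵁ V).ι) z) = f (O.ι z)
      rw [Scheme.homOfLE_ι]
    show q (e z) ∈ W
    rwa [k.isOpenEmbedding.injective h2]
  obtain ⟨ε⟩ := nonempty_iso_of_locus _ hloc'
  exact ⟨(Scheme.Modules.pullbackCongr (X.homOfLE_ι hle).symm).app N ≪≫
    ((Scheme.Modules.pullbackComp e (f ⁻¹ᵁ V).ι).app N).symm ≪≫
      (Scheme.Modules.pullback e).mapIso ρ.symm ≪≫ ε.symm⟩

/-- Two invertible modules isomorphic on a fibre without `H^1(O)` are isomorphic near it. -/
theorem exists_iso_near {X Y : Scheme.{u}} (f : X ⟶ Y) [IsProper f] [Flat f]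
    [IsLocallyNoetherian Y] (y : Y)
    (h1 : Subsingleton (Coh.HH (f.fiber y) (Coh.structureModule (f.fiber y)) 1))
    (L M : X.Modules) (hL : PicF.IsInvertible L) (hM : PicF.IsInvertible M)
    (hy : Nonempty (CohIII.fiberMod f L y ≅ CohIII.fiberMod f M y)) :
    ∃ U : Y.Opens, y ∈ U ∧ Nonempty (L.restrict (f ⁻¹ᵁ U).ι ≅ M.restrict (f ⁻¹ᵁ U).ι) := by
  obtain ⟨φ⟩ := hy
  let D := Dual.dual L
  have hD : PicF.IsInvertible D := Invertible.isInvertible_dual hL
  let ι₀ := f.fiberι y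
  obtain ⟨U, hU, ⟨ν⟩⟩ := exists_pullback_trivial f y (CohB1.tensorMod M D)
    (Invertible.isInvertible_tensorMod hM hD) ⟨Pullback.pullbackTensorIso ι₀ M D ≪≫
      Basic.tensorIso φ.symm (Iso.refl _) ≪≫ (Pullback.pullbackTensorIso ι₀ L D).symm ≪≫
      (Scheme.Modules.pullback ι₀).mapIso (Invertible.tensorDualIso hL) ≪≫
      PicLoc.pullbackStructureIso ι₀⟩ h1
  refine ⟨U, hU, ?_⟩
  let j := (f ⁻¹ᵁ U).ι
  let P := Scheme.Modules.pullback j
  let δ : CohB1.tensorMod D L ≅ Coh.structureModule X :=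
    Basic.comm D L ≪≫ Invertible.tensorDualIso hL
  let σ : P.obj M ≅ P.obj L :=
    P.mapIso ((Basic.rightUnit M).symm ≪≫ Basic.tensorIso (Iso.refl M) δ.symm ≪≫
        (Basic.assoc M D L).symm) ≪≫
      Pullback.pullbackTensorIso j (CohB1.tensorMod M D) L ≪≫
      Basic.tensorIso ν (Iso.refl _) ≪≫ Basic.leftUnit _
  exact ⟨(Scheme.Modules.restrictFunctorIsoPullback j).app L ≪≫ σ.symm ≪≫
    ((Scheme.Modules.restrictFunctorIsoPullback j).app M).symm⟩

end

end ZarCoh.Exchange.NearFibre
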