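import Groth.Agent.Lib.Exchange.Free
import Groth.Agent.Lib.Modules.AffineSections
import Groth.Agent.Lib.TensorMod.LocFree

/-!
# Grauert's theorem and its relatives over a locally Noetherian base
-/

set_option autoImplicit false
set_option linter.style.haveILetI false
universe u

open CategoryTheory Limits AlgebraicGeometry TopologicalSpace

namespace ZarCoh.Exchange.Grauert

open Groth.Agent.Lib Groth.Agent.Lib.FlatCx.Basic Groth.Agent.Lib.FlatCx.Rank

noncomputable section

variable {A : Type u} [CommRing A]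

/-- The properties of the exchange complex used below. -/
structure Good (P : ChainComplex (ModuleCat.{u} A) ℤ) : Prop where
  fin : ∀ i, Module.Finite A (P.X i) ∧ Module.Flat A (P.X i)
  bdd : ∃ b, ∀ i, i < b → IsZero (P.X i)
  pos : ∀ i : ℤ, 0 < i → ∀ M, IsZero (CohIII.T P i M)

variable [IsNoetherianRing A] {P : ChainComplex (ModuleCat.{u} A) ℤ}

/-- In nonnegative degrees the cokernels are flat. -/
theorem Good.flat_Q_nonneg (h : Good P) (i : ℤ) (hi : 0 ≤ i) : Module.Flat A (Q P i) := by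
  haveI := (h.fin i).2
  refine (FlatCx.Basic.preservesEpi_iff P (i + 1) i rfl).1 ⟨fun {M N} g _ =>
    (ModuleCat.epi_iff_surjective _).2 fun y => ?_⟩
  haveI := ModuleCat.subsingleton_of_isZero (h.pos (i + 1) (by omega) N)
  exact ⟨0, Subsingleton.elim (α := CohIII.T P (i + 1) N) _ _⟩

/-- Upward induction on the flatness of the cokernels. -/
theorem Good.flat_Q_upto (h : Good P) (n : ℤ)
    (step : ∀ i, i < n → Module.Flat A (Q P (i - 1)) → Module.Flat A (Q P i)) :
    ∀ i, i < n → Module.Flat A (Q P i) := by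
  obtain ⟨b, hb⟩ := h.bdd
  have hlow : ∀ i, i < b → Module.Flat A (Q P i) := fun i hi => by
    haveI := ModuleCat.subsingleton_of_isZero (hb i hi)
    haveI : Subsingleton (Q P i) := (Submodule.mkQ_surjective _).subsingleton
    infer_instance
  have key : ∀ (k : ℕ) (i : ℤ), i < n → i < b + k → Module.Flat A (Q P i) := by
    intro k
    induction k with
    | zero => exact fun i _ hi => hlow i (by omega)
    | succ k ih => exact fun i hin hi => step i hin (ih (i - 1) (by omega) (by omega))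
  exact fun i hi => key ((i - b).toNat + 1) i hi (by omega)

theorem Good.exact_of_flat (h : Good P) (p : ℤ) (h1 : Module.Flat A (Q P p))
    (h2 : Module.Flat A (Q P (p - 1))) :
    (CohIII.TFun P p).PreservesMonomorphisms ∧ (CohIII.TFun P p).PreservesEpimorphisms :=
  (FlatCx.DRank.exact_iff_flat P h.fin p).2 ⟨h1, h2⟩

/-- Fibres concentrated in degree `p`. -/
theorem Good.exact_of_concentrated (h : Good P) (p : ℤ)
    (hz : ∀ i, i ≤ 0 → i ≠ p → ∀ x, CohIII.dRank P i x = 0) (hp : p ≤ 0) :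
    (CohIII.TFun P p).PreservesMonomorphisms ∧ (CohIII.TFun P p).PreservesEpimorphisms := by
  refine h.exact_of_flat p ?_ (h.flat_Q_upto p (fun i hi hq => ?_) _ (by omega))
  · have key : ∀ (k : ℕ) (i : ℤ), p ≤ i → -(k : ℤ) ≤ i → Module.Flat A (Q P i) := by
      intro k
      induction k with
      | zero => exact fun i _ hi => h.flat_Q_nonneg i (by omega)
      | succ k ih =>
        intro i hpi hi
        by_cases hi0 : 0 ≤ i
        · exact h.flat_Q_nonneg i hi0
        haveI := ih (i + 1) (by omega) (by omega)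
        exact Free.flat_Q_pred P h.fin (i + 1) i rfl (hz (i + 1) (by omega) (by omega))
    exact key (-p).toNat p le_rfl (by omega)
  · exact Free.flat_Q_of_dRank_eq_zero P h.fin i (i - 1) (by omega) (hz i (by omega) (by omega))

/-- Flat homology in all degrees. -/
theorem Good.flat_Q_all (h : Good P) (hH : ∀ i, i < 0 → Module.Flat A (P.homology i)) (i : ℤ) :
    Module.Flat A (Q P i) := by
  by_cases hi : 0 ≤ i
  · exact h.flat_Q_nonneg i hi
  · exact h.flat_Q_upto 0 (fun j hj hq => Free.flat_Q_of_homology P h.fin j (j - 1) (by omega) (hH j hj))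
      i (by omega)

section Geometry

variable {X Y : Scheme.{u}} (f : X ⟶ Y) [IsProper f] [IsLocallyNoetherian Y]
  [HasInjectiveResolutions X.Modules] (F : X.Modules)

/-- The local data at a point. -/
theorem exists_local (hF : Coh.IsCoh F) (hfl : FlatMod.IsFlatOver f F) (y : Y) :
    ∃ (V : Y.Opens) (_ : IsAffine (V : Scheme.{u})) (P : ChainComplex (ModuleCat.{u} (Local.AV V)) ℤ),
      y ∈ V ∧ Good P ∧ ∀ p : ℕ,
        Nonempty (Γ(((Coh.Rpush f p).obj F).restrict V.ι, ⊤) ≃ₗ[Local.AV V] P.homology (-(p : ℤ))) ∧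
        ∀ x : PrimeSpectrum (Local.AV V),
          CohIII.fiberRank f F p (LocalRep.k V x) = CohIII.dRank P (-(p : ℤ)) x := by
  haveI : F.IsQuasicoherent := hF.1
  obtain ⟨V, hV, hy, -⟩ := exists_isAffineOpen_mem_and_subset (U := ⊤) (x := y) trivial
  haveI : IsAffine (V : Scheme.{u}) := hV
  obtain ⟨b, P, h1, h2, h3, h4, h5⟩ := LocalRep.exists_rep f V F hF hfl
  refine ⟨V, hV, P, hy, ⟨fun i => ⟨h2 i, ?_⟩, ⟨b, h1⟩, h4⟩, h5⟩
  haveI := h3 i
  infer_instance

theorem exists_preimage (V : Y.Opens) [IsAffine (V : Scheme.{u})] (y : Y) (hy : y ∈ V) :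
    ∃ x : PrimeSpectrum (Local.AV V), LocalRep.k V x = y := by
  refine ⟨(V : Scheme.{u}).isoSpec.hom ⟨y, hy⟩, ?_⟩
  show ((V : Scheme.{u}).isoSpec.hom ≫ (V : Scheme.{u}).isoSpec.inv ≫ V.ι) ⟨y, hy⟩ = y
  rw [Iso.hom_inv_id_assoc]
  rfl

/-- Grauert's theorem. -/
theorem free_of_isLocallyConstant [IsReduced Y] (hF : Coh.IsCoh F) (hfl : FlatMod.IsFlatOver f F)
    (p : ℕ) (hc : IsLocallyConstant (CohIII.fiberRank f F p)) (y : Y) :
    ∃ U : Y.Opens, y ∈ U ∧
      Nonempty (((Coh.Rpush f p).obj F).restrict U.ι ≅ FlatMod.freeMod (↑U) (CohIII.fiberRank f F p y)) := by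
  obtain ⟨V, _, P, hy, hP, h⟩ := exists_local f F hF hfl y
  obtain ⟨⟨s⟩, hr⟩ := h p
  haveI : _root_.IsReduced (Local.AV V) := inferInstance
  have hd : IsLocallyConstant (CohIII.dRank P (-(p : ℤ))) := by
    rw [show CohIII.dRank P (-(p : ℤ)) = CohIII.fiberRank f F p ∘ (LocalRep.k V) from
      funext fun x => (hr x).symm]
    exact hc.comp_continuous (LocalRep.k V).continuous
  exact Free.exists_free_nhd_of_exact f F hF V P hP.fin p s hr
    (FlatCx.DRank.exact_of_isLocallyConstant_dRank P hP.fin _ hd) y hy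

theorem free_of_concentrated (hF : Coh.IsCoh F) (hfl : FlatMod.IsFlatOver f F) (p : ℕ)
    (hz : ∀ y : Y, ∀ i : ℕ, i ≠ p → CohIII.fiberRank f F i y = 0) (y : Y) :
    ∃ U : Y.Opens, y ∈ U ∧
      Nonempty (((Coh.Rpush f p).obj F).restrict U.ι ≅ FlatMod.freeMod (↑U) (CohIII.fiberRank f F p y)) := by
  obtain ⟨V, _, P, hy, hP, h⟩ := exists_local f F hF hfl y
  obtain ⟨⟨s⟩, hr⟩ := h p
  refine Free.exists_free_nhd_of_exact f F hF V P hP.fin p s hr
    (hP.exact_of_concentrated _ (fun i hi hne x => ?_) (by omega)) y hy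
  have e : i = -(((-i).toNat : ℕ) : ℤ) := by omega
  rw [e, ← (h (-i).toNat).2 x]
  exact hz _ _ (by omega)

/-- Locally free higher direct images give locally constant fibre dimensions. -/
theorem isLocallyConstant_of_locallyFree (hF : Coh.IsCoh F) (hfl : FlatMod.IsFlatOver f F)
    (hlf : ∀ i : ℕ, 0 < i → FlatMod.IsFinLocFree ((Coh.Rpush f i).obj F)) (i : ℕ) :
    IsLocallyConstant (CohIII.fiberRank f F i) := by
  haveI : F.IsQuasicoherent := hF.1
  rw [IsLocallyConstant.iff_eventually_eq]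
  intro y
  obtain ⟨V, _, P, hy, hP, h⟩ := exists_local f F hF hfl y
  have hH : ∀ j : ℤ, j < 0 → Module.Flat (Local.AV V) (P.homology j) := fun j hj => by
    obtain ⟨n, rfl⟩ : ∃ n : ℕ, j = -(n : ℤ) := ⟨(-j).toNat, by omega⟩
    obtain ⟨⟨s⟩, -⟩ := h n
    haveI : ((Coh.Rpush f n).obj F).IsQuasicoherent := Groth.Agent.S0030.result f F n
    haveI := Modules.AffineSections.flat_sections (M := ((Coh.Rpush f n).obj F).restrict V.ι)
      (TensorMod.FPConv.isFlat_of_isFinLocFree
        (TensorMod.LocFree.isFinLocFree_restrict V.ι (hlf n (by omega)))) (isAffineOpen_top (V : Scheme.{u}))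
    exact Module.Flat.of_linearEquiv s.symm
  have hd := FlatCx.DRank.isLocallyConstant_dRank_of_exact P hP.fin (-(i : ℤ))
    (hP.exact_of_flat _ (hP.flat_Q_all hH _) (hP.flat_Q_all hH _))
  obtain ⟨x, rfl⟩ := exists_preimage V y hy
  have ho := (LocalRep.k V).isOpenEmbedding
  rw [ho.map_nhds_eq x |>.symm, Filter.eventually_map]
  filter_upwards [hd.eventually_eq x] with z hz
  rw [(h i).2 z, (h i).2 x]
  exact hz

end Geometry

end

end ZarCoh.Exchange.Grauert
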