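import Groth.Agent.Lib.Exchange.LocalRep
import Groth.Agent.S0030
import Groth.Agent.Lib.FlatCx.DRank
import Groth.Agent.Lib.FlatCx.FibreRank
import Mathlib.RingTheory.Flat.Tensor
import Mathlib.RingTheory.Ideal.AssociatedPrime.Finiteness
import Groth.Agent.H81.PushLocFree
import Groth.Agent.Lib.CurveBundle.Coherent

/-!
# Local freeness of higher direct images from the exchange complex
-/

set_option autoImplicit false
set_option linter.style.haveILetI false
universe u

open CategoryTheory Limits AlgebraicGeometry TopologicalSpace Opposite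
open scoped TensorProduct

namespace ZarCoh.Exchange.Free

open Groth.Agent.Lib Groth.Agent.Lib.FlatCx.Basic Groth.Agent.Lib.FlatCx.Rank

noncomputable section

section Algebra

variable {A : Type u} [CommRing A]

/-- A surjection onto a projective module splits. -/
theorem exists_equiv_ker_prod {M N : Type u} [AddCommGroup M] [Module A M] [AddCommGroup N]
    [Module A N] [Module.Projective A N] (w : M →ₗ[A] N) (hw : Function.Surjective w) :
    Nonempty (M ≃ₗ[A] LinearMap.ker w × N) := by
  obtain ⟨s, hs⟩ := Module.projective_lifting_property w LinearMap.id hw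
  have hs' : ∀ n, w (s n) = n := fun n => LinearMap.congr_fun hs n
  refine ⟨LinearEquiv.ofLinearMap
    (((LinearMap.id - s ∘ₗ w).codRestrict (LinearMap.ker w) fun m => by simp [hs']).prod w)
    ((LinearMap.ker w).subtype.coprod s) ?_ ?_⟩
  · refine LinearMap.ext fun ⟨⟨m, hm⟩, n⟩ => ?_
    rw [LinearMap.mem_ker] at hm
    refine Prod.ext (Subtype.ext ?_) ?_
    · simp [hm, hs']
    · simp [hm, hs']
  · refine LinearMap.ext fun m => ?_
    simp

theorem fdim_prod (M N : Type u) [AddCommGroup M] [Module A M] [Module.Finite A M] [AddCommGroup N]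
    [Module A N] [Module.Finite A N] (x : PrimeSpectrum A) :
    fdim (A := A) (M × N) x = fdim M x + fdim N x :=
  (TensorProduct.prodRight A x.asIdeal.ResidueField x.asIdeal.ResidueField M N).finrank_eq.trans
    Module.finrank_prod

variable [IsNoetherianRing A] (P : ChainComplex (ModuleCat.{u} A) ℤ)
  (hP : ∀ i, Module.Finite A (P.X i) ∧ Module.Flat A (P.X i))

include hP in
/-- If `Q_q` is flat then `Q_p = H_p × B` with `B` projective, and the fibres of `H_p` have the dimension
of the homology of the fibres. -/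
theorem exists_split (p q : ℤ) (hpq : q + 1 = p) [Module.Flat A (Q P q)] :
    Module.Finite A (P.homology p) ∧ (∀ x, fdim (P.homology p) x = CohIII.dRank P p x) ∧
      ∃ (B : Type u) (_ : AddCommGroup B) (_ : Module A B), Module.Projective A B ∧
        Module.Finite A B ∧ Nonempty (Q P p ≃ₗ[A] P.homology p × B) := by
  haveI := (hP p).1
  haveI := (hP q).1
  haveI := (hP q).2
  haveI := FlatCx.DRank.finitePresentation_Q P hP p
  haveI := FlatCx.DRank.finitePresentation_Q P hP q
  haveI := FlatCx.DRank.finitePresentation_X P hP q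
  haveI : Module.Projective A (Q P q) := Module.Flat.projective_of_finitePresentation
  haveI : Module.Projective A (P.X q) := Module.Flat.projective_of_finitePresentation
  obtain ⟨e₁⟩ := exists_equiv_ker_prod (Bd P q).mkQ (Submodule.mkQ_surjective _)
  let B := LinearMap.ker (Bd P q).mkQ
  haveI : Module.Projective A B :=
    Module.Projective.of_split (e₁.symm.toLinearMap ∘ₗ LinearMap.inl A B (Q P q))
      (LinearMap.fst A B (Q P q) ∘ₗ e₁.toLinearMap) (by ext b; simp)
  let w : Q P p →ₗ[A] B := (FlatCx.HKer.Dbar P p q).codRestrict B fun z => by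
    rw [LinearMap.mem_ker, Submodule.mkQ_apply, Submodule.Quotient.mk_eq_zero,
      ← FlatCx.HKer.range_Dbar P hpq]
    exact LinearMap.mem_range_self _ z
  have hw : Function.Surjective w := fun ⟨b, hb⟩ => by
    rw [LinearMap.mem_ker, Submodule.mkQ_apply, Submodule.Quotient.mk_eq_zero,
      ← FlatCx.HKer.range_Dbar P hpq] at hb
    obtain ⟨z, hz⟩ := hb
    exact ⟨z, Subtype.ext hz⟩
  obtain ⟨e₂⟩ := exists_equiv_ker_prod w hw
  let e₃ : P.homology p ≃ₗ[A] LinearMap.ker w :=
    (FlatCx.HKer.homologyKerEquiv P hpq).trans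
      (LinearEquiv.ofEq _ _ (LinearMap.ker_codRestrict _ _ _).symm)
  haveI : Module.Finite A (LinearMap.ker w) := Module.Finite.of_surjective
    (LinearMap.fst A (LinearMap.ker w) B ∘ₗ e₂.toLinearMap)
    (Prod.fst_surjective.comp e₂.surjective)
  haveI : Module.Finite A B := Module.Finite.of_surjective
    (LinearMap.fst A B (Q P q) ∘ₗ e₁.toLinearMap) (Prod.fst_surjective.comp e₁.surjective)
  refine ⟨Module.Finite.equiv e₃.symm, fun x => ?_,
    ⟨B, inferInstance, inferInstance, inferInstance, inferInstance,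
      ⟨e₂.trans (LinearEquiv.prodCongr e₃.symm (LinearEquiv.refl A B))⟩⟩⟩
  have h1 := FlatCx.DRank.dRank_add' P hP p q hpq x
  have h3 : fdim (A := A) (P.X q) x = fdim (A := A) B x + fdim (Q P q) x :=
    (congrFun (fdim_congr (A := A) (P.X q) e₁) x).trans (fdim_prod B (Q P q) x)
  have h4 : fdim (A := A) (Q P p) x = fdim (A := A) (LinearMap.ker w) x + fdim (A := A) B x :=
    (congrFun (fdim_congr (A := A) (Q P p) e₂) x).trans (fdim_prod (LinearMap.ker w) B x)
  rw [congrFun (fdim_congr (A := A) (P.homology p) e₃) x]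
  omega

include hP in
/-- With both cokernels flat the homology is finite projective of the rank of the fibres. -/
theorem homology_projective (p q : ℤ) (hpq : q + 1 = p) [Module.Flat A (Q P p)] [Module.Flat A (Q P q)] :
    Module.Finite A (P.homology p) ∧ Module.Projective A (P.homology p) ∧
      ∀ x, fdim (P.homology p) x = CohIII.dRank P p x := by
  obtain ⟨hfin, hdim, B, _, _, _, hB, ⟨e⟩⟩ := exists_split P hP p q hpq
  haveI := FlatCx.DRank.finitePresentation_Q P hP p
  haveI : Module.Projective A (Q P p) := Module.Flat.projective_of_finitePresentation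
  exact ⟨hfin, Module.Projective.of_split (e.symm.toLinearMap ∘ₗ LinearMap.inl A _ B)
    (LinearMap.fst A _ B ∘ₗ e.toLinearMap) (by ext b; simp), hdim⟩

include hP in
/-- Flat `Q_q` and flat homology give flat `Q_p`. -/
theorem flat_Q_of_homology (p q : ℤ) (hpq : q + 1 = p) [Module.Flat A (Q P q)]
    (h : Module.Flat A (P.homology p)) : Module.Flat A (Q P p) := by
  obtain ⟨hfin, -, B, _, _, _, _, ⟨e⟩⟩ := exists_split P hP p q hpq
  haveI := h
  haveI : Module.FinitePresentation A (P.homology p) := Module.finitePresentation_of_finite A _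
  haveI : Module.Projective A (P.homology p) := Module.Flat.projective_of_finitePresentation
  haveI : Module.Projective A (Q P p) := Module.Projective.of_equiv e.symm
  infer_instance

include hP in
/-- No homology on the fibres and flat `Q_q` give flat `Q_p`. -/
theorem flat_Q_of_dRank_eq_zero (p q : ℤ) (hpq : q + 1 = p) [Module.Flat A (Q P q)]
    (h : ∀ x, CohIII.dRank P p x = 0) : Module.Flat A (Q P p) := by
  obtain ⟨hfin, hdim, -⟩ := exists_split P hP p q hpq
  haveI : Subsingleton (P.homology p) := by
    rw [← Module.support_eq_empty_iff (R := A), Set.eq_empty_iff_forall_notMem]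
    intro x
    obtain ⟨g, hg⟩ := exists_generators_near (A := A) (P.homology p) x
    haveI : IsEmpty (Fin (fdim (A := A) (P.homology p) x)) := by rw [hdim, h]; infer_instance
    rw [show g = 0 from LinearMap.ext fun v => by rw [Subsingleton.elim v 0, map_zero, map_zero],
      LinearMap.range_zero] at hg
    exact fun hx => hg ((Submodule.quotEquivOfEqBot (⊥ : Submodule A (P.homology p)) rfl).support_eq.symm ▸ hx)
  exact flat_Q_of_homology P hP p q hpq inferInstance

omit [IsNoetherianRing A] in
theorem flat_quotient_of_forall_injective {M N : Type u} [AddCommGroup M] [Module A M] [AddCommGroup N]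
    [Module A N] [Module.Flat A N] (l : M →ₗ[A] N)
    (h : ∀ I : Ideal A, Function.Injective (l.lTensor (A ⧸ I))) :
    Module.Flat A (N ⧸ LinearMap.range l) := by
  rw [Module.Flat.iff_rTensor_injective']
  intro I
  rw [injective_iff_map_eq_zero]
  intro c hc
  let π := (LinearMap.range l).mkQ
  obtain ⟨n, rfl⟩ := LinearMap.lTensor_surjective I (g := π) (Submodule.mkQ_surjective _) c
  have h1 : π.lTensor A ((Submodule.subtype I).rTensor N n) = 0 := by
    rwa [← LinearMap.comp_apply, LinearMap.lTensor_comp_rTensor, ← LinearMap.rTensor_comp_lTensor,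
      LinearMap.comp_apply]
  obtain ⟨m, hm⟩ := (_root_.lTensor_exact A (LinearMap.exact_map_mkQ_range l)
    (Submodule.mkQ_surjective _) _).1 h1
  have hmI : (Submodule.mkQ I).rTensor M m = 0 := by
    apply h I
    rw [map_zero, ← LinearMap.comp_apply, LinearMap.lTensor_comp_rTensor,
      ← LinearMap.rTensor_comp_lTensor, LinearMap.comp_apply, hm, ← LinearMap.comp_apply,
      ← LinearMap.rTensor_comp, show Submodule.mkQ I ∘ₗ Submodule.subtype I = 0 by ext; simp [Ideal.Quotient.eq_zero_iff_mem],
      LinearMap.rTensor_zero, LinearMap.zero_apply]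
  obtain ⟨m', hm'⟩ := (_root_.rTensor_exact M (LinearMap.exact_subtype_mkQ I)
    (Submodule.mkQ_surjective _) _).1 hmI
  have hn : l.lTensor I m' = n := by
    apply Module.Flat.rTensor_preserves_injective_linearMap (M := N) (Submodule.subtype I) I.subtype_injective
    rw [← hm, ← hm', ← LinearMap.comp_apply, LinearMap.rTensor_comp_lTensor,
      ← LinearMap.lTensor_comp_rTensor, LinearMap.comp_apply]
  rw [← hn, ← LinearMap.comp_apply, ← LinearMap.lTensor_comp, LinearMap.range_mkQ_comp,
    LinearMap.lTensor_zero, LinearMap.zero_apply]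

/-- A map of flat modules which is injective on every fibre has flat cokernel. -/
theorem flat_quotient_of_fibres {M N : Type u} [AddCommGroup M] [Module A M] [Module.Flat A M]
    [AddCommGroup N] [Module A N] [Module.Flat A N] (l : M →ₗ[A] N)
    (h : ∀ x : PrimeSpectrum A, Function.Injective (l.lTensor x.asIdeal.ResidueField)) :
    Module.Flat A (N ⧸ LinearMap.range l) := by
  suffices key : ∀ (W : Type u) [AddCommGroup W] [Module A W] [Module.Finite A W],
      Function.Injective (l.lTensor W) from flat_quotient_of_forall_injective l fun I => key (A ⧸ I)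
  intro W _ _ hW
  induction hW using IsNoetherianRing.induction_on_isQuotientEquivQuotientPrime A with
  | subsingleton W =>
    exact fun a b _ => Subsingleton.elim a b
  | quotient W p e =>
    let j : W →ₗ[A] p.asIdeal.ResidueField :=
      (Algebra.linearMap (A ⧸ p.asIdeal) p.asIdeal.ResidueField).restrictScalars A ∘ₗ e.toLinearMap
    have hj : Function.Injective j :=
      (Ideal.injective_algebraMap_quotient_residueField p.asIdeal).comp e.injective
    intro a b hab
    apply Module.Flat.rTensor_preserves_injective_linearMap (M := M) j hj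
    apply h p
    rw [← LinearMap.comp_apply, ← LinearMap.comp_apply, LinearMap.lTensor_comp_rTensor,
      ← LinearMap.rTensor_comp_lTensor, LinearMap.comp_apply, LinearMap.comp_apply, hab]
  | exact W₁ W₂ W₃ f g hf hg hfg h₁ h₃ =>
    rw [injective_iff_map_eq_zero]
    intro a ha
    have h1 : g.rTensor M a = 0 := by
      apply h₃
      rw [map_zero, ← LinearMap.comp_apply, LinearMap.lTensor_comp_rTensor,
        ← LinearMap.rTensor_comp_lTensor, LinearMap.comp_apply, ha, map_zero]
    obtain ⟨a', rfl⟩ := (_root_.rTensor_exact M hfg hg _).1 h1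
    have : a' = 0 := by
      apply h₁
      apply Module.Flat.rTensor_preserves_injective_linearMap (M := N) f hf
      rw [map_zero, map_zero, ← LinearMap.comp_apply, LinearMap.rTensor_comp_lTensor,
        ← LinearMap.lTensor_comp_rTensor, LinearMap.comp_apply, ha]
    rw [this, map_zero]

include hP in
/-- No homology on the fibres and flat `Q_p` give flat `Q_q`. -/
theorem flat_Q_pred (p q : ℤ) (hpq : q + 1 = p) [Module.Flat A (Q P p)]
    (h : ∀ x, CohIII.dRank P p x = 0) : Module.Flat A (Q P q) := by
  haveI := (hP p).1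
  haveI := (hP q).1
  haveI := (hP q).2
  let l := FlatCx.HKer.Dbar P p q
  have h2 : Module.Flat A (P.X q ⧸ LinearMap.range l) := by
    refine flat_quotient_of_fibres l fun x => ?_
    let k := x.asIdeal.ResidueField
    have h0 := FlatCx.DRank.dRank_add' P hP p q hpq x
    rw [h x] at h0
    have h1 := FlatCx.FibreRank.finrank_range_add l k
    have e : fdim (A := A) (P.X q ⧸ LinearMap.range l) x = fdim (Q P q) x :=
      congrFun (fdim_congr (A := A) _ (Submodule.quotEquivOfEq _ _ (FlatCx.HKer.range_Dbar P hpq))) x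
    have h3 := LinearMap.finrank_range_add_finrank_ker (l.baseChange k)
    have e' : Module.finrank k (k ⊗[A] (P.X q ⧸ LinearMap.range l)) = fdim (Q P q) x := e
    have h0' : 0 + Module.finrank k (k ⊗[A] P.X q) =
        Module.finrank k (k ⊗[A] Q P p) + fdim (Q P q) x := h0
    have h4 : Module.finrank k (LinearMap.ker (l.baseChange k)) = 0 := by omega
    have h5 : Function.Injective (l.baseChange k) :=
      LinearMap.ker_eq_bot.1 (Submodule.finrank_eq_zero.1 h4)
    exact h5
  exact Module.Flat.of_linearEquiv (Submodule.quotEquivOfEq _ _ (FlatCx.HKer.range_Dbar P hpq)).symm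

end Algebra

section Geometry

/-- Finite projective sections give a free neighbourhood of the rank at the point. -/
theorem exists_free_nhd_rank {Y : Scheme.{u}} (M : Y.Modules) [M.IsQuasicoherent] {U : Y.Opens}
    (hU : IsAffineOpen U) {y : Y} (hy : y ∈ U) [Module.Finite Γ(Y, U) Γ(M, U)]
    [Module.Projective Γ(Y, U) Γ(M, U)] :
    ∃ W : Y.Opens, y ∈ W ∧ Nonempty (M.restrict W.ι ≅
      FlatMod.freeMod (↑W) (fdim (A := Γ(Y, U)) Γ(M, U) (hU.primeIdealOf ⟨y, hy⟩))) := by
  obtain ⟨W, n, hW, ⟨i⟩⟩ := Groth.Agent.H81.PushLocFree.exists_free_nhd_of_projective (M := M) hU hy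
  obtain ⟨s, hs⟩ := CurveBundle.Coherent.exists_basis_sections i
  suffices h : fdim (A := Γ(Y, U)) Γ(M, U) (hU.primeIdealOf ⟨y, hy⟩) = n by
    rw [h]; exact ⟨W, hW, ⟨i⟩⟩
  let _ := StalkLoc.Basic.moduleSections M hy
  let _ := TopCat.Presheaf.algebra_section_stalk Y.presheaf (⟨y, hy⟩ : U)
  haveI := StalkLoc.Basic.isScalarTower_sections M hy
  haveI := hU.isLocalization_stalk ⟨y, hy⟩
  haveI := StalkLoc.Basic.isLocalizedModule_germ (M := M) hU hy
  let p := hU.primeIdealOf ⟨y, hy⟩
  let R := Y.presheaf.stalk y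
  let b : Module.Basis (Fin n) R (M.presheaf.stalk y) := Module.Basis.mk (hs y hW).1 (hs y hW).2.ge
  haveI : Module.Free R (M.presheaf.stalk y) := Module.Free.of_basis b
  have hb : IsBaseChange R (StalkLoc.Basic.germₗ M hy) :=
    IsLocalizedModule.isBaseChange p.asIdeal.primeCompl _ _
  have hp : (IsLocalRing.closedPoint R).comap (algebraMap Γ(Y, U) R) = p :=
    PrimeSpectrum.ext (IsLocalization.AtPrime.comap_maximalIdeal R p.asIdeal)
  rw [fdim_eq_rankAtStalk]
  show Module.rankAtStalk Γ(M, U) p = n
  rw [← hp, ← Module.rankAtStalk_isBaseChange hb,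
    Module.rankAtStalk_eq_finrank_of_free, Module.finrank_eq_card_basis b, Fintype.card_fin]
  rfl

variable {X S : Scheme.{u}} (f : X ⟶ S) [IsProper f] [IsLocallyNoetherian S]
  [HasInjectiveResolutions X.Modules] (F : X.Modules)

/-- Near every point, a complex of finite free modules computes the higher direct images and the
fibre dimensions; if `T_p` is exact, the higher direct image is free of the fibre dimension. -/
theorem exists_free_nhd_of_exact (hF : Coh.IsCoh F)
    (V : S.Opens) [IsAffine (V : Scheme.{u})] (P : ChainComplex (ModuleCat.{u} (Local.AV V)) ℤ)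
    (hP : ∀ i, Module.Finite (Local.AV V) (P.X i) ∧ Module.Flat (Local.AV V) (P.X i)) (p : ℕ)
    (s : Γ(((Coh.Rpush f p).obj F).restrict V.ι, ⊤) ≃ₗ[Local.AV V] P.homology (-(p : ℤ)))
    (hr : ∀ x, CohIII.fiberRank f F p (LocalRep.k V x) = CohIII.dRank P (-(p : ℤ)) x)
    (hex : (CohIII.TFun P (-(p : ℤ))).PreservesMonomorphisms ∧
      (CohIII.TFun P (-(p : ℤ))).PreservesEpimorphisms) (y : S) (hy : y ∈ V) :
    ∃ U : S.Opens, y ∈ U ∧
      Nonempty (((Coh.Rpush f p).obj F).restrict U.ι ≅ FlatMod.freeMod (↑U) (CohIII.fiberRank f F p y)) := by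
  haveI : F.IsQuasicoherent := hF.1
  let R := (Coh.Rpush f p).obj F
  haveI : R.IsQuasicoherent := Groth.Agent.S0030.result f F p
  obtain ⟨h1, h2⟩ := (FlatCx.DRank.exact_iff_flat P hP _).1 hex
  haveI := h1
  haveI := h2
  obtain ⟨hfin, hproj, hdim⟩ := homology_projective P hP (-(p : ℤ)) (-(p : ℤ) - 1) (by omega)
  let U := V.ι ''ᵁ ⊤
  have hU : IsAffineOpen U := (isAffineOpen_top (V : Scheme.{u})).image_of_isOpenImmersion V.ι
  have hyU : y ∈ U := ⟨⟨y, hy⟩, trivial, rfl⟩
  let R' := R.restrict V.ι
  have hsm : ∀ (r : Γ(S, U)) (m : Γ(R, U)),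
      (show Γ(R', ⊤) from r • m) = (show Local.AV V from r) • (show Γ(R', ⊤) from m) := fun r m => by
    show r • m = (V.ι.appIso ⊤).inv r • m
    rw [Scheme.Opens.ι_appIso]
    rfl
  letI : Module Γ(S, U) (P.homology (-(p : ℤ))) :=
    Module.compHom _ (show Γ(S, U) →+* Local.AV V from RingHom.id _)
  let s' : Γ(R, U) ≃ₗ[Γ(S, U)] P.homology (-(p : ℤ)) :=
    { toFun := fun m => s (show Γ(R', ⊤) from m)
      invFun := fun h => s.symm h
      left_inv := fun m => s.symm_apply_apply _
      right_inv := fun h => s.apply_symm_apply h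
      map_add' := fun a b => s.map_add _ _
      map_smul' := fun r m => (congrArg s (hsm r m)).trans (s.map_smul _ _) }
  haveI : Module.Finite Γ(S, U) (P.homology (-(p : ℤ))) := hfin
  haveI : Module.Projective Γ(S, U) (P.homology (-(p : ℤ))) := hproj
  haveI : Module.Finite Γ(S, U) Γ(R, U) := Module.Finite.equiv s'.symm
  haveI : Module.Projective Γ(S, U) Γ(R, U) := Module.Projective.of_equiv s'.symm
  obtain ⟨W, hW, hi⟩ := exists_free_nhd_rank R hU hyU
  refine ⟨W, hW, ?_⟩
  let x : PrimeSpectrum (Local.AV V) := (V : Scheme.{u}).isoSpec.hom ⟨y, hy⟩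
  have hk : LocalRep.k V x = y := by
    show ((V : Scheme.{u}).isoSpec.hom ≫ (V : Scheme.{u}).isoSpec.inv ≫ V.ι) ⟨y, hy⟩ = y
    rw [Iso.hom_inv_id_assoc]
    rfl
  have hx : hU.primeIdealOf ⟨y, hyU⟩ = x := by
    refine PrimeSpectrum.ext (Ideal.ext fun r => ?_)
    rw [← not_iff_not, ← TensorMod.FinsetTriv.mem_basicOpen_iff hU hyU]
    have hb : V.ι ''ᵁ (V : Scheme.{u}).basicOpen r = S.basicOpen (r : Γ(S, U)) := by
      refine (Scheme.image_basicOpen V.ι r).trans (congrArg S.basicOpen ?_)
      rw [Scheme.Opens.ι_appIso]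
      rfl
    rw [← hb]
    have hpre := SetLike.ext_iff.1 ((V : Scheme.{u}).toSpecΓ_preimage_basicOpen r) ⟨y, hy⟩
    refine Iff.trans ⟨fun ⟨z, hz, e⟩ => ?_, fun h => ⟨_, h, rfl⟩⟩ hpre.symm
    obtain rfl : z = ⟨y, hy⟩ := Subtype.ext e
    exact hz
  have he : fdim (A := Γ(S, U)) Γ(R, U) (hU.primeIdealOf ⟨y, hyU⟩) = CohIII.fiberRank f F p y := by
    rw [← congrArg (CohIII.fiberRank f F p) hk, hr x, ← hdim x, hx]
    exact congrFun (fdim_congr (A := Γ(S, U)) Γ(R, U) s') x
  exact he ▸ hi

end Geometry

end

end ZarCoh.Exchange.Free
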