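import Groth.Agent.Lib.Exchange.TwistSections
import Groth.Agent.Lib.Exchange.Grauert
import Groth.Agent.Lib.DerivedOX.Grothendieck
import Groth.Agent.Lib.Ample.RelAmple
import Groth.Agent.Lib.Snapper.Twist
import Groth.Agent.H19.FlatLocus.Scheme
import Groth.Agent.H78.Existence.AmpleVanish
import Groth.Agent.Lib.TensorMod.FPConv
import Groth.Agent.Lib.Cyc.FP.Stalk

/-!
# Flatness through the direct images of the twists by a relatively ample module
-/

set_option autoImplicit false
set_option linter.style.haveILetI false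

noncomputable section

universe u

open CategoryTheory Limits AlgebraicGeometry Opposite TopologicalSpace

namespace Groth.Agent.Lib.Exchange.FlatTwist

open Groth.Agent.Lib
open ZarCoh.Exchange.Local (AV XV MV)
open Groth.Agent.Lib.TensorMod.Basic (tensorIso)

variable {X Y : Scheme.{u}} (f : X ⟶ Y)

/-- A twist by an invertible module stays flat. -/
theorem isFlatOver_twist {F N : X.Modules} (hN : PicF.IsInvertible N) (h : FlatMod.IsFlatOver f F) :
    FlatMod.IsFlatOver f (CohB1.tensorMod F N) := by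
  intro x
  obtain ⟨e⟩ := Snapper.Twist.exists_stalkEquiv_twist hN F x
  refine Flat55.FlatOverAt.of_iso f (TensorMod.Basic.comm N F) x ?_
  letI := FlatMod.moduleStalkOver f F x
  letI := FlatMod.moduleStalkOver f (CohB1.tensorMod N F) x
  haveI : Module.Flat (Y.presheaf.stalk (f.base x)) (F.presheaf.stalk x) := h x
  exact Module.Flat.of_linearEquiv
    ({ e.toAddEquiv with map_smul' := fun r m => e.map_smul ((f.stalkMap x).hom r) m } :
      (CohB1.tensorMod N F).presheaf.stalk x ≃ₗ[Y.presheaf.stalk (f.base x)] F.presheaf.stalk x)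

/-- The twist restricted to the preimage of an open of the base. -/
def twistRestrict (L F : X.Modules) (n : ℕ) (O : X.Opens) :
    (CohB1.tensorMod F (CohB1.tensorPow L n)).restrict O.ι ≅
      CohB1.tensorMod (F.restrict O.ι) (CohB1.tensorPow (L.restrict O.ι) n) :=
  TensorMod.Pullback.restrictTensorIso O.ι F _ ≪≫ tensorIso (Iso.refl _) (Ample.Pow.restrictPow _ L n)

/-- Twists of a flat coherent module by large powers have finite locally free direct image. -/
theorem eventually_finLocFree [IsProper f] [IsNoetherian Y] {L : X.Modules}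
    (ha : RelAmple.IsRelAmple f L) (hL : PicF.IsInvertible L) {F : X.Modules} (hF : Coh.IsCoh F)
    (hfl : FlatMod.IsFlatOver f F) :
    ∃ n₀ : ℕ, ∀ n, n₀ ≤ n →
      FlatMod.IsFinLocFree ((Coh.push f).obj (CohB1.tensorMod F (CohB1.tensorPow L n))) := by
  classical
  haveI : HasInjectiveResolutions X.Modules :=
    haveI := DerivedOX.Grothendieck.enoughInjectives_modules X
    inferInstance
  choose V hV hxV using fun y : Y =>
    (exists_isAffineOpen_mem_and_subset (X := Y) (x := y) (U := ⊤) trivial).imp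
      fun V hV => And.intro hV.1 hV.2.1
  obtain ⟨T, hT⟩ := isCompact_univ.elim_finite_subcover (fun y => (V y : Set Y))
    (fun y => (V y).2) fun y _ => Set.mem_iUnion.2 ⟨y, hxV y⟩
  have hn : ∀ y : Y, ∃ n₀ : ℕ, ∀ n, n₀ ≤ n → ∀ q : ℕ, Subsingleton (Coh.HH (XV f (V y))
      (MV f (V y) (CohB1.tensorMod F (CohB1.tensorPow L n))) (q + 1)) := fun y => by
    haveI : IsAffine (V y : Scheme.{u}) := hV y
    haveI : IsNoetherianRing (AV (V y)) :=
      IsLocallyNoetherian.component_noetherian ⟨⊤, isAffineOpen_top (V y : Scheme.{u})⟩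
    obtain ⟨n₀, hn₀⟩ := Groth.Agent.H78.Existence.AmpleVanish.exists_subsingleton (AV (V y))
      (X := XV f (V y)) (ha.2 ⟨V y, hV y⟩)
      (CohBasics.Closure.isCoh_of_iso ((Scheme.Modules.restrictFunctorIsoPullback _).app F).symm
        (Cyc.FP.Stalk.isCoh_pullback (f ⁻¹ᵁ V y).ι hF))
    refine ⟨n₀, fun n hn q => ?_⟩
    haveI := hn₀ n hn q
    exact (Curves.LES.isoK (AV (V y)) (twistRestrict L F n _) (q + 1)).toEquiv.subsingleton
  choose n₀ hn₀ using hn
  refine ⟨T.sup n₀, fun n hn y => ?_⟩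
  obtain ⟨z, hz, hyz⟩ := Set.mem_iUnion₂.1 (hT (Set.mem_univ y))
  haveI : IsAffine (V z : Scheme.{u}) := hV z
  let M := CohB1.tensorMod F (CohB1.tensorPow L n)
  have hM : Coh.IsCoh M := CohBasics.Closure.isCoh_of_iso (TensorMod.Basic.comm _ F)
    (Snapper.Twist.isCoh_twist (TensorMod.Invertible.isInvertible_tensorPow hL n) hF)
  haveI := hM.1
  have hMfl := isFlatOver_twist f (TensorMod.Invertible.isInvertible_tensorPow hL n) hfl
  obtain ⟨b, P, h1, h2, h3, h4, h5⟩ := ZarCoh.Exchange.LocalRep.exists_rep f (V z) M hM hMfl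
  have hG : ZarCoh.Exchange.Grauert.Good P := ⟨fun i => ⟨h2 i, haveI := h3 i; inferInstance⟩, ⟨b, h1⟩, h4⟩
  have hQ := hG.flat_Q_all fun j hj => by
    obtain ⟨q, rfl⟩ : ∃ q : ℕ, j = -((q + 1 : ℕ) : ℤ) := ⟨(-j - 1).toNat, by omega⟩
    obtain ⟨⟨s⟩, -⟩ := h5 (q + 1)
    obtain ⟨e⟩ := ZarCoh.Exchange.Local.nonempty_linearEquiv_succ f (V z) (M := M) q
    haveI := hn₀ z n ((Finset.le_sup hz).trans hn) q
    haveI : Subsingleton (P.homology (-((q + 1 : ℕ) : ℤ))) := (s.symm.trans e).toEquiv.subsingleton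
    infer_instance
  obtain ⟨⟨s⟩, hr⟩ := h5 0
  obtain ⟨U, hyU, ⟨iU⟩⟩ := ZarCoh.Exchange.Free.exists_free_nhd_of_exact f M hM (V z) P hG.fin 0 s hr
    (hG.exact_of_flat _ (hQ _) (hQ _)) y hyz
  haveI : (Scheme.Modules.pushforward f).IsRightAdjoint :=
    (Scheme.Modules.pullbackPushforwardAdjunction f).isRightAdjoint
  haveI : PreservesLimitsOfSize.{0, 0} (Scheme.Modules.pushforward f) :=
    (Scheme.Modules.pullbackPushforwardAdjunction f).rightAdjoint_preservesLimits
  haveI : PreservesFiniteLimits (Scheme.Modules.pushforward f) :=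
    PreservesLimitsOfSize.preservesFiniteLimits _
  let i : (Coh.Rpush f 0).obj M ≅ (Scheme.Modules.pushforward f).obj M :=
    (@asIso _ _ _ _ _ (NatIso.isIso_app_of_isIso (Scheme.Modules.pushforward f).toRightDerivedZero M)).symm
  exact ⟨U, _, hyU, ⟨((Scheme.Modules.restrictFunctor U.ι).mapIso i).symm ≪≫ iU⟩⟩

/-- Finite locally free direct images have flat sections over affine opens of the base. -/
theorem flat_secA_top [HasInjectiveResolutions X.Modules] (V : Y.Opens) [IsAffine (V : Scheme.{u})]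
    (M : X.Modules) (h : FlatMod.IsFinLocFree ((Coh.push f).obj M))
    [((Coh.push f).obj M).IsQuasicoherent] :
    Module.Flat (AV V)
      ((CechRes.Sec.secA (XV f V ↘ Spec (CommRingCat.of (AV V))) ⊤).obj (MV f V M)) := by
  haveI : (Scheme.Modules.pushforward f).IsRightAdjoint :=
    (Scheme.Modules.pullbackPushforwardAdjunction f).isRightAdjoint
  haveI : PreservesLimitsOfSize.{0, 0} (Scheme.Modules.pushforward f) :=
    (Scheme.Modules.pullbackPushforwardAdjunction f).rightAdjoint_preservesLimits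
  haveI : PreservesFiniteLimits (Scheme.Modules.pushforward f) :=
    PreservesLimitsOfSize.preservesFiniteLimits _
  let i : (Coh.Rpush f 0).obj M ≅ (Scheme.Modules.pushforward f).obj M :=
    (@asIso _ _ _ _ _ (NatIso.isIso_app_of_isIso (Scheme.Modules.pushforward f).toRightDerivedZero M)).symm
  haveI := Modules.AffineSections.flat_sections (M := ((Coh.push f).obj M).restrict V.ι)
    (TensorMod.FPConv.isFlat_of_isFinLocFree (TensorMod.LocFree.isFinLocFree_restrict V.ι h))
    (isAffineOpen_top (V : Scheme.{u}))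
  obtain ⟨e⟩ := ZarCoh.Exchange.Local.nonempty_linearEquiv_zero f V M
  exact Module.Flat.of_linearEquiv ((((ZarCoh.Exchange.Local.sectionsLinearEquiv
    ((Scheme.Modules.restrictFunctor V.ι).mapIso i) ⊤).symm.trans e).trans
      (ZarCoh.Exchange.GlobalSections.hZeroLinear (AV V) (MV f V M))).symm)

/-- Flatness from finite locally free direct images of the twists. -/
theorem isFlatOver_of_finLocFree [IsProper f] {L : X.Modules} (ha : RelAmple.IsRelAmple f L)
    (hL : PicF.IsInvertible L) {F : X.Modules} (hF : Coh.IsCoh F) (n₀ : ℕ)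
    (h : ∀ n, n₀ ≤ n → FlatMod.IsFinLocFree ((Coh.push f).obj (CohB1.tensorMod F (CohB1.tensorPow L n)))) :
    FlatMod.IsFlatOver f F := by
  intro x
  haveI : HasInjectiveResolutions X.Modules :=
    haveI := DerivedOX.Grothendieck.enoughInjectives_modules X
    inferInstance
  haveI := hF.1
  obtain ⟨V, hV, hxV, -⟩ := exists_isAffineOpen_mem_and_subset (X := Y) (x := f x) (U := ⊤) trivial
  haveI : IsAffine (V : Scheme.{u}) := hV
  let pV := XV f V ↘ Spec (CommRingCat.of (AV V))
  let O := f ⁻¹ᵁ V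
  let LV := L.restrict O.ι
  obtain ⟨hLV, hc, hx⟩ := Ample.Pow.isAmple_iff.1 (ha.2 ⟨V, hV⟩)
  haveI := hc
  haveI : QuasiSeparatedSpace (XV f V) := quasiSeparatedSpace_of_quasiSeparated pV
  haveI : (MV f V F).IsQuasicoherent := inferInstanceAs ((F.restrict O.ι).IsQuasicoherent)
  obtain ⟨m, hm, s, hxs, hs⟩ := hx ⟨x, hxV⟩
  have hW : Module.Flat (AV V) ((CechRes.Sec.secA pV (CohB1.genLocus _ s)).obj (MV f V F)) := by
    refine TwistSections.flat_genLocus pV (TensorMod.Invertible.isInvertible_tensorPow hLV m)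
      (MV f V F) s hs n₀ fun n hn => ?_
    let M := CohB1.tensorMod F (CohB1.tensorPow L (m * n))
    have hM : Coh.IsQCoh M := (CohBasics.Closure.isCoh_of_iso (TensorMod.Basic.comm _ F)
      (Snapper.Twist.isCoh_twist (TensorMod.Invertible.isInvertible_tensorPow hL (m * n)) hF)).1
    haveI : M.IsQuasicoherent := hM
    haveI : ((Coh.push f).obj M).IsQuasicoherent := QCoh.Pushforward.isQCoh_pushforward f
    haveI := flat_secA_top f V M (h (m * n) (hn.trans (Nat.le_mul_of_pos_left n hm)))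
    exact Module.Flat.of_linearEquiv (((CechRes.Sec.secA pV ⊤).mapIso
      (twistRestrict L F (m * n) O ≪≫
        tensorIso (Iso.refl _) (Ample.Pow.powMul (L.restrict O.ι) m n).symm)).toLinearEquiv.symm)
  let W := CohB1.genLocus _ s
  let V' := V.ι ''ᵁ ⊤
  let U := O.ι ''ᵁ W
  have hV' : IsAffineOpen V' := (isAffineOpen_top (V : Scheme.{u})).image_of_isOpenImmersion V.ι
  have hU : IsAffineOpen U := hs.image_of_isOpenImmersion O.ι
  have hUV : U ≤ f ⁻¹ᵁ V' := by
    rw [show f ⁻¹ᵁ V' = O.ι ''ᵁ ⊤ from (image_morphismRestrict_preimage f V ⊤).symm]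
    exact Scheme.Hom.image_mono O.ι le_top
  have hxU : x ∈ U := ⟨⟨x, hxV⟩, hxs, rfl⟩
  rw [Groth.Agent.H19.FlatLocus.Scheme.isFlatOverAt_iff f F hV' hU hUV hxU]
  letI : Algebra Γ(Y, V') Γ(X, U) := (f.appLE V' U hUV).hom.toAlgebra
  letI : Module Γ(Y, V') Γ(F, U) := Module.compHom Γ(F, U) (f.appLE V' U hUV).hom
  haveI : IsScalarTower Γ(Y, V') Γ(X, U) Γ(F, U) := IsScalarTower.of_algebraMap_smul fun _ _ ↦ rfl
  haveI : Module.Flat Γ(Y, V') Γ(F, U) := by
    haveI := hW
    letI mA : Module (AV V) Γ(F, U) := ‹Module Γ(Y, V') Γ(F, U)›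
    refine Module.Flat.of_linearEquiv (R := AV V)
      ({ AddEquiv.refl _ with map_smul' := fun a t => ?_ } :
        Γ(F, U) ≃ₗ[AV V] (CechRes.Sec.secA pV W).obj (MV f V F))
    change (f.appLE V' U hUV) a • (show Γ(F, U) from t) =
      ((O.ι.appIso W).inv (CechRes.Sec.rho pV W a)) • (show Γ(F, U) from t)
    congr 1
    rw [Scheme.Opens.ι_appIso]
    have hr : CechRes.Sec.rho pV ⊤ a = CohDelta.Glue.pb (f ∣_ V) a := by
      rw [← ZarCoh.Exchange.Local.toGlobal_toSpec]
      show pV.appLE ⊤ ⊤ le_top _ = pV.app ⊤ _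
      rw [Scheme.Hom.app_eq_appLE]
      rfl
    rw [← CechRes.Sec.rho_res pV (le_top : W ≤ ⊤) a, hr]
    show (f.appLE V' U hUV) a = X.presheaf.map (homOfLE (Scheme.Hom.image_mono O.ι le_top)).op
      ((f ∣_ V).app ⊤ a)
    rw [morphismRestrict_app']
    exact (ConcreteCategory.congr_hom (Scheme.Hom.appLE_map f _
      (homOfLE (Scheme.Hom.image_mono O.ι le_top)).op) a).symm
  refine (Groth.Agent.H19.FlatLocus.flat_iff_killed (R := Γ(Y, V'))
    (hU.primeIdealOf ⟨x, hxU⟩).asIdeal.primeCompl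
    (LocalizedModule.mkLinearMap (hU.primeIdealOf ⟨x, hxU⟩).asIdeal.primeCompl Γ(F, U))).2
      fun J y hy => ⟨1, one_mem _, ?_⟩
  rw [one_smul]
  exact (Module.Flat.iff_lTensor_injective'.1 inferInstance J) (hy.trans (map_zero _).symm)

end Groth.Agent.Lib.Exchange.FlatTwist
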