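import Groth.Agent.Lib.CohDelta.QCohR
import Groth.Agent.Lib.ZarCoh.Compare
import Groth.Agent.Lib.Curves.LES
import Groth.Agent.Lib.Flat55.FlatOverAt
import Groth.Agent.Lib.Exchange.GlobalSections

/-!
# Higher direct images over an affine open of the base
-/

set_option autoImplicit false
set_option linter.style.haveILetI false
set_option maxHeartbeats 1000000
universe u

open CategoryTheory CategoryTheory.Limits AlgebraicGeometry TopologicalSpace Opposite
open CategoryTheory.Abelian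

namespace ZarCoh.Exchange.Local

open Groth.Agent.Lib Groth.Agent.Lib.ZarCoh.Basic Groth.Agent.Lib.ZarCoh.Compare
open Groth.Agent.Lib.CohDelta Groth.Agent.Lib.CohDelta.Syzygy

noncomputable section

variable {X S : Scheme.{u}} (f : X ⟶ S) (V : S.Opens) [IsAffine (V : Scheme.{u})]

/-- The functions on `V`. -/
abbrev AV : Type u := Γ((V : Scheme.{u}), ⊤)

/-- The preimage of `V`. -/
abbrev XV : Scheme.{u} := ((f ⁻¹ᵁ V : X.Opens) : Scheme.{u})

/-- The structure map of the preimage. -/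
def toSpec : XV f V ⟶ Spec (CommRingCat.of (AV V)) := (f ∣_ V) ≫ (V : Scheme.{u}).isoSpec.hom

instance overXV : (XV f V).Over (Spec (CommRingCat.of (AV V))) := ⟨toSpec f V⟩

/-- The restriction of a module to the preimage. -/
abbrev MV (M : X.Modules) : (XV f V).Modules := M.restrict (f ⁻¹ᵁ V).ι

instance [IsProper f] : IsProper (XV f V ↘ Spec (CommRingCat.of (AV V))) := by
  show IsProper ((f ∣_ V) ≫ (V : Scheme.{u}).isoSpec.hom)
  haveI : IsProper (f ∣_ V) := MorphismProperty.of_isPullback (isPullback_morphismRestrict f V).flip ‹IsProper f›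
  infer_instance

instance [QuasiCompact f] : QuasiCompact (XV f V ↘ Spec (CommRingCat.of (AV V))) := by
  show QuasiCompact ((f ∣_ V) ≫ (V : Scheme.{u}).isoSpec.hom)
  infer_instance

theorem toGlobal_toSpec (r : AV V) :
    Coh.toGlobal (XV f V ↘ Spec (CommRingCat.of (AV V))) r = Glue.pb (f ∣_ V) r := by
  show ((f ∣_ V) ≫ (V : Scheme.{u}).isoSpec.hom).appTop ((Scheme.ΓSpecIso Γ((V : Scheme.{u}), ⊤)).inv r) = _
  rw [Scheme.Hom.comp_appTop, CommRingCat.comp_apply]
  refine congrArg (f ∣_ V).appTop ?_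
  rw [show (V : Scheme.{u}).isoSpec.hom = (V : Scheme.{u}).toSpecΓ from rfl, Scheme.toSpecΓ_appTop]
  exact Iso.inv_hom_id_apply (Scheme.ΓSpecIso Γ((V : Scheme.{u}), ⊤)) r

theorem flat_over {M : X.Modules} (hM : FlatMod.IsFlatOver f M) :
    FlatMod.IsFlatOver (XV f V ↘ Spec (CommRingCat.of (AV V))) (MV f V M) := by
  intro x
  let k : Spec (CommRingCat.of (AV V)) ⟶ S := (V : Scheme.{u}).isoSpec.inv ≫ V.ι
  let g := XV f V ↘ Spec (CommRingCat.of (AV V))
  let N := MV f V M
  have hj : ((f ⁻¹ᵁ V).ι.stalkMap x).hom.Flat :=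
    RingHom.Flat.of_bijective (ConcreteCategory.bijective_of_isIso ((f ⁻¹ᵁ V).ι.stalkMap x))
  have h1 : FlatMod.IsFlatOverAt ((f ⁻¹ᵁ V).ι ≫ f) N x :=
    Flat55.FlatOverAt.of_iso _ ((Scheme.Modules.restrictFunctorIsoPullback (f ⁻¹ᵁ V).ι).app M).symm x
      ((Flat55.FlatOverAt.isFlatOverAt_pullback_iff _ f M x hj).2 (hM _))
  have hk : g ≫ k = (f ⁻¹ᵁ V).ι ≫ f := by
    show ((f ∣_ V) ≫ (V : Scheme.{u}).isoSpec.hom) ≫ (V : Scheme.{u}).isoSpec.inv ≫ V.ι = _
    rw [Category.assoc, Iso.hom_inv_id_assoc, morphismRestrict_ι]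
  have h2 : FlatMod.IsFlatOverAt (g ≫ k) N x := hk ▸ h1
  let R := S.presheaf.stalk (k (g x))
  let B := (Spec (CommRingCat.of (AV V))).presheaf.stalk (g x)
  let P := N.presheaf.stalk x
  letI : Module B P := FlatMod.moduleStalkOver g N x
  letI : Module R P := FlatMod.moduleStalkOver (g ≫ k) N x
  letI : Algebra R B := (k.stalkMap (g x)).hom.toAlgebra
  haveI : IsScalarTower R B P := IsScalarTower.of_algebraMap_smul fun r m => by
    show (g.stalkMap x).hom ((k.stalkMap (g x)).hom r) • m = ((g ≫ k).stalkMap x).hom r • m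
    rw [Scheme.Hom.stalkMap_comp g k x]
    rfl
  haveI : Module.Flat R P := h2
  have hb : Function.Surjective (algebraMap R B) :=
    (ConcreteCategory.bijective_of_isIso (k.stalkMap (g x))).2
  refine Module.Flat.of_linearEquiv (R := B) (LinearEquiv.ofBijective
    (LinearMap.liftBaseChange B (LinearMap.id : P →ₗ[R] P)) ⟨fun z z' h => ?_,
      fun m => ⟨1 ⊗ₜ m, by simp⟩⟩).symm
  have hz : ∀ z : TensorProduct R B P, z = 1 ⊗ₜ LinearMap.liftBaseChange B (LinearMap.id : P →ₗ[R] P) z := by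
    intro z
    induction z using TensorProduct.induction_on with
    | zero => simp
    | tmul b m =>
      obtain ⟨r, rfl⟩ := hb b
      rw [LinearMap.liftBaseChange_tmul, LinearMap.id_apply, algebraMap_smul, TensorProduct.tmul_smul,
        TensorProduct.smul_tmul', ← Algebra.algebraMap_eq_smul_one]
    | add a b ha hb => rw [map_add, TensorProduct.tmul_add, ← ha, ← hb]
  rw [hz z, hz z', h]

/-- An isomorphism of modules on sections. -/
def sectionsLinearEquiv {Y : Scheme.{u}} {N N' : Y.Modules} (e : N ≅ N') (U : Y.Opens) :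
    Γ(N, U) ≃ₗ[Γ(Y, U)] Γ(N', U) where
  toFun := e.hom.app U
  invFun := e.inv.app U
  left_inv x := by rw [← ConcreteCategory.comp_apply, ← Scheme.Modules.Hom.comp_app, e.hom_inv_id]; rfl
  right_inv x := by rw [← ConcreteCategory.comp_apply, ← Scheme.Modules.Hom.comp_app, e.inv_hom_id]; rfl
  map_add' := map_add _
  map_smul' r x := e.hom.app_smul r x

variable [HasInjectiveResolutions X.Modules]

theorem nonempty_linearEquiv_zero (M : X.Modules) :
    Nonempty (Γ(((Coh.Rpush f 0).obj M).restrict V.ι, ⊤) ≃ₗ[AV V] Coh.HH (XV f V) (MV f V M) 0) := by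
  haveI : (Scheme.Modules.pushforward f).IsRightAdjoint :=
    (Scheme.Modules.pullbackPushforwardAdjunction f).isRightAdjoint
  haveI : PreservesLimitsOfSize.{0, 0} (Scheme.Modules.pushforward f) :=
    (Scheme.Modules.pullbackPushforwardAdjunction f).rightAdjoint_preservesLimits
  haveI : PreservesFiniteLimits (Scheme.Modules.pushforward f) :=
    PreservesLimitsOfSize.preservesFiniteLimits _
  let i : (Coh.Rpush f 0).obj M ≅ (Scheme.Modules.pushforward f).obj M :=
    (@asIso _ _ _ _ _ (NatIso.isIso_app_of_isIso (Scheme.Modules.pushforward f).toRightDerivedZero M)).symm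
  let pV := (XV f V ↘ Spec (CommRingCat.of (AV V)))
  let e : (f ⁻¹ᵁ V).ι ''ᵁ (⊤ : (XV f V).Opens) = f ⁻¹ᵁ (V.ι ''ᵁ ⊤) :=
    image_morphismRestrict_preimage f V ⊤
  let N := MV f V M
  let P := ((Scheme.Modules.pushforward f).obj M).restrict V.ι
  let b : Γ(P, ⊤) →ₗ[AV V] (CechRes.Sec.secA pV ⊤).obj N :=
    { toFun := fun s => CechRes.Sec.toSec pV (M := N) (M.presheaf.map (eqToHom e).op s)
      map_add' := fun s t => map_add (M.presheaf.map (eqToHom e).op).hom s t
      map_smul' := fun r s => by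
        refine (M.map_smul (eqToHom e) _ s).trans ?_
        refine congrArg (fun k : Γ(X, (f ⁻¹ᵁ V).ι ''ᵁ ⊤) => k • (show Γ(M, (f ⁻¹ᵁ V).ι ''ᵁ ⊤) from
          M.presheaf.map (eqToHom e).op s)) ?_
        have hr : CechRes.Sec.rho pV ⊤ r = Glue.pb (f ∣_ V) r := by
          rw [← toGlobal_toSpec]
          show pV.appLE ⊤ ⊤ le_top _ = pV.app ⊤ _
          rw [Scheme.Hom.app_eq_appLE]
          rfl
        show X.presheaf.map (eqToHom e).op (f.app (V.ι ''ᵁ ⊤) ((V.ι.appIso ⊤).inv r)) =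
          ((f ⁻¹ᵁ V).ι.appIso ⊤).inv (CechRes.Sec.rho pV ⊤ r)
        rw [hr, Scheme.Opens.ι_appIso, Scheme.Opens.ι_appIso]
        show X.presheaf.map (eqToHom e).op (f.app (V.ι ''ᵁ ⊤) r) = (f ∣_ V).app ⊤ r
        rw [morphismRestrict_app', ← ConcreteCategory.comp_apply, Scheme.Hom.app_eq_appLE,
          Scheme.Hom.appLE_map]
        rfl }
  have hb : Function.Bijective b := ConcreteCategory.bijective_of_isIso (M.presheaf.map (eqToHom e).op)
  exact ⟨(sectionsLinearEquiv ((Scheme.Modules.restrictFunctor V.ι).mapIso i) ⊤).trans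
    ((LinearEquiv.ofBijective b hb).trans (GlobalSections.hZeroLinear (AV V) N).symm)⟩

variable {M : X.Modules}

theorem nonempty_linearEquiv_succ [QuasiCompact f] [QuasiSeparated f] [hM : M.IsQuasicoherent] (p : ℕ) :
    Nonempty (Γ(((Coh.Rpush f (p + 1)).obj M).restrict V.ι, ⊤) ≃ₗ[AV V]
      Coh.HH (XV f V) (MV f V M) (p + 1)) := by
  let I := injectiveResolution M
  obtain ⟨i⟩ := nonempty_rightDerived_iso I f p
  haveI : (Z I 0).IsQuasicoherent :=
    ObjectProperty.prop_of_iso (SheafOfModules.isQuasicoherent (R := X.ringCatSheaf)) (augIso I) hM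
  let E := QCohR.cmpV f I p V
  have hbT : Function.Bijective (E.e ⊤) := Glue.bijective_top (f ∣_ V) (MV f V (Z I 0)) E
  let a : Coh.HH (XV f V) (MV f V (Z I 0)) (p + 1) →ₗ[AV V] Γ((R I f p).restrict V.ι, ⊤) :=
    { toFun := fun x => E.e ⊤ (hTop (Coh.toAb (MV f V (Z I 0))) (p + 1) x)
      map_add' := fun x y => (congrArg (E.e ⊤) (map_add _ x y)).trans (map_add (E.e ⊤) _ _)
      map_smul' := fun r x => by
        have h : hTop (Coh.toAb (MV f V (Z I 0))) (p + 1) (r • x) =
            Loc.mulA (MV f V (Z I 0)) (Glue.pb (f ∣_ V) r) ⊤ (p + 1)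
              (hTop (Coh.toAb (MV f V (Z I 0))) (p + 1) x) := by
          rw [← toGlobal_toSpec]
          exact hTop_comp x (Ext.mk₀ (Coh.smulAb (MV f V (Z I 0))
            (Coh.toGlobal (XV f V ↘ Spec (CommRingCat.of (AV V))) r))) (add_zero (p + 1))
        refine (congrArg (E.e ⊤) h).trans ((QCohR.cmpV_smul f I p V r ⊤ _).trans ?_)
        exact congrArg (fun k : Γ(S, V.ι ''ᵁ ⊤) ↦ k • (show Γ(R I f p, V.ι ''ᵁ ⊤) from
          E.e ⊤ (hTop (Coh.toAb (MV f V (Z I 0))) (p + 1) x))) ((QCoh.Localizing.resR_self le_rfl r).trans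
            (show r = (V.ι.appIso ⊤).inv r by rw [Scheme.Opens.ι_appIso]; rfl)) }
  have ha : Function.Bijective a := hbT.comp (hTop _ _).bijective
  exact ⟨((sectionsLinearEquiv ((Scheme.Modules.restrictFunctor V.ι).mapIso i) ⊤)).trans
    ((LinearEquiv.ofBijective a ha).symm.trans
      (Curves.LES.isoK (AV V) ((Scheme.Modules.restrictFunctor (f ⁻¹ᵁ V).ι).mapIso (augIso I)).symm (p + 1)))⟩

end

end ZarCoh.Exchange.Local
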