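import Groth.Agent.Lib.Exchange.FiniteAmple
import Groth.Agent.Lib.Ample.Pullback

/-!
# Ampleness descends along finite surjections: Noetherian induction
-/

set_option autoImplicit false
set_option linter.style.haveILetI false
universe u

open CategoryTheory CategoryTheory.Limits AlgebraicGeometry Opposite TopologicalSpace

namespace Groth.Agent.Lib.Exchange.FiniteAmple

open Groth.Agent.Lib

local notation "pb" => Scheme.Modules.pullback

variable {X Y : Scheme.{u}} (A : Type u) [CommRing A] [IsNoetherianRing A]
  [X.Over (Spec (CommRingCat.of A))] [IsProper (X ↘ Spec (CommRingCat.of A))]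

include A

theorem isAmple_integral_closed (f : Y ⟶ X) [IsFinite f] [Surjective f] {L : X.Modules}
    (hL : PicF.IsInvertible L) (hM : CohB1.IsAmple ((pb f).obj L)) (T : Closeds X) :
    ∀ (Z : Scheme.{u}) (i : Z ⟶ X), IsClosedImmersion i → IsIntegral Z → Set.range i ⊆ T →
      CohB1.IsAmple ((pb i).obj L) := by
  haveI := H78.Existence.AmpleVanish.isNoetherian_of_proper A (X := X)
  induction T using WellFoundedLT.induction with
  | ind T ih =>
    intro Z i hi hZi hrange
    letI : Z.Over (Spec (CommRingCat.of A)) := ⟨i ≫ (X ↘ Spec (CommRingCat.of A))⟩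
    haveI : IsProper (Z ↘ Spec (CommRingCat.of A)) :=
      inferInstanceAs (IsProper (i ≫ (X ↘ Spec (CommRingCat.of A))))
    haveI := H78.Existence.AmpleVanish.isNoetherian_of_proper A (X := Z)
    let YZ := pullback f i
    haveI : IsFinite (pullback.snd f i) := inferInstance
    haveI : Surjective (pullback.snd f i) := inferInstance
    obtain ⟨y₀, hy₀⟩ := (pullback.snd f i).surjective (genericPoint Z)
    let W := (IntMult.ptIdeal y₀).subscheme
    haveI : IsIntegral W := H97.CurveEuler.isIntegral_ptIdeal y₀
    let w : W ⟶ pullback f i := (IntMult.ptIdeal y₀).subschemeι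
    let g : W ⟶ Z := w ≫ pullback.snd f i
    haveI : Surjective g := by
      refine ⟨Set.range_eq_univ.mp (Set.univ_subset_iff.mp ?_)⟩
      rw [← (genericPoint_spec Z).def]
      refine g.isClosedMap.isClosed_range.closure_subset_iff.mpr ?_
      rintro _ rfl
      obtain ⟨z, hz⟩ : y₀ ∈ Set.range w :=
        (Devissage.Closure.range_ptIdeal y₀).symm ▸ subset_closure rfl
      exact ⟨z, (congrArg (pullback.snd f i) hz).trans hy₀⟩
    letI : W.Over (Spec (CommRingCat.of A)) := ⟨g ≫ (Z ↘ Spec (CommRingCat.of A))⟩
    haveI : IsProper (W ↘ Spec (CommRingCat.of A)) :=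
      inferInstanceAs (IsProper (g ≫ (Z ↘ Spec (CommRingCat.of A))))
    let v : W ⟶ Y := w ≫ pullback.fst f i
    have hv : v ≫ f = g ≫ i := by simp only [v, g, Category.assoc, pullback.condition]
    have hMg : CohB1.IsAmple ((pb g).obj ((pb i).obj L)) :=
      Ample.Pow.isAmple_of_iso ((Scheme.Modules.pullbackComp v f).app L ≪≫
        (Scheme.Modules.pullbackCongr hv).app L ≪≫ ((Scheme.Modules.pullbackComp g i).app L).symm)
        (Ample.Pullback.isAmple_pullback v (Ample.Pullback.isQuasiAffine_of_isAffineHom v) hM)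
    have hLZ := PicLoc.isInvertible_pullback i hL
    refine H97.AmpleH1.isAmple hLZ fun I ι _ hI => ?_
    obtain ⟨n₀, hn⟩ := Filter.eventually_atTop.1 (vanh_ideal A g hLZ hMg (fun T' hT' F hF hFT => by
      refine Nakai.VanDev.vanh_of_integral A hLZ T' (fun y hy => ?_) hF hFT
      let j := (IntMult.ptIdeal y).subschemeι
      haveI := H97.CurveEuler.isIntegral_ptIdeal y
      let S : Closeds X := ⟨Set.range (j ≫ i), (j ≫ i).isClosedEmbedding.isClosed_range⟩
      have hST : S < T := by
        refine lt_of_le_of_ne (fun x hx => ?_) fun e => hT' (Set.eq_univ_of_forall fun z => ?_)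
        · obtain ⟨z, rfl⟩ := hx
          exact hrange ⟨j z, rfl⟩
        · have hz : i z ∈ (S : Set X) := e ▸ hrange ⟨z, rfl⟩
          obtain ⟨z', hz'⟩ := hz
          obtain rfl : j z' = z := i.isClosedEmbedding.injective hz'
          have : j z' ∈ closure ({y} : Set Z) := Devissage.Closure.range_ptIdeal y ▸ ⟨z', rfl⟩
          exact T'.isClosed.closure_subset_iff.mpr (Set.singleton_subset_iff.mpr hy) this
      exact Ample.Pow.isAmple_of_iso ((Scheme.Modules.pullbackComp j i).app L).symm
        (ih S hST _ (j ≫ i) inferInstance inferInstance subset_rfl)) I ι hI)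
    exact ⟨n₀, hn (n₀ + 1) n₀.le_succ 0⟩

/-- **Ampleness descends along finite surjections.** -/
theorem isAmple_of_finite_surjective (f : Y ⟶ X) [IsFinite f] [Surjective f] {L : X.Modules}
    (hL : PicF.IsInvertible L) (hM : CohB1.IsAmple ((pb f).obj L)) : CohB1.IsAmple L :=
  Nakai.VanDev.isAmple_of_integral A hL fun y =>
    isAmple_integral_closed A f hL hM ⊤ _ _ inferInstance (H97.CurveEuler.isIntegral_ptIdeal y)
      (Set.subset_univ _)

end Groth.Agent.Lib.Exchange.FiniteAmple
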