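import Groth.Agent.Lib.Exchange.HomAdj
import Groth.Agent.Lib.DerivedOX.PullbackStalk
import Groth.Agent.Lib.RefHull.LocFree
import Groth.Agent.Lib.RefHull.Reflexive
import Groth.Agent.Lib.Perfect.Coherent
import Groth.Agent.Lib.TensorMod.FPConv
import Groth.Agent.Lib.TensorMod.LocFree

/-!
# Pullback of the sheaf Hom of finite locally free modules
-/

set_option autoImplicit false
set_option linter.style.haveILetI false
universe u

open CategoryTheory AlgebraicGeometry Opposite TopologicalSpace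
open scoped TensorProduct

namespace ZarCoh.Exchange.HomPullback

open Groth.Agent.Lib Groth.Agent.Lib.Modules Groth.Agent.Lib.DerivedOX
open Groth.Agent.Lib.TensorMod.Dual Groth.Agent.Lib.RefHull.SecHom

noncomputable section

variable {X Z : Scheme.{u}} (i : Z ⟶ X) {F G K : X.Modules}

local notation "pb" => Scheme.Modules.pullback i

/-- The stalk map of pullback of sections. -/
def pl (M : X.Modules) (z : Z) : M.presheaf.stalk (i z) →+ ((pb).obj M).presheaf.stalk z where
  toFun a := (PullbackStalk.unitStalk i z M).hom a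
  map_zero' := map_zero (PullbackStalk.unitStalk i z M).hom
  map_add' := map_add (PullbackStalk.unitStalk i z M).hom

theorem pl_smul (M : X.Modules) (z : Z) (c : X.presheaf.stalk (i z)) (a : M.presheaf.stalk (i z)) :
    pl i M z (c • a) = (i.stalkMap z).hom c • pl i M z a :=
  map_smul (PullbackStalk.unitStalk i z M).hom c a

theorem pl_germ (M : X.Modules) {U : X.Opens} {z : Z} (h : i z ∈ U) (m : Γ(M, U)) :
    pl i M z (M.presheaf.germ U (i z) h m) = ((pb).obj M).presheaf.germ (i ⁻¹ᵁ U) z h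
      (((Scheme.Modules.pullbackPushforwardAdjunction i).unit.app M).app U m) := by
  refine (congrArg (PullbackStalk.pushStalkMap i z _) (StalkModule.stalkMapₗ_germ _ h m)).trans ?_
  exact PullbackStalk.pushStalkMap_germ i z _ h _

theorem stalkMap_pl {M N : X.Modules} (φ : M ⟶ N) (z : Z) (a : M.presheaf.stalk (i z)) :
    StalkModule.stalkMapₗ ((pb).map φ) z (pl i M z a) =
      pl i N z (StalkModule.stalkMapₗ φ (i z) a) :=
  (ConcreteCategory.congr_hom (PullbackStalk.unitStalk_natural i z φ) a).symm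

/-- The stalk of a pullback as a base change. -/
def stalkEquiv (M : X.Modules) (z : Z) :
    letI : Algebra (X.presheaf.stalk (i z)) (Z.presheaf.stalk z) := (i.stalkMap z).hom.toAlgebra
    Z.presheaf.stalk z ⊗[X.presheaf.stalk (i z)] M.presheaf.stalk (i z) ≃ₗ[Z.presheaf.stalk z]
      ((pb).obj M).presheaf.stalk z :=
  ((PullbackStalk.pullbackStalkIso i z).app M).toLinearEquiv

theorem stalkEquiv_tmul (M : X.Modules) (z : Z) (c : Z.presheaf.stalk z)
    (a : M.presheaf.stalk (i z)) :
    letI : Algebra (X.presheaf.stalk (i z)) (Z.presheaf.stalk z) := (i.stalkMap z).hom.toAlgebra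
    stalkEquiv i M z (c ⊗ₜ a) = c • pl i M z a := by
  letI : Algebra (X.presheaf.stalk (i z)) (Z.presheaf.stalk z) := (i.stalkMap z).hom.toAlgebra
  have h : c ⊗ₜ[X.presheaf.stalk (i z)] a = c • ((1 : Z.presheaf.stalk z) ⊗ₜ a) := by
    rw [TensorProduct.smul_tmul', smul_eq_mul, mul_one]
  rw [h, map_smul]
  exact congrArg (c • ·) (PullbackStalk.comparison_one_tmul i z M a)

/-- Linear maps out of the stalk of a pullback agree when they agree on pulled back germs. -/
theorem hom_ext {M : X.Modules} {z : Z} {P : Type u} [AddCommGroup P] [Module (Z.presheaf.stalk z) P]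
    {a b : ((pb).obj M).presheaf.stalk z →ₗ[Z.presheaf.stalk z] P}
    (h : ∀ m, a (pl i M z m) = b (pl i M z m)) : a = b := by
  letI : Algebra (X.presheaf.stalk (i z)) (Z.presheaf.stalk z) := (i.stalkMap z).hom.toAlgebra
  refine LinearMap.ext fun v => ?_
  obtain ⟨t, rfl⟩ := (stalkEquiv i M z).surjective v
  induction t using TensorProduct.induction_on with
  | zero => simp only [map_zero]
  | add s t hs ht => simp only [map_add, hs, ht]
  | tmul c m => rw [stalkEquiv_tmul, map_smul, map_smul, h]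

/-- Base change of a map of stalks. -/
def bc {M N : X.Modules} (z : Z) (g : RefHull.StalkHom M N (i z)) :
    RefHull.StalkHom ((pb).obj M) ((pb).obj N) z :=
  letI : Algebra (X.presheaf.stalk (i z)) (Z.presheaf.stalk z) := (i.stalkMap z).hom.toAlgebra
  ((stalkEquiv i N z).toLinearMap.comp (g.baseChange (Z.presheaf.stalk z))).comp
    (stalkEquiv i M z).symm.toLinearMap

theorem bc_pl {M N : X.Modules} (z : Z) (g : RefHull.StalkHom M N (i z))
    (a : M.presheaf.stalk (i z)) : bc i z g (pl i M z a) = pl i N z (g a) := by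
  letI : Algebra (X.presheaf.stalk (i z)) (Z.presheaf.stalk z) := (i.stalkMap z).hom.toAlgebra
  have h : (stalkEquiv i M z).symm (pl i M z a) = 1 ⊗ₜ a := by
    rw [LinearEquiv.symm_apply_eq, stalkEquiv_tmul, one_smul]
  show stalkEquiv i N z (g.baseChange _ ((stalkEquiv i M z).symm _)) = _
  rw [h, LinearMap.baseChange_tmul, stalkEquiv_tmul, one_smul]

theorem bc_stalkMap {M N : X.Modules} (φ : M ⟶ N) (z : Z) :
    bc i z (StalkModule.stalkMapₗ φ (i z)) = StalkModule.stalkMapₗ ((pb).map φ) z :=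
  hom_ext i fun a => by rw [bc_pl, stalkMap_pl]

theorem bc_zero {M N : X.Modules} (z : Z) : bc i z (0 : RefHull.StalkHom M N (i z)) = 0 :=
  hom_ext i fun a => by rw [bc_pl, LinearMap.zero_apply, LinearMap.zero_apply, map_zero]

theorem bc_add {M N : X.Modules} (z : Z) (g g' : RefHull.StalkHom M N (i z)) :
    bc i z (g + g') = bc i z g + bc i z g' :=
  hom_ext i fun a => by
    rw [bc_pl, LinearMap.add_apply, LinearMap.add_apply, bc_pl, bc_pl, map_add]

theorem bc_smul {M N : X.Modules} (z : Z) (c : X.presheaf.stalk (i z))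
    (g : RefHull.StalkHom M N (i z)) : bc i z (c • g) = (i.stalkMap z).hom c • bc i z g :=
  hom_ext i fun a => by
    rw [bc_pl, LinearMap.smul_apply, LinearMap.smul_apply, bc_pl, pl_smul]

theorem isLocSect_bc {U : X.Opens} (g : Γ(_root_.RefHull.homSh F G, U)) :
    _root_.RefHull.IsLocSect ((pb).obj F) ((pb).obj G)
      fun z : ↥(i ⁻¹ᵁ U) => bc i z.1 (g.1 ⟨i z.1, z.2⟩) := by
  intro V j m z
  let hU : ∀ y ∈ V, i y ∈ U := fun y hy => j.le hy
  suffices hP : ∀ v : ((pb).obj F).presheaf.stalk z.1, ∃ (W : Z.Opens) (hW : W ≤ V) (_ : z.1 ∈ W)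
      (s : Γ((pb).obj F, W)) (n : Γ((pb).obj G, W)), ((pb).obj F).presheaf.germ W z.1 ‹_› s = v ∧
        ∀ (y : Z) (hy : y ∈ W), bc i y (g.1 ⟨i y, hU y (hW hy)⟩)
          (((pb).obj F).presheaf.germ W y hy s) = ((pb).obj G).presheaf.germ W y hy n by
    obtain ⟨W, hW, hz, s, n, hs, hn⟩ := hP (((pb).obj F).presheaf.germ V z.1 z.2 m)
    obtain ⟨T, hzT, a, b, hT⟩ := TopCat.Presheaf.germ_eq _ z.1 hz z.2 s m hs
    refine ⟨T, hzT, b, ((pb).obj G).presheaf.map a.op n, fun y => ?_⟩
    have e := hn y.1 (a.le y.2)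
    rw [← TopCat.Presheaf.germ_res_apply ((pb).obj F).presheaf a y.1 y.2 s, hT,
      TopCat.Presheaf.germ_res_apply] at e
    rw [TopCat.Presheaf.germ_res_apply]
    exact e
  intro v
  letI : Algebra (X.presheaf.stalk (i z.1)) (Z.presheaf.stalk z.1) := (i.stalkMap z.1).hom.toAlgebra
  obtain ⟨t, rfl⟩ := (stalkEquiv i F z.1).surjective v
  induction t using TensorProduct.induction_on with
  | zero =>
    exact ⟨V, le_rfl, z.2, 0, 0, by simp only [map_zero], fun y hy => by simp only [map_zero]⟩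
  | add s t hs ht =>
    obtain ⟨W, hW, hz, a, n, ha, hn⟩ := hs
    obtain ⟨W', hW', hz', a', n', ha', hn'⟩ := ht
    refine ⟨W ⊓ W', inf_le_left.trans hW, ⟨hz, hz'⟩,
      rs _ (inf_le_left : W ⊓ W' ≤ W) a + rs _ (inf_le_right : W ⊓ W' ≤ W') a',
      rs _ (inf_le_left : W ⊓ W' ≤ W) n + rs _ (inf_le_right : W ⊓ W' ≤ W') n', ?_, fun y hy => ?_⟩
    · rw [map_add, germ_rs, germ_rs, ha, ha', map_add]
    · rw [map_add, map_add, map_add, germ_rs, germ_rs, germ_rs, germ_rs, hn, hn']
  | tmul c a =>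
    obtain ⟨W₁, hz₁, c, rfl⟩ := TopCat.Presheaf.exists_germ_eq Z.presheaf c
    obtain ⟨U₁, hx₁, a, rfl⟩ := TopCat.Presheaf.exists_germ_eq F.presheaf a
    let U₂ : X.Opens := U₁ ⊓ U
    let W : Z.Opens := W₁ ⊓ (i ⁻¹ᵁ U₂) ⊓ V
    let η := fun M : X.Modules => (Scheme.Modules.pullbackPushforwardAdjunction i).unit.app M
    have h1 : W ≤ W₁ := inf_le_left.trans inf_le_left
    have h2 : W ≤ i ⁻¹ᵁ U₂ := inf_le_left.trans inf_le_right
    have hz : z.1 ∈ W := ⟨⟨hz₁, hx₁, hU _ z.2⟩, z.2⟩
    let a₂ : Γ(F, U₂) := rs F inf_le_left a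
    refine ⟨W, inf_le_right, hz, rf h1 c • rs _ h2 ((η F).app U₂ a₂),
      rf h1 c • rs _ h2 ((η G).app U₂ (app g inf_le_right a₂)), ?_, fun y hy => ?_⟩
    · rw [StalkModule.germ_smul, germ_rf, germ_rs, ← pl_germ i F (h2 hz), germ_rs,
        stalkEquiv_tmul]
    · rw [StalkModule.germ_smul, StalkModule.germ_smul, map_smul, germ_rs, germ_rs,
        ← pl_germ i F (h2 hy), ← pl_germ i G (h2 hy), bc_pl, germ_app]

/-- The base change of a section of the sheaf Hom. -/
def bcSec {U : X.Opens} (g : Γ(_root_.RefHull.homSh F G, U)) :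
    Γ(_root_.RefHull.homSh ((pb).obj F) ((pb).obj G), i ⁻¹ᵁ U) :=
  ⟨fun z : ↥(i ⁻¹ᵁ U) => bc i z.1 (g.1 ⟨i z.1, z.2⟩), isLocSect_bc i g⟩

variable (F G) in
/-- The adjoint of the comparison map. -/
def thetaAdj : _root_.RefHull.homSh F G ⟶
    (Scheme.Modules.pushforward i).obj (_root_.RefHull.homSh ((pb).obj F) ((pb).obj G)) :=
  ⟨PresheafOfModules.homMk
    { app := fun U => AddCommGrpCat.ofHom
        { toFun := fun g : Γ(_root_.RefHull.homSh F G, U.unop) => bcSec i g
          map_zero' := Subtype.ext <| funext fun z => bc_zero i z.1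
          map_add' := fun g g' => Subtype.ext <| funext fun z => bc_add i z.1 _ _ }
      naturality := fun {U V} j => by
        ext g
        rfl }
    (fun U r g => Subtype.ext <| funext fun z => by
      show bc i z.1 (X.presheaf.germ U.unop (i z.1) z.2 (show Γ(X, U.unop) from r) • g.1 ⟨i z.1, z.2⟩) =
        Z.presheaf.germ (i ⁻¹ᵁ U.unop) z.1 z.2 (i.app U.unop (show Γ(X, U.unop) from r)) •
          bc i z.1 (g.1 ⟨i z.1, z.2⟩)
      rw [bc_smul]
      exact congrArg (· • _) (Scheme.Hom.germ_stalkMap_apply i U.unop z.1 z.2 _))⟩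

variable (F G) in
/-- The comparison `i^* Hom(F, G) ⟶ Hom(i^* F, i^* G)`. -/
def theta : (pb).obj (_root_.RefHull.homSh F G) ⟶
    _root_.RefHull.homSh ((pb).obj F) ((pb).obj G) :=
  ((Scheme.Modules.pullbackPushforwardAdjunction i).homEquiv _ _).symm (thetaAdj i F G)

theorem theta_unit {U : X.Opens} (g : Γ(_root_.RefHull.homSh F G, U)) :
    (theta i F G).app (i ⁻¹ᵁ U)
      (((Scheme.Modules.pullbackPushforwardAdjunction i).unit.app _).app U g) = bcSec i g := by
  have h := ((Scheme.Modules.pullbackPushforwardAdjunction i).homEquiv _ _).apply_symm_apply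
    (thetaAdj i F G)
  rw [Adjunction.homEquiv_unit] at h
  exact congrArg (fun φ : _ ⟶ (Scheme.Modules.pushforward i).obj _ => φ.app U g) h

theorem evalStalk_theta (z : Z) (h : (_root_.RefHull.homSh F G).presheaf.stalk (i z)) :
    _root_.RefHull.evalStalk _ _ z (StalkModule.stalkMapₗ (theta i F G) z (pl i _ z h)) =
      bc i z (_root_.RefHull.evalStalk F G (i z) h) := by
  obtain ⟨U, hU, g, rfl⟩ := TopCat.Presheaf.exists_germ_eq (_root_.RefHull.homSh F G).presheaf h
  rw [pl_germ, StalkModule.stalkMapₗ_germ, theta_unit, _root_.RefHull.evalStalk_germ,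
    _root_.RefHull.evalStalk_germ]
  rfl

theorem isIso_theta [IsLocallyNoetherian X] [IsLocallyNoetherian Z] (hF : FlatMod.IsFinLocFree F)
    (hG : FlatMod.IsFinLocFree G) : IsIso (theta i F G) := by
  rw [StalkModule.isIso_iff_stalkMapₗ_bijective]
  intro z
  have cF : Coh.IsCoh F := Perfect.Coherent.isCoh_of_isFinLocFree hF
  have cG : Coh.IsCoh G := Perfect.Coherent.isCoh_of_isFinLocFree hG
  have cF' : Coh.IsCoh ((pb).obj F) :=
    Perfect.Coherent.isCoh_of_isFinLocFree (TensorMod.LocFree.isFinLocFree_pullback i hF)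
  let ev := _root_.RefHull.evalStalk F G (i z)
  have hev : Function.Bijective ev :=
    ⟨RefHull.HomSh.evalStalk_injective (G := G) cF (i z), RefHull.HomSh.evalStalk_surjective (F := F) cF (i z)⟩
  let E := LinearEquiv.ofBijective ev hev
  let ev' := _root_.RefHull.evalStalk ((pb).obj F) ((pb).obj G) z
  have hev' : Function.Injective ev' := RefHull.HomSh.evalStalk_injective cF' z
  let Φ := ev'.comp (StalkModule.stalkMapₗ (theta i F G) z)
  have hΦ : ∀ h, Φ (pl i _ z h) = bc i z (ev h) := evalStalk_theta i z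
  haveI : Module.Free (X.presheaf.stalk (i z)) (F.presheaf.stalk (i z)) :=
    TensorMod.FPConv.free_stalk_of_isFinLocFree hF (i z)
  haveI := RefHull.LocFree.finite_stalk cF (i z)
  let b := Module.Free.chooseBasis (X.presheaf.stalk (i z)) (F.presheaf.stalk (i z))
  let ins : ∀ _ : Module.Free.ChooseBasisIndex (X.presheaf.stalk (i z)) (F.presheaf.stalk (i z)),
      RefHull.StalkHom G (_root_.RefHull.homSh F G) (i z) := fun j =>
    E.symm.toLinearMap.comp (LinearMap.smulRightₗ (b.coord j))
  let Ψ : RefHull.StalkHom ((pb).obj F) ((pb).obj G) z →ₗ[Z.presheaf.stalk z]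
      ((pb).obj (_root_.RefHull.homSh F G)).presheaf.stalk z :=
    ∑ j, (bc i z (ins j)).comp (LinearMap.applyₗ (pl i F z (b j)))
  have h1 : Ψ.comp Φ = LinearMap.id := hom_ext i fun h => by
    rw [LinearMap.comp_apply, hΦ, LinearMap.id_apply, LinearMap.sum_apply]
    simp only [LinearMap.comp_apply, LinearMap.applyₗ_apply_apply, bc_pl, ← map_sum]
    refine congrArg _ (hev.1 ?_)
    rw [map_sum]
    refine b.ext fun k => ?_
    simp only [LinearMap.coe_sum, Finset.sum_apply, ins, LinearMap.comp_apply, LinearEquiv.coe_coe]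
    have hE : ∀ w, ev (E.symm w) = w := E.apply_symm_apply
    simp only [hE, LinearMap.smulRightₗ_apply, LinearMap.smulRight_apply, Module.Basis.coord_apply,
      Module.Basis.repr_self, Finsupp.single_apply, ite_smul, one_smul, zero_smul,
      Finset.sum_ite_eq, Finset.mem_univ, if_true]
  have h2 : Φ.comp Ψ = LinearMap.id := by
    refine LinearMap.ext fun φ => hom_ext i fun a => ?_
    have key : ∀ j, ((LinearMap.applyₗ (pl i F z a)).comp (Φ.comp (bc i z (ins j)))) =
        ((i.stalkMap z).hom (b.coord j a)) • LinearMap.id := fun j => hom_ext i fun g => by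
      have hE : ev (E.symm ((b.coord j).smulRight g)) = (b.coord j).smulRight g :=
        E.apply_symm_apply _
      simp only [LinearMap.comp_apply, LinearMap.applyₗ_apply_apply, bc_pl, LinearMap.smul_apply,
        LinearMap.id_apply, ins, LinearEquiv.coe_coe, LinearMap.smulRightₗ_apply, hΦ, hE,
        LinearMap.smulRight_apply, pl_smul]
    rw [LinearMap.comp_apply, LinearMap.sum_apply, map_sum, LinearMap.sum_apply, LinearMap.id_apply]
    have key' : ∀ j, Φ (bc i z (ins j) (φ (pl i F z (b j)))) (pl i F z a) =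
        (i.stalkMap z).hom (b.coord j a) • φ (pl i F z (b j)) := fun j =>
      LinearMap.congr_fun (key j) _
    simp only [LinearMap.comp_apply, LinearMap.applyₗ_apply_apply, key', ← map_smul, ← pl_smul,
      ← map_sum]
    refine congrArg _ (congrArg _ ?_)
    exact b.sum_repr a
  have hb : Function.Bijective Φ :=
    ⟨Function.LeftInverse.injective (LinearMap.congr_fun h1),
      Function.RightInverse.surjective (LinearMap.congr_fun h2)⟩
  exact ⟨fun a a' h => hb.1 (congrArg ev' h), fun w => by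
    obtain ⟨a, ha⟩ := hb.2 (ev' w)
    exact ⟨a, hev' ha⟩⟩

end

end ZarCoh.Exchange.HomPullback
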