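import Groth.Prelude.Def_ega3
import Groth.Agent.Lib.FlatCx.Elem
import Groth.Agent.Lib.FlatCx.BaseChange
import Groth.Agent.Lib.Cech.Compare
import Groth.Agent.Lib.ProjCoh.CechNat

/-!
# `H(C ⊗_A M) ≅ H(D ⊗_B M)` for a base change `D` of a complex `C` along `A → B`
-/

set_option autoImplicit false
set_option linter.style.haveILetI false
universe u

open CategoryTheory Limits
open scoped TensorProduct

namespace ZarCoh.Exchange.ExtScalars

open Groth.Agent.Lib

noncomputable section

variable {A B : Type u} [CommRing A] [CommRing B] [Algebra A B] {ι : Type} {c : ComplexShape ι}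

/-- A base change of a complex. -/
structure IsBCCx (C : HomologicalComplex (ModuleCat.{u} A) c) (D : HomologicalComplex (ModuleCat.{u} B) c) :
    Type u where
  β : ∀ i, C.X i →+ D.X i
  smul : ∀ i (a : A) (x : C.X i), β i (a • x) = algebraMap A B a • β i x
  comm : ∀ i j (x : C.X i), D.d i j (β i x) = β j (C.d i j x)
  bij : ∀ i, letI := Module.compHom (D.X i) (algebraMap A B)
    haveI : IsScalarTower A B (D.X i) := IsScalarTower.of_algebraMap_smul fun _ _ => rfl
    Function.Bijective (LinearMap.liftBaseChange B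
      (R := A) (M := C.X i) (N := D.X i) { β i with map_smul' := smul i })

variable {C : HomologicalComplex (ModuleCat.{u} A) c} {D : HomologicalComplex (ModuleCat.{u} B) c}
  (h : IsBCCx C D)

/-- Restriction of scalars. -/
abbrev res : ModuleCat.{u} B ⥤ ModuleCat.{u} A := ModuleCat.restrictScalars (algebraMap A B)

/-- The comparison of tensored terms. -/
def θ (M : ModuleCat.{u} B) (i : ι) : C.X i ⊗[A] (res (A := A)).obj M →+ D.X i ⊗[B] M :=
  TensorProduct.liftAddHom
    (AddMonoidHom.mk' (fun x => AddMonoidHom.mk' (fun (m : (res (A := A)).obj M) => h.β i x ⊗ₜ[B] (show M from m))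
      fun m m' => TensorProduct.tmul_add _ _ _) fun x x' => by
        ext m
        show h.β i (x + x') ⊗ₜ[B] _ = h.β i x ⊗ₜ[B] _ + h.β i x' ⊗ₜ[B] _
        rw [map_add, TensorProduct.add_tmul])
    fun a x m => by
      show h.β i (a • x) ⊗ₜ[B] (show M from m) =
        h.β i x ⊗ₜ[B] ((algebraMap A B a) • (show M from m))
      rw [h.smul, TensorProduct.smul_tmul]

theorem θ_tmul (M : ModuleCat.{u} B) (i : ι) (x : C.X i) (m : (res (A := A)).obj M) :
    θ h M i (x ⊗ₜ[A] m) = h.β i x ⊗ₜ[B] (show M from m) := rfl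

theorem θ_bijective (M : ModuleCat.{u} B) (i : ι) : Function.Bijective (θ h M i) := by
  letI : Module A (D.X i) := Module.compHom (D.X i) (algebraMap A B)
  haveI : IsScalarTower A B (D.X i) := IsScalarTower.of_algebraMap_smul fun _ _ => rfl
  letI : Module A M := Module.compHom M (algebraMap A B)
  haveI : IsScalarTower A B M := IsScalarTower.of_algebraMap_smul fun _ _ => rfl
  let E := ((TensorProduct.comm A (C.X i) M).toAddEquiv.trans
    ((TensorProduct.AlgebraTensorModule.cancelBaseChange A B B M (C.X i)).symm.toAddEquiv.trans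
      ((TensorProduct.congr (LinearEquiv.refl B M) (LinearEquiv.ofBijective _ (h.bij i))).toAddEquiv.trans
        (TensorProduct.comm B M (D.X i)).toAddEquiv)))
  have e : ∀ z, θ h M i z = E z := fun z => by
    induction z using TensorProduct.induction_on with
    | zero => exact (map_zero _).trans (map_zero E).symm
    | tmul x m =>
      refine (θ_tmul h M i x m).trans ?_
      simp only [E, AddEquiv.trans_apply, LinearEquiv.coe_toAddEquiv, TensorProduct.comm_tmul]
      erw [TensorProduct.AlgebraTensorModule.cancelBaseChange_symm_tmul]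
      show h.β i x ⊗ₜ[B] _ = (LinearMap.liftBaseChange B _ ((1 : B) ⊗ₜ[A] x)) ⊗ₜ[B] _
      rw [LinearMap.liftBaseChange_tmul, one_smul]
      rfl
    | add a b ha hb => exact (map_add _ a b).trans ((congrArg₂ (· + ·) ha hb).trans (map_add E a b).symm)
  exact (funext e : ⇑(θ h M i) = _) ▸ E.bijective

theorem θ_d (M : ModuleCat.{u} B) (i j : ι) (z : C.X i ⊗[A] (res (A := A)).obj M) :
    (D.d i j).hom.rTensor M (θ h M i z) = θ h M j ((C.d i j).hom.rTensor _ z) := by
  induction z using TensorProduct.induction_on with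
  | zero => simp only [map_zero]
  | tmul x m => exact congrArg (· ⊗ₜ[B] (show M from m)) (h.comm i j x)
  | add a b ha hb => simp only [map_add, ha, hb]

theorem θ_natural {M N : ModuleCat.{u} B} (g : M ⟶ N) (i : ι)
    (z : C.X i ⊗[A] (res (A := A)).obj M) :
    g.hom.lTensor (D.X i) (θ h M i z) =
      θ h N i (((res (A := A)).map g).hom.lTensor (C.X i) z) := by
  induction z using TensorProduct.induction_on with
  | zero => simp only [map_zero]
  | tmul x m => rfl
  | add a b ha hb => simp only [map_add, ha, hb]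

variable (j : ι) (M : ModuleCat.{u} B)

/-- Cycles downstairs. -/
abbrev Z : Type u := LinearMap.ker ((CohIII.tensorObj C ((res (A := A)).obj M)).d j (c.next j)).hom

/-- The class upstairs of the image of a cycle. -/
def toD : Z (C := C) j M →+ CohIII.T D j M :=
  (FlatCx.Elem.cls (K := CohIII.tensorObj D M) (rfl : c.next j = c.next j)).toAddMonoidHom.comp
    (AddMonoidHom.mk' (fun z => ⟨θ h M j z.1,
      (θ_d h M j (c.next j) z.1).trans ((congrArg (θ h M (c.next j)) z.2).trans (map_zero _))⟩)
      fun z z' => Subtype.ext (map_add (θ h M j) z.1 z'.1))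

/-- The class downstairs. -/
def toC : Z (C := C) j M →+ CohIII.T C j ((res (A := A)).obj M) :=
  (FlatCx.Elem.cls (K := CohIII.tensorObj C ((res (A := A)).obj M))
    (rfl : c.next j = c.next j)).toAddMonoidHom

theorem toC_surjective : Function.Surjective (toC (C := C) j M) :=
  FlatCx.Elem.cls_surjective (K := CohIII.tensorObj C _) rfl

theorem toD_surjective : Function.Surjective (toD h j M) := fun x => by
  obtain ⟨w, rfl⟩ := FlatCx.Elem.cls_surjective (K := CohIII.tensorObj D M) rfl x
  obtain ⟨z, hz⟩ := (θ_bijective h M j).2 w.1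
  have hk : ((CohIII.tensorObj C ((res (A := A)).obj M)).d j (c.next j)).hom z = 0 := by
    apply (θ_bijective h M (c.next j)).1
    refine ((θ_d h M j (c.next j) z).symm.trans ?_).trans (map_zero _).symm
    rw [hz]
    exact w.2
  exact ⟨⟨z, hk⟩, congrArg (FlatCx.Elem.cls (K := CohIII.tensorObj D M) rfl) (Subtype.ext hz)⟩

theorem ker_eq : (toC (C := C) j M).ker = (toD h j M).ker := by
  refine AddSubgroup.ext fun z => ?_
  rw [AddMonoidHom.mem_ker, AddMonoidHom.mem_ker]
  refine (FlatCx.Elem.cls_eq_zero_iff (K := CohIII.tensorObj C ((res (A := A)).obj M)) rfl rfl z).trans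
    (Iff.trans ?_ (FlatCx.Elem.cls_eq_zero_iff (K := CohIII.tensorObj D M) rfl rfl _).symm)
  constructor
  · rintro ⟨y, hy⟩
    exact ⟨θ h M (c.prev j) y, (θ_d h M (c.prev j) j y).trans (congrArg _ hy)⟩
  · rintro ⟨w, hw⟩
    obtain ⟨y, rfl⟩ := (θ_bijective h M (c.prev j)).2 w
    exact ⟨y, (θ_bijective h M j).1 ((θ_d h M (c.prev j) j y).symm.trans hw)⟩

/-- The homology of the two tensored complexes. -/
def homEquiv : CohIII.T C j ((res (A := A)).obj M) ≃+ CohIII.T D j M :=
  Cech.Compare.equivOfKerEq (toC (C := C) j M) (toD h j M) (toC_surjective j M)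
    (toD_surjective h j M) (ker_eq h j M)

/-- The two tensored complexes have naturally the same homology. -/
def iso : ((res (A := A) (B := B)) ⋙ CohIII.TFun C j) ⋙ forget₂ (ModuleCat.{u} A) AddCommGrpCat.{u} ≅
    CohIII.TFun D j ⋙ forget₂ (ModuleCat.{u} B) AddCommGrpCat.{u} :=
  NatIso.ofComponents (fun M => (homEquiv h j M).toAddCommGrpIso) fun {M N} g => by
    refine AddCommGrpCat.hom_ext (AddMonoidHom.ext fun x => ?_)
    obtain ⟨z, rfl⟩ := toC_surjective j M x
    show homEquiv h j N ((CohIII.TFun C j).map ((res (A := A)).map g) (toC j M z)) =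
      (CohIII.TFun D j).map g (homEquiv h j M (toC j M z))
    let zg : Z (C := C) j N := ⟨((CohIII.tensorMap C ((res (A := A)).map g)).f j).hom z.1, by
      show ((CohIII.tensorMap C ((res (A := A)).map g)).f j ≫
        (CohIII.tensorObj C ((res (A := A)).obj N)).d j (c.next j)).hom z.1 = 0
      rw [(CohIII.tensorMap C ((res (A := A)).map g)).comm]
      exact (congrArg _ z.2).trans (map_zero _)⟩
    have h1 : (CohIII.TFun C j).map ((res (A := A)).map g) (toC j M z) = toC j N zg :=
      FlatCx.Elem.homologyMap_cls (CohIII.tensorMap C _) rfl z zg rfl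
    have hval : ∀ (M : ModuleCat.{u} B) (z : Z (C := C) j M),
        homEquiv h j M (toC j M z) = toD h j M z := fun M z =>
      ProjCoh.CechNat.equivOfKerEq_apply _ _ _ _ _ z
    rw [h1, hval, hval]
    refine (FlatCx.Elem.homologyMap_cls (CohIII.tensorMap D g) rfl _ _ ?_).symm
    exact θ_natural h g j z.1

end

section BcCx

variable {A : Type u} [CommRing A] (B : Type u) [CommRing B] [Algebra A B] {ι : Type}
  {c : ComplexShape ι} (P : HomologicalComplex (ModuleCat.{u} A) c)

theorem bijective_lift_of_equiv {M D : Type u} [AddCommGroup M] [Module A M] [AddCommGroup D]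
    [Module A D] [Module B D] [IsScalarTower A B D] (e : D ≃ₗ[B] B ⊗[A] M) (b : M →ₗ[A] D)
    (hb : ∀ x, e (b x) = (1 : B) ⊗ₜ[A] x) : Function.Bijective (LinearMap.liftBaseChange B b) := by
  have h : ∀ z, LinearMap.liftBaseChange B b z = e.symm z := fun z => ?_
  · exact (funext h : ⇑(LinearMap.liftBaseChange B b) = _) ▸ e.symm.bijective
  induction z using TensorProduct.induction_on with
  | zero => simp only [map_zero]
  | tmul s m =>
    rw [LinearMap.liftBaseChange_tmul, LinearEquiv.eq_symm_apply, map_smul, hb,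
      TensorProduct.smul_tmul', smul_eq_mul, mul_one]
  | add a b ha hb => simp only [map_add, ha, hb]

open Groth.Agent.Lib.FlatCx.BaseChange in
/-- `bcCx` is a base change. -/
noncomputable def isBCCx_bcCx : IsBCCx P (CohIII.bcCx (algebraMap A B) P) where
  β i := AddMonoidHom.mk' (fun x => (extEquiv B (P.X i)).symm ((1 : B) ⊗ₜ[A] x)) fun x y => by
    rw [TensorProduct.tmul_add]; exact map_add _ _ _
  smul i a x := by
    show (extEquiv B (P.X i)).symm ((1 : B) ⊗ₜ[A] (a • x)) = algebraMap A B a • (extEquiv B (P.X i)).symm _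
    rw [← map_smul]
    congr 1
    rw [algebraMap_smul, TensorProduct.tmul_smul]
  comm i j x := by
    apply (extEquiv B (P.X j)).injective
    refine (extEquiv_map B (P.d i j) _).trans ?_
    erw [LinearEquiv.apply_symm_apply, LinearEquiv.apply_symm_apply]
    rfl
  bij i := by
    letI := Module.compHom ((CohIII.bcCx (algebraMap A B) P).X i) (algebraMap A B)
    haveI : IsScalarTower A B ((CohIII.bcCx (algebraMap A B) P).X i) :=
      IsScalarTower.of_algebraMap_smul fun _ _ => rfl
    exact @bijective_lift_of_equiv A _ B _ _ (P.X i) ((CohIII.bcCx (algebraMap A B) P).X i)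
      _ _ _ _ _ ‹_› (extEquiv B (P.X i)) _ fun x => LinearEquiv.apply_symm_apply (extEquiv B (P.X i)) _

end BcCx

end ZarCoh.Exchange.ExtScalars
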