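import Groth.Agent.Lib.Exchange.Compare
import Groth.Agent.Lib.Exchange.ExtScalars
import Groth.Agent.Lib.ZarCoh.FlatBC.Main
import Mathlib.LinearAlgebra.TensorProduct.Pi

/-!
# Base change of the Cech complex, and of `M ↦ H^p(X, f^* M~ ⊗ F)`
-/

set_option autoImplicit false
set_option linter.style.haveILetI false
universe u

open CategoryTheory Limits AlgebraicGeometry Opposite TopologicalSpace
open scoped TensorProduct

namespace ZarCoh.Exchange.BaseChange

open Groth.Agent.Lib ZarCoh.Exchange.Complex ZarCoh.FlatBC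
open Groth.Agent.Lib.CechRes.Sec (rho secA resA toSec ofSec)
open Groth.Agent.Lib.Cech.Complex (inter inter_le_face)

noncomputable section

variable {A A' : Type u} [CommRing A] [CommRing A'] [Algebra A A'] {X X' : Scheme.{u}}
  [X.Over (Spec (CommRingCat.of A))] [X'.Over (Spec (CommRingCat.of A'))] {g' : X' ⟶ X}
  (hsq : IsPullback g' (X' ↘ Spec (CommRingCat.of A')) (X ↘ Spec (CommRingCat.of A))
    (Spec.map (CommRingCat.ofHom (algebraMap A A'))))

local notation "pX" => (X ↘ Spec (CommRingCat.of A))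
local notation "pX'" => (X' ↘ Spec (CommRingCat.of A'))

/-- The structure map, through the global functions. -/
theorem rho_eq (W : X.Opens) (a : A) : rho pX W a = Main.baseMap pX W a := rfl

theorem inter_preimage {ι : Type u} (U : ι → X.Opens) {q : ℕ} (i : Fin (q + 1) → ι) :
    inter (fun j => g' ⁻¹ᵁ U j) i = g' ⁻¹ᵁ inter U i := by
  refine TopologicalSpace.Opens.ext ?_
  simp only [TopologicalSpace.Opens.coe_iInf, Scheme.Hom.coe_preimage, Set.preimage_iInter]

include hsq in
theorem rho_comm {W : X.Opens} {W' : X'.Opens} (e : W' ≤ g' ⁻¹ᵁ W) (a : A) :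
    rho pX' W' (algebraMap A A' a) = g'.appLE W W' e (rho pX W a) := by
  show Coh.resTop X' (op W') (Coh.toGlobal pX' (algebraMap A A' a)) = _
  rw [Main.toGlobal_comm hsq, ← Coh.resTop_comp (op (g' ⁻¹ᵁ W)) (op W') (homOfLE e).op]
  exact congrArg (X'.presheaf.map (homOfLE e).op)
    (Main.app_baseMap (g' := g') (U := W) (Coh.toGlobal pX a)).symm

variable (F : X.Modules)

include hsq in
theorem pbRes_rho {W : X.Opens} {W' : X'.Opens} (e : W' ≤ g' ⁻¹ᵁ W) (a : A)
    (n : (secA pX W).obj F) :
    PullbackSections.pbRes g' F e (ofSec pX (a • n)) =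
      ofSec pX' (algebraMap A A' a • toSec pX' (PullbackSections.pbRes g' F e (ofSec pX n))) := by
  rw [CechRes.Sec.ofSec_smul, PullbackSections.pbRes_smul, CechRes.Sec.ofSec_smul, rho_comm hsq e]
  rfl

theorem pbRes_res {W₁ W₂ : X.Opens} {W₁' W₂' : X'.Opens} (h : W₂ ≤ W₁) (h' : W₂' ≤ W₁')
    (e₁ : W₁' ≤ g' ⁻¹ᵁ W₁) (e₂ : W₂' ≤ g' ⁻¹ᵁ W₂) (n : Γ(F, W₁)) :
    ((Scheme.Modules.pullback g').obj F).presheaf.map (homOfLE h').op
        (PullbackSections.pbRes g' F e₁ n) =
      PullbackSections.pbRes g' F e₂ (F.presheaf.map (homOfLE h).op n) := by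
  let η := (Scheme.Modules.pullbackPushforwardAdjunction g').unit.app F
  let P := ((Scheme.Modules.pullback g').obj F).presheaf
  have hn := ConcreteCategory.congr_hom (η.mapPresheaf.naturality (homOfLE h).op) n
  show P.map (homOfLE h').op (P.map (homOfLE e₁).op (η.app W₁ n)) =
    P.map (homOfLE e₂).op (η.app W₂ (F.presheaf.map (homOfLE h).op n))
  refine Eq.trans ?_ (congrArg (P.map (homOfLE e₂).op) hn).symm
  show _ = P.map (homOfLE e₂).op (P.map _ (η.app W₁ n))
  rw [← ConcreteCategory.comp_apply, ← ConcreteCategory.comp_apply, ← Functor.map_comp,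
    ← Functor.map_comp]
  rfl

include hsq in
theorem bijective_sections [F.IsQuasicoherent] {W : X.Opens} {W' : X'.Opens} (hW : IsAffineOpen W)
    (hW' : W' = g' ⁻¹ᵁ W) :
    letI : Module A ((secA pX' W').obj ((Scheme.Modules.pullback g').obj F)) :=
      Module.compHom _ (algebraMap A A')
    haveI : IsScalarTower A A' ((secA pX' W').obj ((Scheme.Modules.pullback g').obj F)) :=
      IsScalarTower.of_algebraMap_smul fun _ _ => rfl
    Function.Bijective (LinearMap.liftBaseChange A' (R := A) (M := (secA pX W).obj F)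
      (N := (secA pX' W').obj ((Scheme.Modules.pullback g').obj F))
      { toFun := fun n => toSec pX' (PullbackSections.pbRes g' F hW'.le (ofSec pX n))
        map_add' := fun _ _ => map_add _ _ _
        map_smul' := fun a n => pbRes_rho hsq F hW'.le a n }) := by
  subst hW'
  haveI := Main.isAffineHom_fst hsq
  let e : g' ⁻¹ᵁ W ≤ g' ⁻¹ᵁ W := le_rfl
  let P := (Scheme.Modules.pullback g').obj F
  letI : Module A ((secA pX' (g' ⁻¹ᵁ W)).obj P) := Module.compHom _ (algebraMap A A')
  haveI : IsScalarTower A A' ((secA pX' (g' ⁻¹ᵁ W)).obj P) :=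
    IsScalarTower.of_algebraMap_smul fun _ _ => rfl
  letI : Algebra A Γ(X, W) := (Main.baseMap pX W).toAlgebra
  letI : Algebra A' Γ(X', g' ⁻¹ᵁ W) := (Main.baseMap pX' (g' ⁻¹ᵁ W)).toAlgebra
  letI : Algebra Γ(X, W) Γ(X', g' ⁻¹ᵁ W) := (g'.appLE W (g' ⁻¹ᵁ W) e).hom.toAlgebra
  letI : Algebra A Γ(X', g' ⁻¹ᵁ W) := ((algebraMap A' Γ(X', g' ⁻¹ᵁ W)).comp (algebraMap A A')).toAlgebra
  haveI : IsScalarTower A A' Γ(X', g' ⁻¹ᵁ W) := IsScalarTower.of_algebraMap_eq fun _ => rfl
  haveI : IsScalarTower A Γ(X, W) Γ(X', g' ⁻¹ᵁ W) := IsScalarTower.of_algebraMap_eq fun a => rho_comm hsq e a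
  haveI : Algebra.IsPushout A A' Γ(X, W) Γ(X', g' ⁻¹ᵁ W) := CommRingCat.isPushout_iff_isPushout.mp (by
    have := Main.isPushout_sections hsq hW
    rw [← Scheme.Hom.appLE_eq_app] at this
    exact this)
  letI : Module A Γ(F, W) := ((secA pX W).obj F).isModule
  haveI : IsScalarTower A Γ(X, W) Γ(F, W) := IsScalarTower.of_algebraMap_smul fun _ _ => rfl
  let d := LinearMap.liftBaseChange A' (R := A) (M := (secA pX W).obj F)
      (N := (secA pX' (g' ⁻¹ᵁ W)).obj P)
      { toFun := fun n => toSec pX' (PullbackSections.pbRes g' F e (ofSec pX n))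
        map_add' := fun _ _ => map_add _ _ _
        map_smul' := fun a n => pbRes_rho hsq F e a n }
  exact Main.bijective_of_isPushout (P := Γ(P, g' ⁻¹ᵁ W)) (PullbackSections.pbTensor g' F e)
    (PullbackSections.bijective_pbTensor g' F hW (hW.preimage g') e) (d.toAddMonoidHom)
    (fun b n => by
      show d (b ⊗ₜ n) = algebraMap A' Γ(X', g' ⁻¹ᵁ W) b • PullbackSections.pbTensor g' F e ((1 : Γ(X', g' ⁻¹ᵁ W)) ⊗ₜ[Γ(X, W)] n)
      rw [LinearMap.liftBaseChange_tmul, PullbackSections.pbTensor_tmul, one_smul]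
      rfl)

section Cochains

variable {ι : Type u} (U : ι → X.Opens)

/-- Inverse image of cochains. -/
def betaM (q : ℕ) : CM A U F q →+
    CM A' (fun j => g' ⁻¹ᵁ U j) ((Scheme.Modules.pullback g').obj F) q :=
  AddMonoidHom.mk' (fun c i => toSec pX'
    (PullbackSections.pbRes g' F (inter_preimage U i).le (ofSec pX (c i))))
    fun c c' => funext fun i => map_add _ _ _

include hsq in
theorem betaM_smul (q : ℕ) (a : A) (c : CM A U F q) :
    betaM (A' := A') F U q (a • c) = algebraMap A A' a • betaM (g' := g') F U q c :=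
  funext fun i => pbRes_rho hsq F _ a (c i)

theorem betaM_dA (q : ℕ) (c : CM A U F q) :
    dA A' (fun j => g' ⁻¹ᵁ U j) ((Scheme.Modules.pullback g').obj F) q (betaM F U q c) =
      betaM (A' := A') F U (q + 1) (dA A U F q c) := by
  funext i
  rw [dA_eq, dA_eq]
  simp only [Cech.Complex.dC_apply, betaM, AddMonoidHom.mk'_apply]
  refine Eq.trans ?_ (map_sum (PullbackSections.pbRes g' F (inter_preimage U i).le) _ _).symm
  refine Finset.sum_congr rfl fun j _ => ?_
  refine Eq.trans ?_ (map_zsmul (PullbackSections.pbRes g' F (inter_preimage U i).le) _ _).symm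
  exact congrArg ((-1 : ℤ) ^ (j : ℕ) • ·)
    (pbRes_res F (inter_le_face U i j) (inter_le_face _ i j) _ _ (ofSec pX (c (i ∘ j.succAbove))))

include hsq in
theorem bijective_lift_betaM [Finite ι] [F.IsQuasicoherent]
    (hU : ∀ {q : ℕ} (i : Fin (q + 1) → ι), IsAffineOpen (inter U i)) (q : ℕ) :
    letI : Module A (CM A' (fun j => g' ⁻¹ᵁ U j) ((Scheme.Modules.pullback g').obj F) q) :=
      Module.compHom _ (algebraMap A A')
    haveI : IsScalarTower A A' (CM A' (fun j => g' ⁻¹ᵁ U j) ((Scheme.Modules.pullback g').obj F) q) :=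
      IsScalarTower.of_algebraMap_smul fun _ _ => rfl
    Function.Bijective (LinearMap.liftBaseChange A' (R := A) (M := CM A U F q)
      (N := CM A' (fun j => g' ⁻¹ᵁ U j) ((Scheme.Modules.pullback g').obj F) q)
      { betaM F U q with map_smul' := betaM_smul hsq F U q }) := by
  classical
  haveI := Fintype.ofFinite ι
  letI : Module A (CM A' (fun j => g' ⁻¹ᵁ U j) ((Scheme.Modules.pullback g').obj F) q) :=
    Module.compHom _ (algebraMap A A')
  haveI : IsScalarTower A A' (CM A' (fun j => g' ⁻¹ᵁ U j) ((Scheme.Modules.pullback g').obj F) q) :=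
    IsScalarTower.of_algebraMap_smul fun _ _ => rfl
  let e := TensorProduct.piRight A A' A'
    (fun i : Fin (q + 1) → ι => ((secA pX (inter U i)).obj F : Type u))
  let d : ∀ i : Fin (q + 1) → ι, _ := fun i => bijective_sections hsq F (hU i) (inter_preimage (g' := g') U i)
  let L := LinearMap.liftBaseChange A' (R := A) (M := CM A U F q)
      (N := CM A' (fun j => g' ⁻¹ᵁ U j) ((Scheme.Modules.pullback g').obj F) q)
      { betaM F U q with map_smul' := betaM_smul hsq F U q }
  let Bl : ∀ i : Fin (q + 1) → ι, A' ⊗[A] ((secA pX (inter U i)).obj F) →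
      (secA pX' (inter (fun j => g' ⁻¹ᵁ U j) i)).obj ((Scheme.Modules.pullback g').obj F) := fun i =>
    letI : Module A ((secA pX' (inter (fun j => g' ⁻¹ᵁ U j) i)).obj ((Scheme.Modules.pullback g').obj F)) :=
      Module.compHom _ (algebraMap A A')
    haveI : IsScalarTower A A' ((secA pX' (inter (fun j => g' ⁻¹ᵁ U j) i)).obj
        ((Scheme.Modules.pullback g').obj F)) := IsScalarTower.of_algebraMap_smul fun _ _ => rfl
    LinearMap.liftBaseChange A' (R := A) (M := (secA pX (inter U i)).obj F)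
      (N := (secA pX' (inter (fun j => g' ⁻¹ᵁ U j) i)).obj ((Scheme.Modules.pullback g').obj F))
      { toFun := fun n => toSec pX' (PullbackSections.pbRes g' F (inter_preimage U i).le (ofSec pX n))
        map_add' := fun _ _ => map_add _ _ _
        map_smul' := fun a n => pbRes_rho hsq F (inter_preimage U i).le a n }
  have he : ∀ z, L z = fun i => Bl i (e z i) := fun z => by
    induction z using TensorProduct.induction_on with
    | zero => funext i; simp [Bl]
    | tmul b c =>
      funext i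
      simp only [L, Bl, e, LinearMap.liftBaseChange_tmul, TensorProduct.piRight_apply,
        TensorProduct.piRightHom_tmul, Pi.smul_apply]
      rfl
    | add a b ha hb =>
      rw [map_add, ha, hb]
      funext i
      simp [Bl]
  exact (funext he : ⇑L = _) ▸ (Function.Bijective.piMap fun i => d i).comp e.bijective

variable [Finite ι] [F.IsQuasicoherent]
  (hU : ∀ {q : ℕ} (i : Fin (q + 1) → ι), IsAffineOpen (inter U i))

/-- The Cech complex of the inverse image is the base change of the Cech complex. -/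
def isBCCx : ExtScalars.IsBCCx (A := A) (B := A') (C A U F)
    (C A' (fun j => g' ⁻¹ᵁ U j) ((Scheme.Modules.pullback g').obj F)) where
  β
    | .ofNat q => betaM F U q
    | .negSucc _ => (0 : PUnit.{u+1} →+ PUnit.{u+1})
  smul
    | .ofNat q => betaM_smul hsq F U q
    | .negSucc _ => fun _ _ => Subsingleton.elim (α := PUnit.{u+1}) _ _
  comm i j x := by
    by_cases hij : i + 1 = j
    · subst hij
      cases i with
      | ofNat q =>
        show ((C A' _ _).d (q : ℤ) ((q + 1 : ℕ) : ℤ)) (betaM F U q x) =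
          betaM F U (q + 1) ((C A U F).d (q : ℤ) ((q + 1 : ℕ) : ℤ) x)
        rw [C_d, C_d]
        exact betaM_dA F U q x
      | negSucc q =>
        haveI : Subsingleton ((C A U F).X (Int.negSucc q)) :=
          ModuleCat.subsingleton_of_isZero (isZero_C A U F _ (Int.negSucc_lt_zero q))
        rw [Subsingleton.elim x 0]
        simp only [map_zero]
    · rw [(C A U F).shape i j hij, (C A' _ _).shape i j hij]
      simp
  bij
    | .ofNat q => bijective_lift_betaM hsq F U hU q
    | .negSucc _ => by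
      haveI : Subsingleton (A' ⊗[A] PUnit.{u+1}) := inferInstance
      exact ⟨fun _ _ _ => Subsingleton.elim (α := A' ⊗[A] PUnit.{u+1}) _ _,
        fun _ => ⟨0, Subsingleton.elim (α := PUnit.{u+1}) _ _⟩⟩

end Cochains

include hsq in
/-- Base change of the functors `M ↦ H^p(X, f^* M~ ⊗ F)`. -/
theorem nonempty_baseChange_iso [F.IsQuasicoherent] [QuasiCompact pX] [IsSeparated pX] (p : ℕ) :
    Nonempty (CohIII.tensorAFunctor A' ((Scheme.Modules.pullback g').obj F) ⋙ CohIII.HAb X' p ≅
      ExtScalars.res (A := A) (B := A') ⋙ CohIII.tensorAFunctor A F ⋙ CohIII.HAb X p) := by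
  haveI : X.IsSeparated := ⟨by rw [← terminal.comp_from pX]; infer_instance⟩
  haveI : CompactSpace X := (quasiCompact_iff_compactSpace pX).mp inferInstance
  haveI := Main.isAffineHom_fst hsq
  haveI := QCoh.Pullback.isQCoh_pullback g' F
  obtain ⟨s, hs, hcov⟩ :=
    isCompact_and_isOpen_iff_finite_and_eq_biUnion_affineOpens.mp
      ⟨(isCompact_univ : IsCompact (Set.univ : Set X)), isOpen_univ⟩
  haveI := hs.to_subtype
  let U : s → X.Opens := fun i => i.1.1
  have hU : ∀ {q : ℕ} (i : Fin (q + 1) → s), IsAffineOpen (inter U i) := fun i =>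
    IsAffineOpen.iInf fun a => (i a).1.2
  have hUtop : iSup U = ⊤ := by
    apply TopologicalSpace.Opens.ext
    rw [TopologicalSpace.Opens.coe_iSup, TopologicalSpace.Opens.coe_top, hcov]
    ext x
    simp
  obtain ⟨e⟩ := Compare.nonempty_natIso A U F hU hUtop p
  obtain ⟨e'⟩ := Compare.nonempty_natIso A' (fun j => g' ⁻¹ᵁ U j) ((Scheme.Modules.pullback g').obj F)
    (fun i => by rw [inter_preimage]; exact (hU i).preimage g')
    (by
      refine TopologicalSpace.Opens.ext ?_
      rw [TopologicalSpace.Opens.coe_iSup, TopologicalSpace.Opens.coe_top]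
      simp only [Scheme.Hom.coe_preimage, ← Set.preimage_iUnion]
      rw [← TopologicalSpace.Opens.coe_iSup, hUtop]
      rfl) p
  exact ⟨e'.symm ≪≫ (ExtScalars.iso (isBCCx hsq F U hU) (p : ℤ)).symm ≪≫
    Functor.isoWhiskerLeft _ e⟩

end

end ZarCoh.Exchange.BaseChange
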