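import Groth.Agent.Lib.Exchange.VeryAmpleNear

/-!
# Fibrewise very ampleness without `H^1` gives very ampleness near the fibre
-/

set_option autoImplicit false
set_option linter.style.haveILetI false
set_option maxHeartbeats 1000000
universe u

open CategoryTheory Limits AlgebraicGeometry Opposite TopologicalSpace

namespace ZarCoh.Exchange.VeryAmpleNear

open Groth.Agent.Lib Groth.Agent.Lib.TensorMod Groth.Agent.Lib.TensorMod.Gen
open Groth.Agent.Lib.ProjMor Groth.Agent.Lib.ProjMor.Sec Groth.Agent.Lib.Ample.GenLocus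
open Groth.Agent.Lib.ProjSpace.BaseChange ZarCoh.Exchange.Local

noncomputable section

/-- A fibrewise very ample module without `H^1` on the fibre is very ample near the fibre. -/
theorem exists_veryAmplePn_nhd {X Y : Scheme.{u}} (f : X ⟶ Y) [IsProper f] [Flat f]
    [IsLocallyNoetherian Y] (L : X.Modules) (hL : PicF.IsInvertible L) (y : Y)
    (hva : RelAmple.IsRelVeryAmplePn (f.fiberToSpecResidueField y) (CohIII.fiberMod f L y))
    (h1 : Subsingleton (Coh.HH (f.fiber y) (CohIII.fiberMod f L y) 1)) :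
    ∃ U : Y.Opens, y ∈ U ∧ RelAmple.IsRelVeryAmplePn (f ∣_ U) (L.restrict (f ⁻¹ᵁ U).ι) := by
  obtain ⟨n, i₀, hi₀, hi₀p, ⟨τ₀⟩⟩ := hva
  obtain ⟨V, hV, hyV, -⟩ := exists_isAffineOpen_mem_and_subset (U := ⊤) (x := y) trivial
  haveI : IsAffine (V : Scheme.{u}) := hV
  let x : PrimeSpectrum (AV V) := (V : Scheme.{u}).isoSpec.hom ⟨y, hyV⟩
  have hk : LocalRep.k V x = y := by
    show ((V : Scheme.{u}).isoSpec.hom ≫ (V : Scheme.{u}).isoSpec.inv ≫ V.ι) ⟨y, hyV⟩ = y
    rw [Iso.hom_inv_id_assoc]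
    rfl
  clear_value x
  subst hk
  haveI : IsLocallyNoetherian X := LocallyOfFiniteType.isLocallyNoetherian f
  have hlf := LocFree.of_rank (LocFree.of_isInvertible hL)
  have hcoh : Coh.IsCoh L := Perfect.Coherent.isCoh_of_isFinLocFree hlf
  haveI : L.IsQuasicoherent := hcoh.1
  let F := MV f V L
  have hF : Coh.IsCoh F := RefHull.LocFree.isCoh_restrict hcoh (f ⁻¹ᵁ V)
  have hfl := flat_over f V (NearFibre.isFlatOver_of_isFinLocFree f hlf)
  let k := LocalRep.k V
  let y := k x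
  haveI : IsOpenImmersion k := inferInstanceAs (IsOpenImmersion (LocalRep.k V))
  let K := x.asIdeal.ResidueField
  let θ : Y.residueField y ≅ CommRingCat.of K :=
    asIso (k.residueFieldMap x) ≪≫ Scheme.Spec.residueFieldIso (CommRingCat.of (AV V)) x
  let κ₀ : Spec (CommRingCat.of K) ⟶ Spec (CommRingCat.of (AV V)) :=
    Spec.map (CommRingCat.ofHom (algebraMap (AV V) K))
  have hθ : Spec.map θ.hom ≫ Y.fromSpecResidueField y = κ₀ ≫ k := by
    rw [Iso.trans_hom, asIso_hom, Spec.map_comp, Category.assoc,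
      Scheme.Hom.SpecMap_residueFieldMap_fromSpecResidueField, ← Category.assoc]
    congr 1
    rw [← Scheme.Spec.map_residueFieldIso_inv_eq_fromSpecResidueField, ← Category.assoc,
      ← Spec.map_comp, Iso.inv_hom_id, Spec.map_id, Category.id_comp]
  letI : (f.fiber y).Over (Spec (CommRingCat.of K)) :=
    ⟨f.fiberToSpecResidueField y ≫ Spec.map θ.inv⟩
  let p₀ := f.fiber y ↘ Spec (CommRingCat.of K)
  have hR := LocalRep.isPullback_k f V
  have hbig : IsPullback (f.fiberι y) p₀ f (κ₀ ≫ k) := by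
    refine IsPullback.of_iso (IsPullback.of_hasPullback f (Y.fromSpecResidueField y))
      (Iso.refl _) (Iso.refl _) (asIso (Spec.map θ.inv)) (Iso.refl _) ?_ ?_ ?_ ?_
    · exact (Category.comp_id _).trans (Category.id_comp _).symm
    · exact (Category.id_comp _).symm
    · exact (Category.comp_id _).trans (Category.id_comp _).symm
    · rw [Iso.refl_hom, Category.comp_id, asIso_hom, ← hθ, ← Category.assoc, ← Spec.map_comp,
        Iso.hom_inv_id, Spec.map_id, Category.id_comp]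
  let g' : f.fiber y ⟶ XV f V := hR.lift (f.fiberι y) (p₀ ≫ κ₀)
    (by rw [Category.assoc]; exact hbig.w)
  have hg : g' ≫ (f ⁻¹ᵁ V).ι = f.fiberι y := hR.lift_fst _ _ _
  have hsq : IsPullback g' p₀ (XV f V ↘ Spec (CommRingCat.of (AV V))) κ₀ :=
    IsPullback.of_right (hg.symm ▸ hbig) (hR.lift_snd _ _ _) hR
  haveI : IsProper p₀ := MorphismProperty.of_isPullback (P := @IsProper) hbig inferInstance
  obtain ⟨hcl, hi⟩ := isClosedImmersion_comp_overMap (Spec.map θ.inv) i₀ p₀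
    (congrArg (· ≫ Spec.map θ.inv) hi₀p)
  let i := i₀ ≫ overMap n (Spec.map θ.inv)
  have hiH : i₀ ≫ pullback.fst _ _ = i ≫ pullback.fst _ _ :=
    ((Category.assoc _ _ _).trans (congrArg (i₀ ≫ ·) (overMap_fst n _))).symm
  let ρ := (Scheme.Modules.restrictFunctorIsoPullback (f ⁻¹ᵁ V).ι).app L
  obtain ⟨ψ⟩ : Nonempty ((Scheme.Modules.pullback g').obj F ≅
      (Scheme.Modules.pullback (i ≫ pullback.fst _ _)).obj (Twist.twistProjSpace n (ULift.{u} ℤ) 1)) :=
    ⟨(Scheme.Modules.pullback g').mapIso ρ ≪≫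
      (Scheme.Modules.pullbackComp g' (f ⁻¹ᵁ V).ι).app L ≪≫ (Scheme.Modules.pullbackCongr hg).app L ≪≫
        τ₀ ≪≫ (Scheme.Modules.pullbackComp i₀ _).app _ ≪≫ (Scheme.Modules.pullbackCongr hiH).app _⟩
  obtain ⟨T₀, hT₀⟩ : ∃ T₀ : Fin (n + 1) → ProjUP.Γm ((Scheme.Modules.pullback g').obj F), ∀ m, T₀ m =
      ψ.inv.app ⊤ (ProjUP.pullSec (i ≫ pullback.fst _ _) (Twist.twistProjSpace n (ULift.{u} ℤ) 1)
        (ProjUP.coord n (ULift.{u} ℤ) m)) := ⟨_, fun m => rfl⟩
  have hrank : CohIII.fiberRank f L 1 y = 0 := by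
    haveI : Subsingleton (CohIII.fiberH f L y 1) := h1
    exact Module.finrank_zero_of_subsingleton
  obtain ⟨σ, t, ht⟩ := exists_lift_family x hsq F hF hfl
    (fun P _ _ e₁ => ((LocalRep.fiberRank_eq f V L x e₁).symm.trans hrank))
    T₀
  have hFinv : PicF.IsInvertible F :=
    Invertible.isInvertible_of_iso ρ.symm (PicLoc.isInvertible_pullback _ hL)
  haveI : IsPreimmersion κ₀ := by
    haveI : IsPreimmersion (κ₀ ≫ k) := by rw [← hθ]; infer_instance
    exact IsPreimmersion.of_comp κ₀ k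
  obtain ⟨U₀, hκU, hU₀⟩ := exists_immersion'' (XV f V ↘ Spec (CommRingCat.of (AV V))) F hFinv t κ₀ g' p₀
    hsq i hi σ ψ (fun m => (ht m).trans (hT₀ m))
  have hx : κ₀ (⟨⊥, Ideal.isPrime_bot⟩ : PrimeSpectrum K) = x := PrimeSpectrum.ext
    ((RingHom.ker_eq_comap_bot _).symm.trans (Ideal.ker_algebraMap_residueField _))
  let U : Y.Opens := k ''ᵁ U₀
  refine ⟨U, ⟨x, hκU ⟨_, hx⟩, rfl⟩, ?_⟩
  have hUr : Set.range U.ι ⊆ Set.range k := by
    rw [Scheme.Opens.range_ι]
    rintro _ ⟨v, -, rfl⟩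
    exact ⟨v, rfl⟩
  let ν := IsOpenImmersion.lift k U.ι hUr
  have hν : ν ≫ k = U.ι := IsOpenImmersion.lift_fac _ _ _
  haveI : IsOpenImmersion (ν ≫ k) := hν.symm ▸ inferInstance
  haveI : IsOpenImmersion ν := IsOpenImmersion.of_comp ν k
  let e := hR.lift (f ⁻¹ᵁ U).ι ((f ∣_ U) ≫ ν)
    (by rw [Category.assoc, hν]; exact (morphismRestrict_ι f U).symm)
  have he : e ≫ (f ⁻¹ᵁ V).ι = (f ⁻¹ᵁ U).ι := hR.lift_fst _ _ _
  have hpb : IsPullback e (f ∣_ U) (XV f V ↘ Spec (CommRingCat.of (AV V))) ν :=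
    IsPullback.of_right (h₁₁ := e) (by rw [he, hν]; exact (isPullback_morphismRestrict f U).flip)
      (hR.lift_snd _ _ _) hR
  refine Conv.isRelVeryAmplePn_of_iso ?_ (hU₀ ν e (f ∣_ U) hpb ?_)
  · exact (Scheme.Modules.pullback e).mapIso ρ ≪≫
      (Scheme.Modules.pullbackComp e _).app L ≪≫ (Scheme.Modules.pullbackCongr he).app L ≪≫
      ((Scheme.Modules.restrictFunctorIsoPullback (f ⁻¹ᵁ U).ι).app L).symm
  · rintro _ ⟨v, rfl⟩
    obtain ⟨w, hw, hwv⟩ := v.2
    have : k (ν v) = k w := (congrArg (fun a : (U : Scheme.{u}) ⟶ Y => a v) hν).trans hwv.symm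
    exact k.isOpenEmbedding.injective this ▸ hw

end

end ZarCoh.Exchange.VeryAmpleNear
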