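import Groth.Agent.Lib.Exchange.Thick.Twist
import Groth.Agent.Lib.Modules.ClosedUnit
import Groth.Agent.S0051

/-!
# Ampleness on proper schemes glued from closed subschemes
-/

set_option autoImplicit false
set_option linter.style.haveILetI false

noncomputable section

universe u

open CategoryTheory CategoryTheory.Limits AlgebraicGeometry Opposite TopologicalSpace

namespace Groth.Agent.Lib.Exchange.AmpleGlue

open Groth.Agent.Lib Groth.Agent.Lib.Curves.LES
open Groth.Agent.H78.Existence.Vanish (tw isEquivalence_tw shortExact_tw)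
open Groth.Agent.H78.FormalFun.Basic (H_zero)
open Groth.Agent.Lib.CohBasics.Affine (secₗ)

variable (A : Type u) [CommRing A] [IsNoetherianRing A] {X : Scheme.{u}}
  [X.Over (Spec (CommRingCat.of A))] [IsProper (X ↘ Spec (CommRingCat.of A))]

/-- Coherent modules killed by `I` lose their higher cohomology after twisting. -/
def Good (L : X.Modules) (I : X.IdealSheafData) : Prop :=
  ∀ M : X.Modules, Coh.IsCoh M →
    (∀ (U : X.affineOpens) (a : Γ(X, U.1)), a ∈ I.ideal U → ∀ s : Γ(M, U.1), a • s = 0) →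
    ∃ n₀ : ℕ, ∀ n, n₀ ≤ n → ∀ q : ℕ,
      Subsingleton (Coh.HH X (CohB1.tensorMod M (CohB1.tensorPow L n)) (q + 1))

include A

theorem good_of_ample {L : X.Modules} (hL : PicF.IsInvertible L) (I : X.IdealSheafData)
    (hI : CohB1.IsAmple ((Scheme.Modules.pullback I.subschemeι).obj L)) : Good L I := by
  intro M hM hk
  haveI := Groth.Agent.H78.Existence.AmpleVanish.isNoetherian_of_proper A (X := X)
  let i := I.subschemeι
  letI : I.subscheme.Over (Spec (CommRingCat.of A)) := ⟨i ≫ (X ↘ Spec (CommRingCat.of A))⟩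
  haveI : IsProper (I.subscheme ↘ Spec (CommRingCat.of A)) :=
    inferInstanceAs (IsProper (i ≫ (X ↘ Spec (CommRingCat.of A))))
  have hN : Coh.IsCoh ((Scheme.Modules.pullback i).obj M) := Cyc.FP.Stalk.isCoh_pullback i hM
  obtain ⟨n₀, hn⟩ := Groth.Agent.H78.Existence.AmpleVanish.exists_subsingleton A hI hN
  refine ⟨n₀, fun n h q => ?_⟩
  haveI : IsIso (Thick.Unit.η i M) := Modules.ClosedUnit.isIso_unit i M fun U a ha s =>
    hk U a (by rwa [Scheme.IdealSheafData.ker_subschemeι] at ha) s
  exact @Equiv.subsingleton _ _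
    (isoK A (TensorMod.Basic.tensorIso (asIso (Thick.Unit.η i M))
      (Iso.refl (CohB1.tensorPow L n))) (q + 1)).toEquiv
    (Thick.subsingleton_push A i hL hN hI.1 (Iso.refl _) n (q + 1) (hn n h q))

theorem good_mul {L : X.Modules} (hL : PicF.IsInvertible L) {I J : X.IdealSheafData}
    (hI : Good L I) (hJ : Good L J) : Good L (I * J) := by
  intro M hM hk
  haveI := Groth.Agent.H78.Existence.AmpleVanish.isNoetherian_of_proper A (X := X)
  let i := J.subschemeι
  let η := Thick.Unit.η i M
  haveI := hM.1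
  have hP := Thick.Unit.isCoh_pushPull i hM
  have hKc : Coh.IsCoh (kernel η) := CohBasics.Closure.isCoh_kernel η hM hP.1
  let S : ShortComplex X.Modules := ShortComplex.mk (kernel.ι η) η (kernel.condition η)
  haveI : Epi η := PushClosed.Unit.epi_unit i M
  have hS : S.ShortExact :=
    { exact := S.exact_of_f_is_kernel (kernelIsKernel η)
      mono_f := inferInstanceAs (Mono (kernel.ι η))
      epi_g := inferInstanceAs (Epi η) }
  have hkK : ∀ (U : X.affineOpens) (a : Γ(X, U.1)), a ∈ I.ideal U →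
      ∀ s : Γ(kernel η, U.1), a • s = 0 := by
    intro U a ha s
    refine QCoh.Closure.sections_injective_of_mono (kernel.ι η) U.1 ?_
    rw [map_zero, Scheme.Modules.Hom.app_smul]
    have h0 : η.app U.1 ((kernel.ι η).app U.1 s) = 0 :=
      ConcreteCategory.congr_hom (congrArg (fun χ => χ.app U.1) (kernel.condition η)) s
    have h1 := (Thick.Unit.app_eq_zero_iff i hM U.2 _).1 h0
    rw [Scheme.IdealSheafData.ker_subschemeι] at h1
    have h2 := Submodule.smul_mem_smul ha h1
    rw [← mul_smul] at h2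
    have hle : (I.ideal U * J.ideal U) • (⊤ : Submodule Γ(X, U.1) Γ(M, U.1)) ≤ ⊥ :=
      Submodule.smul_le.2 fun b hb t _ => (Submodule.mem_bot _).2 (hk U b (by simpa using hb) t)
    exact (Submodule.mem_bot _).1 (hle h2)
  have hkP : ∀ (U : X.affineOpens) (a : Γ(X, U.1)), a ∈ J.ideal U →
      ∀ s : Γ((Scheme.Modules.pushforward i).obj ((Scheme.Modules.pullback i).obj M), U.1), a • s = 0 := by
    intro U a ha s
    obtain ⟨t, rfl⟩ := Thick.Unit.surjective_app i hM U.2 s
    rw [← Scheme.Modules.Hom.app_smul]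
    refine (Thick.Unit.app_eq_zero_iff i hM U.2 _).2 (Submodule.smul_mem_smul ?_ trivial)
    rwa [Scheme.IdealSheafData.ker_subschemeι]
  obtain ⟨n₁, h₁⟩ := hI _ hKc hkK
  obtain ⟨n₂, h₂⟩ := hJ _ hP hkP
  refine ⟨max n₁ n₂, fun n hn q => ?_⟩
  haveI := isEquivalence_tw hL n
  haveI : (tw L n).Additive := Functor.additive_of_preserves_binary_products _
  have hS' := shortExact_tw hL hS n
  haveI e1 : Subsingleton (Coh.HH X (S.map (tw L n)).X₁ (q + 1)) := h₁ n (le_of_max_le_left hn) q
  haveI e3 : Subsingleton (Coh.HH X (S.map (tw L n)).X₃ (q + 1)) := h₂ n (le_of_max_le_right hn) q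
  refine subsingleton_of_forall_eq 0 fun z => ?_
  obtain ⟨w, hw⟩ := ((exactK₂ A hS' (q + 1)) z).mp (Subsingleton.elim _ _)
  rw [← hw, Subsingleton.elim w 0, map_zero]; rfl

theorem isAmple_of_good_bot {L : X.Modules} (hL : PicF.IsInvertible L) (h : Good L ⊥) :
    CohB1.IsAmple L := by
  refine (Groth.Agent.S0051.result A X (X ↘ Spec (CommRingCat.of A)) L hL).2 fun M hM => ?_
  obtain ⟨n₀, hn⟩ := h M hM fun U a ha s => by
    rw [Scheme.IdealSheafData.ideal_bot, Pi.bot_apply, Ideal.mem_bot] at ha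
    rw [ha, zero_smul]
  refine ⟨n₀, fun n h p hp => ?_⟩
  obtain ⟨q, rfl⟩ := Nat.exists_eq_add_of_le' hp
  exact hn n h q

theorem good_top {L : X.Modules} (hL : PicF.IsInvertible L) : Good L ⊤ := by
  intro M hM hk
  haveI := hM.1
  have h0 : 𝟙 M = 0 := Groth.Agent.H78.Formal.Sections.hom_ext_affine fun U hU s => by
    have := hk ⟨U, hU⟩ 1 (by simp) s
    rw [one_smul] at this
    exact this
  refine ⟨0, fun n _ q => subsingleton_of_forall_eq 0 fun z => ?_⟩
  have h1 : 𝟙 (CohB1.tensorMod M (CohB1.tensorPow L n)) = 0 := by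
    haveI := isEquivalence_tw hL n
    change 𝟙 ((tw L n).obj M) = 0
    rw [← (tw L n).map_id, h0, Functor.map_zero]
  rw [← LinearMap.id_apply (R := A) z,
    ← mapK_id A (CohB1.tensorMod M (CohB1.tensorPow L n)) (q + 1), h1]
  exact H_zero (q + 1) z

/-- Finitely many closed subschemes covering a proper scheme detect ampleness. -/
theorem isAmple_of_finite_cover {L : X.Modules} (hL : PicF.IsInvertible L) {ι : Type*} (t : Finset ι)
    (I : ι → X.IdealSheafData) (hcov : ∀ x : X, ∃ j ∈ t, x ∈ (I j).support)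
    (h : ∀ j ∈ t, CohB1.IsAmple ((Scheme.Modules.pullback (I j).subschemeι).obj L)) :
    CohB1.IsAmple L := by
  classical
  haveI := Groth.Agent.H78.Existence.AmpleVanish.isNoetherian_of_proper A (X := X)
  have key : ∀ s : Finset ι, s ⊆ t → ∃ P : X.IdealSheafData, Good L P ∧
      ∀ x : X, (∃ j ∈ s, x ∈ (I j).support) → x ∈ P.support := by
    intro s
    induction s using Finset.induction with
    | empty => exact fun _ => ⟨⊤, good_top A hL, fun x ⟨_, hj, _⟩ => absurd hj (by simp)⟩
    | @insert a s ha ih =>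
      intro hs
      obtain ⟨P, hP, hPs⟩ := ih ((Finset.subset_insert a s).trans hs)
      refine ⟨I a * P, good_mul A hL (good_of_ample A hL _ (h a (hs (Finset.mem_insert_self a s)))) hP,
        fun x ⟨j, hj, hx⟩ => ?_⟩
      rw [Scheme.IdealSheafData.support_mul]
      rcases Finset.mem_insert.1 hj with rfl | hj
      · exact Or.inl hx
      · exact Or.inr (hPs x ⟨j, hj, hx⟩)
  obtain ⟨P, hP, hPs⟩ := key t subset_rfl
  have hpow : ∀ N, Good L (P ^ N) := by
    intro N
    induction N with
    | zero => rw [pow_zero, Scheme.IdealSheafData.one_eq_top]; exact good_top A hL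
    | succ N ih => rw [pow_succ]; exact good_mul A hL ih hP
  obtain ⟨N, hN⟩ : ∃ N : ℕ, ∀ (U : X.affineOpens) (a : Γ(X, U.1)), a ∈ P.ideal U ^ N →
      ∀ s : Γ(Coh.structureModule X, U.1), a • s = 0 := by
    haveI := (Snapper.Twist.isCoh_structureModule X).1
    haveI := (Snapper.Twist.isCoh_structureModule X).2
    exact Modules.ClosedUnit.exists_pow_smul_eq_zero _ P fun x _ => hPs x (hcov x)
  refine isAmple_of_good_bot A hL fun M hM _ => hpow N M hM fun U a ha s => ?_
  have h0 : a = 0 := by
    have h1 := hN U a (by simpa using ha) (1 : Γ(X, U.1))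
    exact (mul_one a).symm.trans h1
  rw [h0, zero_smul]

end Groth.Agent.Lib.Exchange.AmpleGlue
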