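import Groth.Agent.Lib.Exchange.Main

/-!
# The representing complex as a chain complex
-/

set_option autoImplicit false
set_option linter.style.haveILetI false
universe u

open CategoryTheory Limits AlgebraicGeometry

namespace ZarCoh.Exchange.Chain

noncomputable section

variable {A : Type u} [CommRing A]

/-- A cochain complex as a chain complex, by negating the degrees. -/
def flip (L : CochainComplex (ModuleCat.{u} A) ℤ) : ChainComplex (ModuleCat.{u} A) ℤ where
  X i := L.X (-i)
  d i j := L.d (-i) (-j)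
  shape i j h := L.shape _ _ fun h' => h (by
    change j + 1 = i
    change -i + 1 = -j at h'
    omega)
  d_comp_d' i j k _ _ := L.d_comp_d _ _ _

theorem isZero_flip {L : CochainComplex (ModuleCat.{u} A) ℤ} {b : ℤ} (h : ∀ i, b < i → IsZero (L.X i))
    (i : ℤ) (hi : i < -b) : IsZero ((flip L).X i) := h _ (by omega)

/-- `T_i` of the chain complex is `T^{-i}` of the cochain complex. -/
def flipT (L : CochainComplex (ModuleCat.{u} A) ℤ) (i p : ℤ) (hp : -i = p) :
    CohIII.TFun (flip L) i ≅ CohIII.TFun L p :=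
  NatIso.ofComponents (fun M => ShortComplex.homologyMapIso
    ((HomologicalComplex.natIsoSc' (ModuleCat.{u} A) (ComplexShape.down ℤ) (i + 1) i (i - 1)
        (ChainComplex.prev ℤ i) ((ComplexShape.down ℤ).next_eq' (show i - 1 + 1 = i by omega))).app
      (CohIII.tensorObj (flip L) M) ≪≫
    eqToIso (by subst hp; rfl) ≪≫
    ((HomologicalComplex.natIsoSc' (ModuleCat.{u} A) (ComplexShape.up ℤ) (-(i + 1)) p (-(i - 1))
        ((ComplexShape.up ℤ).prev_eq' (show -(i + 1) + 1 = p by omega))
        ((ComplexShape.up ℤ).next_eq' (show p + 1 = -(i - 1) by omega))).app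
      (CohIII.tensorObj L M)).symm)) fun {M N} g => by
    subst hp
    show ShortComplex.homologyMap _ ≫ ShortComplex.homologyMap _ =
      ShortComplex.homologyMap _ ≫ ShortComplex.homologyMap _
    rw [← ShortComplex.homologyMap_comp, ← ShortComplex.homologyMap_comp]
    congr 1
    simp only [Iso.trans_hom, Iso.app_hom, Iso.symm_hom, Iso.app_inv, eqToIso_refl, Iso.refl_hom]
    rw [← Category.assoc, (HomologicalComplex.natIsoSc' (ModuleCat.{u} A) (ComplexShape.down ℤ)
      (i + 1) i (i - 1) _ _).hom.naturality]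
    simp only [Category.assoc, Category.id_comp, eqToHom_refl]
    congr 1
    exact ((HomologicalComplex.natIsoSc' (ModuleCat.{u} A) (ComplexShape.up ℤ) (-(i + 1)) (-i)
      (-(i - 1)) _ _).inv.naturality (CohIII.tensorMap L g))

variable (A) {X : Scheme.{u}} [X.Over (Spec (CommRingCat.of A))]

/-- `H^p(X, f^* M~ ⊗ F)` as `T_{-p}` of a chain complex of finite free modules, bounded below. -/
theorem exists_rep [IsNoetherianRing A] [QuasiCompact (X ↘ Spec (CommRingCat.of A))]
    [IsSeparated (X ↘ Spec (CommRingCat.of A))] (F : X.Modules) [F.IsQuasicoherent]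
    (hfl : FlatMod.IsFlatOver (X ↘ Spec (CommRingCat.of A)) F)
    (hfin : ∀ p, Module.Finite A (Coh.HH X F p)) :
    ∃ (b : ℤ) (P : ChainComplex (ModuleCat.{u} A) ℤ),
      (∀ i, i < b → IsZero (P.X i)) ∧ (∀ i, Module.Finite A (P.X i)) ∧
      (∀ i, Module.Free A (P.X i)) ∧ (∀ i : ℤ, 0 < i → ∀ M, IsZero (CohIII.T P i M)) ∧
      ∀ p : ℕ, Nonempty (CohIII.TFun P (-(p : ℤ)) ⋙ forget₂ (ModuleCat.{u} A) AddCommGrpCat.{u} ≅
        CohIII.tensorAFunctor A F ⋙ CohIII.HAb X p) := by
  obtain ⟨b, L, hL0, hLf, hneg, hiso⟩ := Main.exists_rep A F hfl hfin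
  refine ⟨-b, flip L, fun i hi => isZero_flip hL0 i hi, fun i => (hLf _).1, fun i => (hLf _).2,
    fun i hi M => (hneg (-i) (by omega) M).of_iso ((flipT L i (-i) rfl).app M), fun p => ?_⟩
  exact ⟨Functor.isoWhiskerRight (flipT L _ _ (neg_neg _)) _ ≪≫ (hiso p).some⟩

end

end ZarCoh.Exchange.Chain
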