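import Groth.Agent.Lib.Exchange.Complex

/-!
# `H^p(C ⊗ M) ≅ H^p(X, f^* M~ ⊗ F)`, natural in `M`
-/

set_option autoImplicit false
set_option linter.style.haveILetI false
universe u

open CategoryTheory Limits AlgebraicGeometry Opposite TopologicalSpace
open scoped TensorProduct

namespace ZarCoh.Exchange.Compare

open Groth.Agent.Lib ZarCoh.Exchange.Sections ZarCoh.Exchange.Complex
open Groth.Agent.Lib.CechRes.Sec (rho secA)
open Groth.Agent.Lib.Cech.Complex (inter Cochain dC)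
open Groth.Agent.Lib.ProjCoh.CechNat (cMap hMap HG Comparison)

noncomputable section

variable (A : Type u) [CommRing A] {X : Scheme.{u}} [X.Over (Spec (CommRingCat.of A))]
  {ι : Type u} (U : ι → X.Opens) (F : X.Modules)

local notation "pX" => (X ↘ Spec (CommRingCat.of A))

variable (M : ModuleCat.{u} A)

/-- The tensored complex. -/
abbrev K : HomologicalComplex (ModuleCat.{u} A) (ComplexShape.up ℤ) :=
  CohIII.tensorObj (C A U F) M

theorem next_eq (p : ℕ) : (ComplexShape.up ℤ).next ((p : ℕ) : ℤ) = ((p + 1 : ℕ) : ℤ) :=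
  (ComplexShape.up ℤ).next_eq' (show (p : ℤ) + 1 = ((p + 1 : ℕ) : ℤ) by omega)

theorem prev_succ (p : ℕ) : (ComplexShape.up ℤ).prev ((p + 1 : ℕ) : ℤ) = ((p : ℕ) : ℤ) :=
  (ComplexShape.up ℤ).prev_eq' (show (p : ℤ) + 1 = ((p + 1 : ℕ) : ℤ) by omega)

theorem prev_zero : (ComplexShape.up ℤ).prev ((0 : ℕ) : ℤ) = Int.negSucc 0 :=
  (ComplexShape.up ℤ).prev_eq' rfl

theorem K_d (p : ℕ) (z : CM A U F p ⊗[A] M) :
    ((K A U F M).d ((p : ℕ) : ℤ) ((p + 1 : ℕ) : ℤ)).hom z = (dA A U F p).rTensor M z := by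
  show (((C A U F).d (p : ℤ) ((p + 1 : ℕ) : ℤ)).hom).rTensor M z = _
  rw [C_d]
  rfl

/-- Cocycles. -/
abbrev Z (p : ℕ) : Type u :=
  LinearMap.ker ((K A U F M).d ((p : ℕ) : ℤ) ((p + 1 : ℕ) : ℤ)).hom

theorem dC_phi (p : ℕ) (z : Z A U F M p) :
    dC U (Coh.toAb (G F M)).obj p (phi A U F M p z.1) = 0 := by
  have hz : (dA A U F p).rTensor M z.1 = 0 := (K_d A U F M p z.1).symm.trans z.2
  rw [← phi_d, hz, map_zero]
  rfl

/-- The class in `H^p` of the tensored complex. -/
def toT (p : ℕ) : Z A U F M p →+ CohIII.T (C A U F) ((p : ℕ) : ℤ) M :=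
  (FlatCx.Elem.cls (K := K A U F M) (next_eq p)).toAddMonoidHom

/-- The class in Cech cohomology. -/
def toCech (p : ℕ) : Z A U F M p →+ CohTop.cechH (Coh.toAb (G F M)).obj U p :=
  AddMonoidHom.mk' (fun z => ProjCoh.CechNat.cls (Coh.toAb (G F M)).obj
      (show Cochain U (Coh.toAb (G F M)).obj p from phi A U F M p z.1) (dC_phi A U F M p z))
    fun z z' => by
      refine Eq.trans ?_ (ProjCoh.CechNat.cls_add _ _ _ (dC_phi A U F M p z) (dC_phi A U F M p z'))
      congr 1
      exact map_add (phi A U F M p) z.1 z'.1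

theorem toT_surjective (p : ℕ) : Function.Surjective (toT A U F M p) :=
  FlatCx.Elem.cls_surjective (K := K A U F M) (next_eq p)

theorem cls_zero_eq_zero {P : (Opens X)ᵒᵖ ⥤ AddCommGrpCat.{u}} (c : Cochain U P 0)
    (hc : dC U P 0 c = 0) (h : ProjCoh.CechNat.cls P c hc = 0) : c = 0 := by
  obtain ⟨w, hw, hw'⟩ := ProjCoh.CechNat.exists_rep P c hc
  have h1 : Function.Bijective ((Cech.Complex.cx U P).homologyπ 0) :=
    ConcreteCategory.bijective_of_isIso (Cech.Complex.cx U P).isoHomologyπ₀.hom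
  have : w = 0 := h1.1 ((hw'.symm.trans h).trans (map_zero _).symm)
  rw [← hw, this, map_zero, map_zero]

theorem cls_congr {P : (Opens X)ᵒᵖ ⥤ AddCommGrpCat.{u}} {p : ℕ} {c c' : Cochain U P p} (h : c = c')
    (hc : dC U P p c = 0) (hc' : dC U P p c' = 0) :
    ProjCoh.CechNat.cls P c hc = ProjCoh.CechNat.cls P c' hc' := by
  subst h; rfl

variable [Finite ι] (hU : ∀ {q : ℕ} (i : Fin (q + 1) → ι), IsAffineOpen (inter U i))
  [F.IsQuasicoherent]

include hU in
theorem toCech_surjective (p : ℕ) : Function.Surjective (toCech A U F M p) := fun x => by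
  obtain ⟨c, hc, rfl⟩ := ProjCoh.CechNat.cls_surjective (Coh.toAb (G F M)).obj x
  obtain ⟨z, hz⟩ := (bijective_phi A U F M hU p).2 c
  suffices hk : ((K A U F M).d ((p : ℕ) : ℤ) ((p + 1 : ℕ) : ℤ)).hom z = 0 from
    ⟨⟨z, hk⟩, cls_congr U hz (dC_phi A U F M p ⟨z, hk⟩) hc⟩
  refine (K_d A U F M p z).trans ((bijective_phi A U F M hU (p + 1)).1 ?_)
  refine ((phi_d A U F M p z).trans ?_).trans (map_zero (phi A U F M (p + 1))).symm
  rw [hz]
  exact hc

include hU in
theorem ker_eq (p : ℕ) : (toT A U F M p).ker = (toCech A U F M p).ker := by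
  refine AddSubgroup.ext fun z => ?_
  rw [AddMonoidHom.mem_ker, AddMonoidHom.mem_ker]
  cases p with
  | zero =>
    have h1 : toT A U F M 0 z = 0 ↔ z.1 = 0 := by
      refine (FlatCx.Elem.cls_eq_zero_iff (K := K A U F M) prev_zero (next_eq 0) z).trans ?_
      constructor
      · rintro ⟨y, hy⟩
        haveI : Subsingleton ((K A U F M).X (Int.negSucc 0)) :=
          ModuleCat.subsingleton_of_isZero ((MonoidalCategory.tensorRight M).map_isZero
            (isZero_C A U F _ (Int.negSucc_lt_zero 0)))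
        rw [← hy, Subsingleton.elim y 0, map_zero]
      · intro h
        exact ⟨0, by rw [map_zero, h]⟩
    rw [h1]
    constructor
    · intro h
      have : z = 0 := Subtype.ext h
      rw [this, map_zero]
    · intro h
      apply (bijective_phi A U F M hU 0).1
      exact (cls_zero_eq_zero U _ (dC_phi A U F M 0 z) h).trans (map_zero (phi A U F M 0)).symm
  | succ q =>
    refine (FlatCx.Elem.cls_eq_zero_iff (K := K A U F M) (prev_succ q) (next_eq (q + 1)) z).trans ?_
    constructor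
    · rintro ⟨y, hy⟩
      have h : phi A U F M (q + 1) z.1 = dC U (Coh.toAb (G F M)).obj q (phi A U F M q y) := by
        rw [← phi_d, ← hy, K_d]
      exact (cls_congr U h (dC_phi A U F M (q + 1) z) (Cech.Complex.dC_dC U _ q _)).trans
        (ProjCoh.CechNat.cls_eq_zero_of _ _)
    · intro h
      obtain ⟨b, hb⟩ := ProjCoh.CechNat.exists_of_cls_eq_zero _ _ (dC_phi A U F M (q + 1) z) h
      obtain ⟨y, rfl⟩ := (bijective_phi A U F M hU q).2 b
      refine ⟨y, (K_d A U F M q y).trans ((bijective_phi A U F M hU (q + 1)).1 ?_)⟩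
      rw [phi_d]
      exact hb

/-- `H^p(C ⊗ M)` is Cech cohomology of `f^* M~ ⊗ F`. -/
def cechEquiv (p : ℕ) :
    CohIII.T (C A U F) ((p : ℕ) : ℤ) M ≃+ CohTop.cechH (Coh.toAb (G F M)).obj U p :=
  Cech.Compare.equivOfKerEq (toT A U F M p) (toCech A U F M p) (toT_surjective A U F M p)
    (toCech_surjective A U F M hU p) (ker_eq A U F M hU p)

theorem cechEquiv_toT (p : ℕ) (z : Z A U F M p) :
    cechEquiv A U F M hU p (toT A U F M p z) = toCech A U F M p z :=
  ProjCoh.CechNat.equivOfKerEq_apply _ _ _ _ _ z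

/-- The sheaf map induced by a map of modules. -/
abbrev gMap {M N : ModuleCat.{u} A} (g : M ⟶ N) : Coh.toAb (G F M) ⟶ Coh.toAb (G F N) :=
  (SheafOfModules.toSheaf X.ringCatSheaf).map ((CohIII.tensorAFunctor A F).map g)

theorem cechEquiv_natural {N : ModuleCat.{u} A} (g : M ⟶ N) (p : ℕ)
    (x : CohIII.T (C A U F) ((p : ℕ) : ℤ) M) :
    cechEquiv A U F N hU p ((CohIII.TFun (C A U F) ((p : ℕ) : ℤ)).map g x) =
      cMap U (gMap A F g) p (cechEquiv A U F M hU p x) := by
  obtain ⟨z, rfl⟩ := toT_surjective A U F M p x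
  let zg : Z A U F N p := ⟨((CohIII.tensorMap (C A U F) g).f ((p : ℕ) : ℤ)).hom z.1, by
    show ((CohIII.tensorMap (C A U F) g).f _ ≫ (K A U F N).d _ _).hom z.1 = 0
    rw [(CohIII.tensorMap (C A U F) g).comm]
    exact (congrArg _ z.2).trans (map_zero _)⟩
  have h1 : (CohIII.TFun (C A U F) ((p : ℕ) : ℤ)).map g (toT A U F M p z) = toT A U F N p zg :=
    FlatCx.Elem.homologyMap_cls (CohIII.tensorMap (C A U F) g) (next_eq p) z zg rfl
  rw [h1, cechEquiv_toT, cechEquiv_toT]
  refine Eq.trans ?_ (ProjCoh.CechNat.cls_map (Coh.toAb (G F M)).obj (gMap A F g).hom _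
    (dC_phi A U F M p z)).symm
  exact cls_congr U (phi_natural A U F M g p z.1).symm (dC_phi A U F N p zg)
    ((Cech.Complex.map_dC (gMap A F g).hom p (phi A U F M p z.1)).symm.trans
      ((congrArg _ (dC_phi A U F M p z)).trans (map_zero _)))

variable (hcov : iSup U = ⊤)

include hU hcov in
/-- `H^p(C ⊗ M) ≅ H^p(X, f^* M~ ⊗ F)`, natural in `M`. -/
theorem nonempty_natIso (p : ℕ) :
    Nonempty (CohIII.TFun (C A U F) ((p : ℕ) : ℤ) ⋙ forget₂ (ModuleCat.{u} A) AddCommGrpCat.{u} ≅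
      CohIII.tensorAFunctor A F ⋙ CohIII.HAb X p) := by
  obtain ⟨Cmp⟩ := ProjCoh.CechNat.nonempty_comparison U hcov p
  have hG : ∀ M : ModuleCat.{u} A, Cech.Compare.InterAcyclic U (Coh.toAb (G F M)) := fun M q i n =>
    haveI : ((tilde.functor (CommRingCat.of A)).obj M).IsQuasicoherent := by
      dsimp [tilde.functor]; infer_instance
    haveI := QCoh.Pullback.isQCoh_pullback pX ((tilde.functor (CommRingCat.of A)).obj M)
    haveI : (G F M).IsQuasicoherent := TensorMod.TensorQCoh.isQCoh_tensorMod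
      ((Scheme.Modules.pullback pX).obj ((tilde.functor (CommRingCat.of A)).obj M)) F
    Groth.Agent.Lib.ZarCoh.Affine.HU_subsingleton (G F M) (hU i) n
  refine ⟨NatIso.ofComponents (fun M => (cechEquiv A U F M hU p).toAddCommGrpIso ≪≫
    Cmp.e (Coh.toAb (G F M)) (hG M)) fun {M N} g => ?_⟩
  refine AddCommGrpCat.hom_ext (AddMonoidHom.ext fun x => ?_)
  show (Cmp.e _ (hG N)).hom (cechEquiv A U F N hU p ((CohIII.TFun (C A U F) ((p : ℕ) : ℤ)).map g x)) =
    hMap (gMap A F g) p ((Cmp.e _ (hG M)).hom (cechEquiv A U F M hU p x))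
  rw [cechEquiv_natural]
  exact (ConcreteCategory.congr_hom (Cmp.nat _ _ (gMap A F g) (hG M) (hG N)) _).symm

end

end ZarCoh.Exchange.Compare
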