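import Groth.Agent.Lib.Exchange.Sections
import Groth.Agent.Lib.CechRes.Flat
import Groth.Agent.Lib.ProjCoh.CechNat
import Groth.Agent.Lib.ZarCoh.Affine
import Groth.Agent.Lib.FlatCx.Elem
import Mathlib.LinearAlgebra.TensorProduct.Pi
import Mathlib.Algebra.Category.ModuleCat.Monoidal.Basic
import Mathlib.CategoryTheory.Sites.SheafCohomology.Basic

/-!
# The Cech complex of `F` over the base ring computes `H^p(X, f^* M~ ⊗ F)` naturally in `M`
-/

set_option autoImplicit false
set_option linter.style.haveILetI false
universe u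

open CategoryTheory Limits AlgebraicGeometry Opposite TopologicalSpace
open scoped TensorProduct

namespace ZarCoh.Exchange.Complex

open Groth.Agent.Lib ZarCoh.Exchange.Sections
open Groth.Agent.Lib.CechRes.Sec (rho secA resA toSec ofSec)
open Groth.Agent.Lib.Cech.Complex (inter inter_le_face Cochain dC)

noncomputable section

variable (A : Type u) [CommRing A] {X : Scheme.{u}} [X.Over (Spec (CommRingCat.of A))]
  {ι : Type u} (U : ι → X.Opens) (F : X.Modules)

local notation "pX" => (X ↘ Spec (CommRingCat.of A))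

/-- Cochains with their module structure over the base. -/
abbrev CM (q : ℕ) : Type u := ∀ i : Fin (q + 1) → ι, (secA pX (inter U i)).obj F

/-- The differential, linear over the base. -/
def dA (q : ℕ) : CM A U F q →ₗ[A] CM A U F (q + 1) :=
  LinearMap.pi fun i => ∑ j : Fin (q + 2), (-1 : ℤ) ^ (j : ℕ) •
    (((resA pX (inter_le_face U i j)).app F).hom ∘ₗ LinearMap.proj (i ∘ j.succAbove))

theorem dA_eq (q : ℕ) (c : CM A U F q) : dA A U F q c = dC U (Coh.toAb F).obj q c := by
  funext i
  rw [Cech.Complex.dC_apply]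
  simp only [dA, LinearMap.pi_apply, LinearMap.sum_apply, LinearMap.smul_apply]
  rfl

theorem dA_dA (q : ℕ) : dA A U F (q + 1) ∘ₗ dA A U F q = 0 := by
  refine LinearMap.ext fun c => ?_
  rw [LinearMap.comp_apply, dA_eq, dA_eq]
  exact Cech.Complex.dC_dC U (Coh.toAb F).obj q c

/-- The terms of the Cech complex, indexed by integers. -/
def obj : ℤ → ModuleCat.{u} A
  | .ofNat q => ModuleCat.of A (CM A U F q)
  | .negSucc _ => ModuleCat.of A PUnit

/-- The differential, indexed by integers. -/
def dZ : ∀ i : ℤ, obj A U F i ⟶ obj A U F (i + 1)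
  | .ofNat q => ModuleCat.ofHom (dA A U F q)
  | .negSucc _ => 0

theorem dZ_dZ : ∀ i : ℤ, dZ A U F i ≫ dZ A U F (i + 1) = 0
  | .ofNat q => ModuleCat.hom_ext (dA_dA A U F q)
  | .negSucc q => by simp [dZ]

/-- The Cech complex of `F` as a complex of modules over the base. -/
def C : CochainComplex (ModuleCat.{u} A) ℤ := CochainComplex.of (obj A U F) (dZ A U F) (dZ_dZ A U F)

theorem C_d (q : ℕ) : (C A U F).d (q : ℤ) ((q + 1 : ℕ) : ℤ) = ModuleCat.ofHom (dA A U F q) :=
  CochainComplex.of_d (obj A U F) (dZ A U F) (Int.ofNat q)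

theorem isZero_C (i : ℤ) (hi : i < 0) : IsZero ((C A U F).X i) := by
  obtain ⟨q, rfl⟩ : ∃ q : ℕ, i = Int.negSucc q := ⟨(-i - 1).toNat, by omega⟩
  exact ModuleCat.isZero_of_subsingleton (ModuleCat.of A PUnit)

variable (M : ModuleCat.{u} A)

/-- The comparison of tensored cochains with cochains of `f^* M~ ⊗ F`. -/
def phi (q : ℕ) : CM A U F q ⊗[A] M →ₗ[A] ∀ i : Fin (q + 1) → ι, (secA pX (inter U i)).obj (G F M) :=
  LinearMap.pi fun i => psi F (inter U i) M ∘ₗ (LinearMap.proj i).rTensor M

theorem phi_apply (q : ℕ) (z : CM A U F q ⊗[A] M) (i : Fin (q + 1) → ι) :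
    phi A U F M q z i =
      psi F (inter U i) M ((LinearMap.proj (φ := fun i : Fin (q + 1) → ι =>
        ((secA pX (inter U i)).obj F : Type u)) i).rTensor M z) := rfl

theorem phi_d (q : ℕ) (z : CM A U F q ⊗[A] M) :
    phi A U F M (q + 1) ((dA A U F q).rTensor M z) =
      dC U (Coh.toAb (G F M)).obj q (phi A U F M q z) := by
  rw [← dA_eq]
  induction z using TensorProduct.induction_on with
  | zero => simp only [map_zero]
  | tmul c m =>
    funext i
    simp only [dA, phi_apply, LinearMap.rTensor_tmul, LinearMap.pi_apply, LinearMap.sum_apply,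
      LinearMap.smul_apply, LinearMap.comp_apply, LinearMap.proj_apply, TensorProduct.sum_tmul,
      map_sum]
    refine Finset.sum_congr rfl fun j _ => ?_
    rw [← TensorProduct.smul_tmul' ((-1 : ℤ) ^ (j : ℕ)), map_zsmul]
    exact congrArg ((-1 : ℤ) ^ (j : ℕ) • ·)
      (psi_res F (inter_le_face U i j) M (c (i ∘ j.succAbove) ⊗ₜ[A] m)).symm
  | add a b ha hb => simp only [map_add, ha, hb]

theorem phi_natural {N : ModuleCat.{u} A} (g : M ⟶ N) (q : ℕ) (z : CM A U F q ⊗[A] M) :
    Cech.Complex.map ((SheafOfModules.toSheaf X.ringCatSheaf).map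
        ((CohIII.tensorAFunctor A F).map g)).hom q (phi A U F M q z) =
      phi A U F N q (g.hom.lTensor _ z) := by
  funext i
  rw [Cech.Complex.map_apply, phi_apply]
  refine (psi_natural F (inter U i) g _).trans ?_
  rw [phi_apply]
  refine congrArg (psi F (inter U i) N) ?_
  induction z using TensorProduct.induction_on with
  | zero => simp only [map_zero]
  | tmul c m => rfl
  | add a b ha hb => simp only [map_add, ha, hb]

variable [Finite ι] (hU : ∀ {q : ℕ} (i : Fin (q + 1) → ι), IsAffineOpen (inter U i))
  [F.IsQuasicoherent]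

include hU in
theorem bijective_phi (q : ℕ) : Function.Bijective (phi A U F M q) := by
  classical
  haveI := Fintype.ofFinite ι
  let e := TensorProduct.piLeft A M (fun i : Fin (q + 1) → ι => ((secA pX (inter U i)).obj F : Type u))
  have h : ∀ z i, e z i = (LinearMap.proj (φ := fun i : Fin (q + 1) → ι =>
      ((secA pX (inter U i)).obj F : Type u)) i).rTensor M z := fun z i => by
    induction z using TensorProduct.induction_on with
    | zero => simp only [map_zero, Pi.zero_apply]
    | tmul c m => simp [e, TensorProduct.piRight_apply]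
    | add a b ha hb => simp only [map_add, Pi.add_apply, ha, hb]
  have h' : ∀ z, phi A U F M q z = fun i => psi F (inter U i) M (e z i) := fun z => by
    funext i
    rw [phi_apply, h]
  exact (funext h' : ⇑(phi A U F M q) = _) ▸
    (Function.Bijective.piMap fun i => bijective_psi F (hU i) M).comp e.bijective

end

end ZarCoh.Exchange.Complex
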