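import Groth.Agent.Lib.Exchange.FiniteAmpleBasis
import Groth.Agent.Lib.Exchange.Thick.Unit
import Groth.Agent.Lib.Nakai.VanDev
import Groth.Agent.H54.ChevNoeth
import Groth.Agent.H97.CurveEuler

/-!
# Ampleness descends along finite surjections of proper schemes
-/

set_option autoImplicit false
set_option linter.style.haveILetI false
universe u

open CategoryTheory CategoryTheory.Limits AlgebraicGeometry Opposite TopologicalSpace

namespace Groth.Agent.Lib.Exchange.FiniteAmple

open Groth.Agent.Lib Groth.Agent.Lib.Modules.StalkModule Groth.Agent.Lib.Nakai.VanDev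
open Groth.Agent.Lib.TensorMod
open Groth.Agent.Lib.TensorMod.Basic (comm assoc tensorIso leftUnit rightUnit tensorBy)
open Groth.Agent.H54.ChevH1 (one exists_smul_one ofSection_one eq_zero_of_germ
  hom_eq_zero_of_affine)

local notation "pb" => Scheme.Modules.pullback

variable {X Y : Scheme.{u}}

/-- Vanishing passes to the direct image under an affine morphism. -/
theorem vanh_push_affine (f : Y ⟶ X) [IsAffineHom f] {L : X.Modules} (hL : PicF.IsInvertible L)
    {N : Y.Modules} [N.IsQuasicoherent] (h : Vanh ((pb f).obj L) N) :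
    Vanh L ((Scheme.Modules.pushforward f).obj N) := by
  refine h.mono fun n hn q => ?_
  have hLn := Invertible.isInvertible_tensorPow hL n
  let e : CohB1.tensorMod ((Scheme.Modules.pushforward f).obj N) (CohB1.tensorPow L n) ≅
      (Scheme.Modules.pushforward f).obj (CohB1.tensorMod N (CohB1.tensorPow ((pb f).obj L) n)) :=
    comm _ _ ≪≫ (Modules.ProjFormula.projIso f (E := CohB1.tensorPow L n)
      (Modules.DualBasis.hasDBases_of_isFinLocFree
        (LocFree.of_rank (LocFree.of_isInvertible hLn)))).app N ≪≫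
    (Scheme.Modules.pushforward f).mapIso (comm _ _ ≪≫
      tensorIso (Iso.refl N) (Ample.Pow.pullbackPow f L n))
  let N' := CohB1.tensorMod N (CohB1.tensorPow ((pb f).obj L) n)
  haveI := QCohInv.isQCoh_of_isInvertible
    (Invertible.isInvertible_tensorPow (PicLoc.isInvertible_pullback f hL) n)
  haveI : N'.IsQuasicoherent := TensorQCoh.isQCoh_tensorMod _ _
  haveI := hn q
  haveI : Subsingleton (Coh.HH X ((Scheme.Modules.pushforward f).obj N') (q + 1)) :=
    (ZarCoh.Morph.affineEquiv f N' (q + 1)).toEquiv.subsingleton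
  exact H34.HOne.ext_of_iso.{u} _ (q + 1) ((H34.HOne.ab X).mapIso e.symm) ‹_›

open Groth.Agent.H34 in
/-- Vanishing passes to direct summands. -/
theorem vanh_retract {L M P : X.Modules} (s : M ⟶ P) (p : P ⟶ M) (h : s ≫ p = 𝟙 M)
    (hP : Vanh L P) : Vanh L M := by
  refine hP.mono fun n hn q => ?_
  let T := tensorBy (CohB1.tensorPow L n)
  exact HOne.ext_of_sum.{u} _ (q + 1) ({()} : Finset Unit) (M := (HOne.ab X).obj (T.obj M))
    (F := fun _ => (HOne.ab X).obj (T.obj P)) (fun _ => (HOne.ab X).map (T.map s))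
    (fun _ => (HOne.ab X).map (T.map p))
    (by
      rw [Finset.sum_singleton, ← Functor.map_comp, ← Functor.map_comp, h,
        CategoryTheory.Functor.map_id]
      exact ((HOne.ab X).map_id (T.obj M)).symm)
    fun _ => hn q

/-- Copies of an ideal map to a coherent module, bijectively at the generic point. -/
theorem exists_generic_iso [IsIntegral X] [IsNoetherian X] {NQ : X.Modules} (hN : Coh.IsCoh NQ)
    {n : ℕ} (hn : 0 < n) (b : Fin n → Γ(NQ, ⊤))
    (hli : LinearIndependent (X.presheaf.stalk (genericPoint X))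
      (fun i => NQ.presheaf.germ ⊤ (genericPoint X) trivial (b i)))
    (hspan : Submodule.span (X.presheaf.stalk (genericPoint X))
      (Set.range fun i => NQ.presheaf.germ ⊤ (genericPoint X) trivial (b i)) = ⊤)
    (I : X.Modules) (ι : I ⟶ Coh.structureModule X) [Mono ι] (hI : Coh.IsQCoh I)
    (hex : ∃ v, stalkMapₗ ι (genericPoint X) v ≠ 0) :
    ∃ (P : X.Modules) (φ : P ⟶ NQ) (s : I ⟶ P) (p : P ⟶ I), s ≫ p = 𝟙 I ∧ Mono φ ∧ Coh.IsCoh P ∧
      genericPoint X ∉ CohB1.support (cokernel φ) := by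
  haveI : I.IsQuasicoherent := hI
  haveI := hN.1
  set η := genericPoint X
  letI : Field (X.presheaf.stalk η) := inferInstanceAs (Field X.functionField)
  have hιinj : Function.Injective (stalkMapₗ ι η) := (mono_iff_stalkMapₗ_injective ι).mp ‹_› η
  obtain ⟨v₁, hv₁⟩ := hex
  obtain ⟨a, ha⟩ := exists_smul_one η (stalkMapₗ ι η v₁)
  have ha0 : a ≠ 0 := fun h => hv₁ (by rw [← ha, h, zero_smul])
  have hone : stalkMapₗ ι η (a⁻¹ • v₁) = one η := by
    rw [map_smul, ← ha, smul_smul, inv_mul_cancel₀ ha0, one_smul]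
  haveI : HasFiniteBiproducts X.Modules := HasFiniteBiproducts.of_hasFiniteCoproducts
  let F : Fin n → X.Modules := fun _ => I
  let P := ⨁ F
  haveI hPq : P.IsQuasicoherent := by
    have hc : ((∐ F) : X.Modules).IsQuasicoherent :=
      QCoh.Closure.isQCoh_of_isColimit (coproductIsCoproduct F) fun _ => hI
    exact (SheafOfModules.isQuasicoherent X.ringCatSheaf).prop_of_iso (biproduct.isoCoproduct F).symm hc
  let φ : P ⟶ NQ := biproduct.desc fun i => ι ≫ ClSub.Cartier.ofSection NQ (b i)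
  let G := stalkModFunctor X η
  have hsum : ∀ x : P.presheaf.stalk η,
      ∑ i, stalkMapₗ (biproduct.ι F i) η (stalkMapₗ (biproduct.π F i) η x) = x := fun x => by
    have := congrArg (fun g => (G.map g).hom x) (biproduct.total (f := F))
    simp only [Functor.map_sum, ModuleCat.hom_sum, LinearMap.sum_apply,
      Functor.map_comp, ModuleCat.hom_comp, LinearMap.comp_apply] at this
    exact this.trans (congrArg (fun g : G.obj P ⟶ G.obj P => g.hom x) (G.map_id P))
  have hφι : ∀ i w, stalkMapₗ φ η (stalkMapₗ (biproduct.ι F i) η w) =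
      stalkMapₗ (ClSub.Cartier.ofSection NQ (b i)) η (stalkMapₗ ι η w) := fun i w => by
    rw [← LinearMap.comp_apply, ← stalkMapₗ_comp, biproduct.ι_desc, stalkMapₗ_comp]
    rfl
  have hφinj : Function.Injective (stalkMapₗ φ η) := by
    rw [injective_iff_map_eq_zero]
    intro x hx
    choose c hc using fun i => exists_smul_one η (stalkMapₗ ι η (stalkMapₗ (biproduct.π F i) η x))
    rw [← hsum x, map_sum] at hx
    simp only [hφι, ← hc, map_smul, ofSection_one] at hx
    have hc0 := Fintype.linearIndependent_iff.mp hli c hx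
    have : ∀ i, stalkMapₗ (biproduct.π F i) η x = 0 := fun i => hιinj (by
      rw [map_zero, ← hc i, hc0 i, zero_smul])
    rw [← hsum x]
    simp [this]
  have hφsurj : Function.Surjective (stalkMapₗ φ η) := by
    rw [← LinearMap.range_eq_top, eq_top_iff, ← hspan, Submodule.span_le]
    rintro _ ⟨i, rfl⟩
    exact ⟨stalkMapₗ (biproduct.ι F i) η (a⁻¹ • v₁), by rw [hφι, hone, ofSection_one]⟩
  have hφU : ∀ (U : X.Opens) (s : Γ(P, U)), φ.app U s = 0 → s = 0 := fun U s hs => by
    have hcomp : ∀ i, (biproduct.π F i).app U s = 0 := fun i => by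
      refine QCoh.Closure.sections_injective_of_mono ι U ?_
      rw [map_zero]
      refine eq_zero_of_germ _ fun hx => ?_
      have h1 : P.presheaf.germ U η hx s = 0 := hφinj (by rw [stalkMapₗ_germ, hs, map_zero, map_zero])
      rw [← stalkMapₗ_germ ι, ← stalkMapₗ_germ (biproduct.π F i), h1, map_zero, map_zero]
    let ev : (P ⟶ P) →+ Γ(P, U) := AddMonoidHom.mk' (fun g => g.app U s) fun _ _ => rfl
    have h2 := congrArg ev (biproduct.total (f := F))
    rw [map_sum] at h2
    refine h2.symm.trans (Finset.sum_eq_zero fun i _ => ?_)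
    show (biproduct.ι F i).app U ((biproduct.π F i).app U s) = 0
    rw [hcomp, map_zero]
  haveI : Mono φ := ClSub.Basis.mono_of_injective_affine φ fun U =>
    (injective_iff_map_eq_zero (φ.app U.1).hom).mpr (hφU U.1)
  have hPc : Coh.IsCoh P := CohBasics.Closure.isCoh_of_mono φ hN
  let C := cokernel φ
  haveI := QCoh.Closure.isQCoh_cokernel φ
  have hC : Coh.IsCoh C := CohBasics.Closure.isCoh_of_epi (cokernel.π φ) hN
  haveI := hC.2
  have hCη : η ∉ CohB1.support C := by
    refine Modules.Support.not_mem_support_iff.mpr (subsingleton_of_forall_eq 0 fun v => ?_)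
    obtain ⟨w, rfl⟩ := (epi_iff_stalkMapₗ_surjective (cokernel.π φ)).mp inferInstance η v
    obtain ⟨x, rfl⟩ := hφsurj w
    rw [← LinearMap.comp_apply, ← stalkMapₗ_comp, cokernel.condition, stalkMapₗ_zero,
      LinearMap.zero_apply]
  exact ⟨P, φ, biproduct.ι F ⟨0, hn⟩, biproduct.π F ⟨0, hn⟩, biproduct.ι_π_self F _, inferInstance,
    hPc, hCη⟩

/-- A coherent submodule of a direct image contains the direct image of a coherent module with a
small quotient. -/
theorem exists_pushforward_sub [IsNoetherian X] (f : Y ⟶ X) [IsFinite f] {Q : Y.Modules}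
    (hQ : Coh.IsCoh Q) {P : X.Modules} (hPc : Coh.IsCoh P) (φ : P ⟶ (Coh.push f).obj Q) [Mono φ] :
    ∃ (Q' : Y.Modules) (ψ : (Coh.push f).obj Q' ⟶ P), Coh.IsCoh Q' ∧ Mono ψ ∧
      CohB1.support (cokernel ψ) ⊆ CohB1.support (cokernel φ) := by
  haveI : IsLocallyNoetherian Y := LocallyOfFiniteType.isLocallyNoetherian f
  haveI := hQ.1
  haveI := hPc.1
  let NQ := (Coh.push f).obj Q
  have hN : Coh.IsCoh NQ := Cyc.PP.Push.isCoh_push f hQ
  haveI := hN.1
  have hφU : ∀ (U : X.Opens) (s : Γ(P, U)), φ.app U s = 0 → s = 0 := fun U s hs =>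
    QCoh.Closure.sections_injective_of_mono φ U (hs.trans (map_zero _).symm)
  let C := cokernel φ
  haveI := QCoh.Closure.isQCoh_cokernel φ
  have hC : Coh.IsCoh C := CohBasics.Closure.isCoh_of_epi (cokernel.π φ) hN
  haveI := hC.2
  let K := ZarCoh.AnnIdeal.annIdeal C
  let Jd := K.comap f
  let w := Jd.subschemeι
  let α := Exchange.Thick.Unit.η w Q
  let Q' := kernel α
  have hQ' : Coh.IsCoh Q' := CohBasics.Closure.isCoh_kernel α hQ
    (Exchange.Thick.Unit.isCoh_pushPull w hQ).1
  haveI := hQ'.1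
  let J := (Coh.push f).obj Q'
  haveI : J.IsQuasicoherent := (Cyc.PP.Push.isCoh_push f hQ').1
  let jj : J ⟶ NQ := (Coh.push f).map (kernel.ι α)
  have hker : ∀ (U : X.affineOpens) (s : Γ(Q, f ⁻¹ᵁ U.1)),
      α.app (f ⁻¹ᵁ U.1) s = 0 ↔ s ∈ Ideal.map (f.app U.1).hom (K.ideal U) •
        (⊤ : Submodule Γ(Y, f ⁻¹ᵁ U.1) Γ(Q, f ⁻¹ᵁ U.1)) := fun U s => by
    rw [Exchange.Thick.Unit.app_eq_zero_iff w hQ (U.2.preimage f) s,
      Scheme.IdealSheafData.ker_subschemeι, Groth.Agent.Lib.Ideal.Comap.ideal_comap f K U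
        ⟨f ⁻¹ᵁ U.1, U.2.preimage f⟩ le_rfl, Scheme.Hom.app_eq_appLE]
  have hann : ∀ (U : X.affineOpens) (k : Γ(X, U.1)), k ∈ K.ideal U → ∀ c : Γ(C, U.1), k • c = 0 :=
    fun U k hk c => Module.mem_annihilator.mp hk c
  have hjj : jj ≫ cokernel.π φ = 0 := by
    refine hom_eq_zero_of_affine _ fun U t => ?_
    let ν : Γ(Q, f ⁻¹ᵁ U.1) →+ Γ(C, U.1) :=
      AddMonoidHom.mk' (fun x => (cokernel.π φ).app U.1 (show Γ(NQ, U.1) from x))
        fun x y => map_add ((cokernel.π φ).app U.1).hom _ _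
    show ν ((kernel.ι α).app (f ⁻¹ᵁ U.1) t) = 0
    have hν : ∀ k ∈ K.ideal U, ∀ c, ν ((f.app U.1).hom k • c) = 0 := fun k hk c =>
      ((cokernel.π φ).app_smul k (show Γ(NQ, U.1) from c)).trans (hann U k hk _)
    have hgen : ∀ r ∈ Ideal.map (f.app U.1).hom (K.ideal U), ∀ c, ν (r • c) = 0 := fun r hr => by
      induction hr using Submodule.span_induction with
      | mem x hx => obtain ⟨k, hk, rfl⟩ := hx; exact hν k hk
      | zero => intro c; rw [zero_smul, map_zero]
      | add r₁ r₂ _ _ h₁ h₂ => intro c; rw [add_smul, map_add, h₁, h₂, add_zero]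
      | smul d r₁ _ h => intro c; rw [smul_eq_mul, mul_comm, mul_smul]; exact h _
    exact Submodule.smul_induction_on
      ((hker U _).1 (congr($(kernel.condition α).app (f ⁻¹ᵁ U.1) t))) (p := fun x => ν x = 0)
      (fun r hr c _ => hgen r hr c) fun x y hx hy => by rw [map_add, hx, hy, add_zero]
  let ψ : J ⟶ P := Abelian.monoLift φ jj hjj
  have hψ : ψ ≫ φ = jj := Abelian.monoLift_comp φ jj hjj
  haveI : Mono jj := ClSub.Basis.mono_of_injective_affine jj fun U =>
    QCoh.Closure.sections_injective_of_mono (kernel.ι α) (f ⁻¹ᵁ U.1)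
  haveI : Mono ψ := mono_of_mono_fac hψ
  let D := cokernel ψ
  haveI := QCoh.Closure.isQCoh_cokernel ψ
  have hD : Coh.IsCoh D := CohBasics.Closure.isCoh_of_epi (cokernel.π ψ) hPc
  haveI := hD.2
  have hkill : K ≤ ZarCoh.AnnIdeal.annIdeal D := by
    intro U k hk
    refine Module.mem_annihilator.mpr fun m => ?_
    obtain ⟨p, rfl⟩ := QCoh.Closure.sections_surjective_of_epi (cokernel.π ψ) U.2 m
    have hmem : α.app (f ⁻¹ᵁ U.1) (show Γ(Q, f ⁻¹ᵁ U.1) from φ.app U.1 (k • p)) = 0 := by
      rw [hker U, show (show Γ(Q, f ⁻¹ᵁ U.1) from φ.app U.1 (k • p)) =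
        (f.app U.1).hom k • (show Γ(Q, f ⁻¹ᵁ U.1) from φ.app U.1 p) from φ.app_smul k p]
      exact Submodule.smul_mem_smul (Ideal.mem_map_of_mem _ hk) trivial
    let S := ShortComplex.mk (kernel.ι α) α (kernel.condition α)
    haveI : Mono S.f := inferInstanceAs (Mono (kernel.ι α))
    haveI : S.X₂.IsQuasicoherent := hQ.1
    obtain ⟨s, hs⟩ := QCoh.Closure.sections_exact (S := S)
      (S.exact_of_f_is_kernel (kernelIsKernel α)) (f ⁻¹ᵁ U.1) _ hmem
    have he : k • p = ψ.app U.1 s := by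
      refine sub_eq_zero.mp (hφU U.1 _ ?_)
      rw [map_sub, sub_eq_zero]
      refine Eq.trans ?_ (congr($(hψ).app U.1 s)).symm
      exact hs.symm
    show k • (cokernel.π ψ).app U.1 p = 0
    rw [← Scheme.Modules.Hom.app_smul, he]
    exact (congr($(cokernel.condition ψ).app U.1 s)).trans rfl
  refine ⟨Q', ψ, hQ', inferInstance, fun x hx => ?_⟩
  rw [← ZarCoh.AnnIdeal.support_annIdeal] at hx ⊢
  exact Scheme.IdealSheafData.support_antitone hkill hx

variable (A : Type u) [CommRing A] [IsNoetherianRing A] [X.Over (Spec (CommRingCat.of A))]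
  [IsProper (X ↘ Spec (CommRingCat.of A))] [Y.Over (Spec (CommRingCat.of A))]
  [IsProper (Y ↘ Spec (CommRingCat.of A))]

include A

/-- The integral step: twisted ideals have eventually vanishing cohomology. -/
theorem vanh_ideal [IsIntegral X] [IsNoetherian X] [IsIntegral Y] (f : Y ⟶ X) [IsFinite f]
    [Surjective f] {L : X.Modules} (hL : PicF.IsInvertible L)
    (hM : CohB1.IsAmple ((pb f).obj L))
    (hprop : ∀ (T : Closeds X), (T : Set X) ≠ Set.univ → ∀ F : X.Modules, Coh.IsCoh F →
      CohB1.support F ⊆ T → Vanh L F)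
    (I : X.Modules) (ι : I ⟶ Coh.structureModule X) [Mono ι] (hI : Coh.IsQCoh I) :
    Vanh L I := by
  haveI : I.IsQuasicoherent := hI
  haveI : IsLocallyNoetherian Y := LocallyOfFiniteType.isLocallyNoetherian f
  have hIc : Coh.IsCoh I :=
    CohBasics.Closure.isCoh_of_mono ι (Snapper.Twist.isCoh_structureModule X)
  set η := genericPoint X
  letI : Field (X.presheaf.stalk η) := inferInstanceAs (Field X.functionField)
  have hne : ∀ {S : Set X}, η ∉ S → S ≠ Set.univ := fun h e => h (e ▸ trivial)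
  by_cases hzero : ∀ v, stalkMapₗ ι η v = 0
  · refine hprop ⊥ (hne (by simp)) I hIc fun x hx => ?_
    have h0 : ι = 0 := hom_eq_zero_of_affine ι fun U s => eq_zero_of_germ _ fun hx => by
      rw [← stalkMapₗ_germ]; exact hzero _
    refine absurd hx (Modules.Support.not_mem_support_iff.mpr
      (subsingleton_of_forall_eq 0 fun v => (mono_iff_stalkMapₗ_injective ι).mp ‹_› x ?_))
    rw [h0, stalkMapₗ_zero, LinearMap.zero_apply, LinearMap.zero_apply]
  push Not at hzero
  obtain ⟨v₁, hv₁⟩ := hzero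
  obtain ⟨Q, n, b, hQ, hn, hli, hspan⟩ := exists_basis f hM
  obtain ⟨P, φ, s, p, hsp, hφ, hP, hCη⟩ := exists_generic_iso (Cyc.PP.Push.isCoh_push f hQ) hn b
    hli hspan I ι hI ⟨v₁, hv₁⟩
  haveI := hφ
  obtain ⟨Q', ψ, hQ', hψ, hsupp⟩ := exists_pushforward_sub f hQ hP φ
  haveI := hψ
  haveI := hQ'.1
  haveI := hP.1
  haveI := (Cyc.PP.Push.isCoh_push f hQ').1
  haveI := (Cyc.PP.Push.isCoh_push f hQ).1
  haveI := QCoh.Closure.isQCoh_cokernel ψ
  haveI := QCoh.Closure.isQCoh_cokernel φ
  let T : Closeds X := ⟨CohB1.support (cokernel φ), by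
    haveI := (CohBasics.Closure.isCoh_of_epi (cokernel.π φ) (Cyc.PP.Push.isCoh_push f hQ)).2
    rw [← ZarCoh.AnnIdeal.support_annIdeal]
    exact (ZarCoh.AnnIdeal.annIdeal (cokernel φ)).support.isClosed⟩
  have hVD : Vanh L (cokernel ψ) := hprop T (hne hCη) _
    (CohBasics.Closure.isCoh_of_epi (cokernel.π ψ) hP) hsupp
  have hVJ : Vanh L ((Coh.push f).obj Q') :=
    vanh_push_affine f hL (vanh_of_isAmple (X := Y) A hM hQ')
  exact vanh_retract s p hsp (Vanh.middle A (S := ShortComplex.mk ψ (cokernel.π ψ)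
    (cokernel.condition ψ)) hL
    { exact := ShortComplex.exact_of_g_is_cokernel _ (cokernelIsCokernel ψ)
      mono_f := inferInstanceAs (Mono ψ)
      epi_g := inferInstanceAs (Epi (cokernel.π ψ)) } hVJ hVD)

end Groth.Agent.Lib.Exchange.FiniteAmple
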