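import Groth.Agent.H54.ChevGen
import Groth.Agent.H25.Node.Dim
import Groth.Agent.Lib.Ample.Basis
import Groth.Agent.Lib.Ample.GG

/-!
# Finite surjections with an ample module: twisted bases at the generic point

For a finite surjection `f : Y ⟶ X` of integral schemes with an ample module on `Y`, the direct
image of a suitable coherent module has global sections forming a basis at the generic point.
-/

set_option autoImplicit false
set_option linter.style.haveILetI false
universe u

open CategoryTheory CategoryTheory.Limits AlgebraicGeometry Opposite TopologicalSpace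

namespace Groth.Agent.Lib.Exchange.FiniteAmple

open Groth.Agent.Lib Groth.Agent.Lib.Modules.StalkModule
open Groth.Agent.Lib.TensorMod Groth.Agent.Lib.TensorMod.Gen Groth.Agent.Lib.TensorMod.Dual
open Groth.Agent.Lib.TensorMod.Free Groth.Agent.Lib.TensorMod.Pullback
open Groth.Agent.Lib.Ample.GenLocus Groth.Agent.Lib.Ample.Extend
open Groth.Agent.H54.ChevH1 (N isCoh_N)

variable {X Y : Scheme.{u}}

/-- The fibre of a finite surjection of integral schemes over the generic point is one point. -/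
theorem eq_genericPoint [IsIntegral X] [IsIntegral Y] (f : Y ⟶ X) [IsFinite f] [Surjective f]
    {y : Y} (hy : f y = genericPoint X) : y = genericPoint Y := by
  have h1 : genericPoint Y ⤳ y := (genericPoint_spec Y).specializes trivial
  have h2 : f (genericPoint Y) = genericPoint X :=
    ((h1.map f.continuous).trans (specializes_of_eq hy)).antisymm
      ((genericPoint_spec X).specializes trivial) |>.eq
  exact (Groth.Agent.H25.Node.Dim.eq_of_specializes f h1 (h2.trans hy.symm)).symm

/-- Twisted global sections forming a basis at the generic point. -/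
theorem exists_basis [IsIntegral X] [IsNoetherian X] [IsIntegral Y] (f : Y ⟶ X) [IsFinite f]
    [Surjective f] {M : Y.Modules} (hM : CohB1.IsAmple M) :
    ∃ (Q : Y.Modules) (n : ℕ) (b : Fin n → Γ((Coh.push f).obj Q, ⊤)), Coh.IsCoh Q ∧ 0 < n ∧
      LinearIndependent (X.presheaf.stalk (genericPoint X))
        (fun i => ((Coh.push f).obj Q).presheaf.germ ⊤ (genericPoint X) trivial (b i)) ∧
      Submodule.span (X.presheaf.stalk (genericPoint X))
        (Set.range fun i => ((Coh.push f).obj Q).presheaf.germ ⊤ (genericPoint X) trivial (b i)) =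
          ⊤ := by
  classical
  set η := genericPoint X
  letI : Field (X.presheaf.stalk η) := inferInstanceAs (Field X.functionField)
  haveI : IsLocallyNoetherian Y := LocallyOfFiniteType.isLocallyNoetherian f
  haveI : CompactSpace Y := QuasiCompact.compactSpace_of_compactSpace f
  haveI hNc := isCoh_N f
  haveI := hNc.1
  haveI := hNc.2
  haveI : Module.Finite (X.presheaf.stalk η) ((N f).presheaf.stalk η) := by
    obtain ⟨s, hs⟩ := Modules.GenStalk.finite_stalk (N f) η
    exact ⟨⟨s, hs⟩⟩
  let v := Module.finBasis (X.presheaf.stalk η) ((N f).presheaf.stalk η)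
  choose U hU s hs using fun i => TopCat.Presheaf.exists_germ_eq (N f).presheaf (v i)
  let V' : X.Opens := Finset.univ.inf U
  have hV'U : ∀ i, V' ≤ U i := fun i => Finset.inf_le (Finset.mem_univ i)
  have hηV' : η ∈ V' := by
    simp only [V', ← SetLike.mem_coe, Opens.coe_finset_inf]
    simpa using fun i => hU i
  let ξ := genericPoint Y
  obtain ⟨y, hy⟩ := f.surjective η
  have hξη : f ξ = η := by
    exact (congrArg f (eq_genericPoint f hy).symm).trans hy
  obtain ⟨m, hm, σ, hξG, hGV, hGa⟩ :=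
    Ample.Basis.exists_locus_subset hM (U := f ⁻¹ᵁ V') (show f ξ ∈ V' from hξη.symm ▸ hηV')
  let P := CohB1.tensorPow M m
  have hP : PicF.IsInvertible P := Invertible.isInvertible_tensorPow hM.1 m
  let G := CohB1.genLocus P σ
  let T : Closeds X := ⟨f '' (G : Set Y)ᶜ, f.isClosedMap _ G.isOpen.isClosed_compl⟩
  let V : X.Opens := V' ⊓ T.compl
  have hηV : η ∈ V := ⟨hηV', fun ⟨z, hz, hzη⟩ => hz (eq_genericPoint f hzη ▸ hξG)⟩
  have hVG : f ⁻¹ᵁ V ≤ G := fun z hz => by
    by_contra hzG
    exact hz.2 ⟨z, hzG, rfl⟩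
  -- extend the representatives
  let sG : Fin _ → Γ(Coh.structureModule Y, G) := fun i =>
    rs (Coh.structureModule Y) (hGV.trans ((Opens.map f.base).monotone (hV'U i)))
      (show Γ(Coh.structureModule Y, f ⁻¹ᵁ U i) from s i)
  haveI := QCohInv.isQCoh_structureModule Y
  obtain ⟨j, hj⟩ := (Filter.eventually_all.2 fun i =>
    eventually_extension (F := Coh.structureModule Y) hP σ (sG i)).exists
  choose b hb using hj
  let Q := CohB1.tensorMod (Coh.structureModule Y) (CohB1.tensorPow P j)
  have hQ : Coh.IsCoh Q := Ample.GG.isCoh_of_isInvertible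
    (Invertible.isInvertible_of_iso (Basic.leftUnit (CohB1.tensorPow P j)).symm
      (Invertible.isInvertible_tensorPow hP j))
  let e₀ : Γ(Q, ⊤) := SecTwist.tmul (Coh.structureModule Y) (CohB1.tensorPow P j) ⊤
    (one Y ⊤) (powSec (sv σ ⊤) j)
  obtain ⟨μ, hμ⟩ := exists_hom_of_sec e₀
  have hval : ∀ W : Y.Opens, sv μ W = SecTwist.tmul (Coh.structureModule Y) (CohB1.tensorPow P j) W
      (one Y W) (powSec (sv σ W) j) := fun W => by
    rw [← rs_sv μ (le_top : W ≤ ⊤), hμ, ← pairM_id]
    refine (Ample.GG.rs_pairM (le_top : W ≤ ⊤) _ _).trans ?_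
    rw [rs_powSec, rs_sv]
    congr 1
    exact map_one (Y.presheaf.map (homOfLE (le_top : W ≤ ⊤)).op).hom
  have happ : ∀ (W : Y.Opens) (t : Γ(Y, W)),
      μ.app W (show Γ(Coh.structureModule Y, W) from t) = t • sv μ W := fun W t => by
    refine Eq.trans ?_ (μ.app_smul t (one Y W))
    exact congrArg _ (mul_one t).symm
  have htw : ∀ (W : Y.Opens) (t : Γ(Coh.structureModule Y, W)), tw σ j t = μ.app W t := fun W t => by
    rw [happ W t, hval, twist_eq (a := 1) (e := sv σ W) (one_smul _ _).symm, one_pow, one_smul,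
      ← pairM_id, ← pairM_id]
    exact (congrArg (fun z => pairM (𝟙 _) z (powSec (sv σ W) j))
      (show (show Γ(Coh.structureModule Y, W) from t) = (show Γ(Y, W) from t) • one Y W from
        (mul_one (show Γ(Y, W) from t)).symm)).trans (pairM_smul_left _ _ _ _)
  have hgen : IsGen Q G (sv μ G) := by
    rw [hval]
    exact isGen_tmul (isGen_one G) (isGen_powSec (Ample.Basis.isGen_genLocus σ) j)
  have hbij : ∀ W : Y.Opens, W ≤ G → Function.Bijective (μ.app W) := fun W hW => by
    have h := hgen W hW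
    rw [show ⇑(μ.app W) = fun a : Γ(Y, W) => a • rs Q hW (sv μ G) from
      funext fun t => (happ W t).trans (congrArg _ (rs_sv μ hW).symm)]
    exact h
  let F := stalkMapₗ ((Coh.push f).map μ) η
  have hF : Function.Bijective F := by
    refine ⟨(injective_iff_map_eq_zero _).2 fun w hw => ?_, fun w => ?_⟩
    · obtain ⟨W, hW, t, rfl⟩ := TopCat.Presheaf.exists_germ_eq (N f).presheaf w
      rw [stalkMapₗ_germ] at hw
      obtain ⟨W', hW', i₁, i₂, e⟩ := ((Coh.push f).obj Q).presheaf.germ_eq η hW hηV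
        (((Coh.push f).map μ).app W t) 0 (hw.trans (map_zero _).symm)
      rw [← ClSub.Basis.germ_map (show W' ≤ W from i₁.le) hW' t]
      refine (congrArg _ (?_ : (N f).presheaf.map (homOfLE i₁.le).op t = 0)).trans (map_zero _)
      refine (hbij (f ⁻¹ᵁ W') (((Opens.map f.base).monotone i₂.le).trans hVG)).1 ?_
      refine Eq.trans ?_ (map_zero _).symm
      have hn := ConcreteCategory.congr_hom
        (((Coh.push f).map μ).mapPresheaf.naturality (homOfLE i₁.le).op) t
      exact hn.trans (e.trans (map_zero _))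
    · obtain ⟨W, hW, t, rfl⟩ := TopCat.Presheaf.exists_germ_eq ((Coh.push f).obj Q).presheaf w
      obtain ⟨t', ht'⟩ := (hbij (f ⁻¹ᵁ (W ⊓ V))
        (((Opens.map f.base).monotone inf_le_right).trans hVG)).2
        (((Coh.push f).obj Q).presheaf.map (homOfLE (inf_le_left : W ⊓ V ≤ W)).op t)
      refine ⟨(N f).presheaf.germ (W ⊓ V) η ⟨hW, hηV⟩ t', ?_⟩
      rw [stalkMapₗ_germ, ← ClSub.Basis.germ_map (inf_le_left : W ⊓ V ≤ W) ⟨hW, hηV⟩ t]
      exact congrArg _ ht'
  let e := LinearEquiv.ofBijective F hF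
  have hgerm : ∀ i, ((Coh.push f).obj Q).presheaf.germ ⊤ η trivial (b i) = (v.map e) i := fun i => by
    rw [Module.Basis.map_apply, LinearEquiv.ofBijective_apply, ← hs i,
      ← ClSub.Basis.germ_map (inf_le_left.trans (hV'U i) : V ≤ U i) hηV (s i), stalkMapₗ_germ,
      ]
    refine (ClSub.Basis.germ_map (M := (Coh.push f).obj Q) (le_top : V ≤ ⊤) hηV (b i)).symm.trans ?_
    refine congrArg _ ?_
    show rs Q (le_top : f ⁻¹ᵁ V ≤ ⊤) (b i) = μ.app (f ⁻¹ᵁ V) _
    rw [← rs_rs Q (le_top : G ≤ ⊤) hVG, hb i, rs_twist, htw]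
    exact congrArg _ (rs_rs _ _ _ _)
  refine ⟨Q, _, b, hQ, ?_, ?_, ?_⟩
  · refine Module.finrank_pos_iff.2 ⟨(N f).presheaf.germ ⊤ η trivial (1 : Γ(Y, f ⁻¹ᵁ ⊤)), 0,
      fun h0 => ?_⟩
    obtain ⟨W, hηW, i₁, i₂, e⟩ := (N f).presheaf.germ_eq η (U := ⊤) (V := ⊤) trivial trivial
      (1 : Γ(Y, f ⁻¹ᵁ ⊤)) 0 (h0.trans (map_zero _).symm)
    haveI : Nonempty (f ⁻¹ᵁ W) := ⟨⟨ξ, show f ξ ∈ W from hξη.symm ▸ hηW⟩⟩
    change Y.presheaf.map _ (1 : Γ(Y, f ⁻¹ᵁ ⊤)) = Y.presheaf.map _ 0 at e
    have e1 : (1 : Γ(Y, f ⁻¹ᵁ W)) = 0 := ((map_one _).symm.trans e).trans (map_zero _)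
    exact one_ne_zero e1
  · rw [funext hgerm]
    exact (v.map e).linearIndependent
  · rw [funext hgerm]
    exact (v.map e).span_eq

end Groth.Agent.Lib.Exchange.FiniteAmple
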