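import Groth.Agent.H78.FormalFun.Induct
import Mathlib.RingTheory.Filtration

/-!
# Separatedness half of formal functions over a Zariski ring

A cohomology class vanishing modulo all powers of an ideal in the Jacobson radical vanishes.
-/

set_option linter.style.haveILetI false

universe u

open CategoryTheory Limits AlgebraicGeometry Opposite TopologicalSpace

namespace Groth.Agent.Lib.Exchange.FormalInj

open Groth.Agent.Lib Groth.Agent.H78.FormalFun Groth.Agent.H78.FormalFun.Basic
  Groth.Agent.H78.FormalFun.Induct
open Groth.Agent.H78.Formal.Principal (pr smulMod_mul mem_pow exists_eq)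

variable {A : Type u} [CommRing A] [IsNoetherianRing A] {X : Scheme.{u}}
  [X.Over (Spec (CommRingCat.of A))] {C : X.Modules → Prop} (hC : Good A C) [IsNoetherian X]

include hC

theorem eq_zero (J : Ideal A) (hJ : J ≤ Ideal.jacobson ⊥) : ∀ M : X.Modules, C M → ∀ (p : ℕ)
    (x : Coh.HH X M p),
    (∀ n, H (A := A) p (_root_.Formal.modPowπ J (n + 1) M) x = 0) → x = 0 := by
  obtain ⟨s, rfl⟩ := IsNoetherian.noetherian J
  classical
  induction s using Finset.induction_on with
  | empty =>
    rw [Finset.coe_empty, Submodule.span_empty]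
    exact fun M hM p => (ff_bot C M hM p).1
  | insert f s _ ih =>
    rw [Finset.coe_insert, Submodule.span_insert] at hJ ⊢
    rw [sup_comm] at hJ ⊢
    have ih' := ih (le_sup_left.trans hJ)
    intro M hM p x hx
    obtain ⟨N, hN⟩ := exists_mono (hC.coh hM) f
    haveI := hC.qfin hM p
    haveI : IsHausdorff (pr f) (Coh.HH X M p) :=
      IsHausdorff.of_le_jacobson (pr f) _ (le_sup_right.trans hJ)
    refine Principal.eq_zero_of_forall (f := f) (M := M) N p x fun m => ?_
    let Q := _root_.Formal.modPow (pr f) (m + 1) M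
    refine ih' Q (hC.modPow _ _ hM) p _ fun k => ?_
    let q := _root_.Formal.modPowπ (pr f) (m + 1) M ≫
      _root_.Formal.modPowπ (Ideal.span (s : Set A)) (k + 1) Q
    have hq : (Ideal.span (s : Set A) ⊔ pr f) ^ (k + m + 1 + 1) ≤ annHom q := by
      rw [show k + m + 1 + 1 = (k + 1) + (m + 1) by omega]
      refine (pow_le_sup _ _).trans (sup_le ?_ ?_)
      · exact (le_annHom_π _ (k + 1) Q).trans (annHom_le_comp' _ _)
      · exact (le_annHom_π (pr f) (m + 1) M).trans (annHom_le_comp _ _)
    obtain ⟨a, ha⟩ := exists_desc q hq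
    rw [← H_comp]
    refine (congrArg (fun φ => H (A := A) p φ x) ha.symm).trans ?_
    rw [H_comp, hx, map_zero]

end Groth.Agent.Lib.Exchange.FormalInj
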