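import Groth.Agent.Lib.Exchange.Span
import Groth.Agent.Lib.Exchange.BaseChange
import Groth.Agent.Lib.Exchange.Proper

/-!
# Lifting sections from a fibre
-/

set_option autoImplicit false
set_option linter.style.haveILetI false
set_option maxHeartbeats 1000000
universe u

open CategoryTheory Limits AlgebraicGeometry Opposite TopologicalSpace
open scoped TensorProduct

namespace ZarCoh.Exchange.SectionLift

open Groth.Agent.Lib ZarCoh.Exchange.Complex ZarCoh.FlatBC
open Groth.Agent.Lib.CechRes.Sec (rho secA resA toSec ofSec)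
open Groth.Agent.Lib.Cech.Complex (inter inter_le_face dC)

noncomputable section

section Gluing

variable {A : Type u} [CommRing A] {X : Scheme.{u}} [X.Over (Spec (CommRingCat.of A))]
  {ι : Type u} (U : ι → X.Opens) (F : X.Modules)

local notation "pX" => (X ↘ Spec (CommRingCat.of A))

theorem dA_zero_apply (c : CM A U F 0) (i : Fin (0 + 2) → ι) :
    (dC U (Coh.toAb F).obj 0 c i : Γ(F, inter U i)) =
      F.presheaf.map (homOfLE (inter_le_face U i 0)).op (ofSec pX (c (i ∘ Fin.succAbove 0))) -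
        F.presheaf.map (homOfLE (inter_le_face U i 1)).op (ofSec pX (c (i ∘ Fin.succAbove 1))) := by
  rw [Cech.Complex.dC_apply, Fin.sum_univ_two]
  simp only [Fin.val_zero, Fin.val_one, pow_zero, pow_one, one_smul, neg_smul, ← sub_eq_add_neg]
  rfl

theorem res_res {O₁ O₂ O₃ : X.Opens} (h : O₂ ≤ O₁) (h' : O₃ ≤ O₂) (m : Γ(F, O₁)) :
    F.presheaf.map (homOfLE h').op (F.presheaf.map (homOfLE h).op m) =
      F.presheaf.map (homOfLE (h'.trans h)).op m := by
  rw [← ConcreteCategory.comp_apply, ← Functor.map_comp]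
  rfl

/-- The restrictions of a global section. -/
def restrictions (t : Γ(F, ⊤)) : CM A U F 0 :=
  fun i => toSec pX (F.presheaf.map (homOfLE (le_top : inter U i ≤ ⊤)).op t)

theorem dA_restrictions (t : Γ(F, ⊤)) : dA A U F 0 (restrictions U F t) = 0 := by
  funext i
  rw [dA_eq, dA_zero_apply]
  show F.presheaf.map _ (F.presheaf.map _ t) - F.presheaf.map _ (F.presheaf.map _ t) = 0
  rw [res_res, res_res]
  exact sub_self _

theorem exists_eq_restrictions (hU : iSup U = ⊤) (c : CM A U F 0) (hc : dA A U F 0 c = 0) :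
    ∃ s : Γ(F, ⊤), restrictions U F s = c := by
  let W : ι → X.Opens := fun j => inter U (fun _ : Fin 1 => j)
  have hW : (⊤ : X.Opens) ≤ iSup W := hU ▸ iSup_mono fun j => le_iInf fun _ => le_rfl
  have key : ∀ (i i' : Fin 1 → ι) (O : X.Opens) (h : O ≤ inter U i) (h' : O ≤ inter U i'),
      F.presheaf.map (homOfLE h).op (ofSec pX (c i)) = F.presheaf.map (homOfLE h').op (ofSec pX (c i')) := by
    intro i i' O h h'
    let m : Fin 2 → ι := fun a => if a = 0 then i 0 else i' 0
    have h0 : F.presheaf.map (homOfLE (inter_le_face U m 0)).op (ofSec pX (c (m ∘ Fin.succAbove 0))) -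
        F.presheaf.map (homOfLE (inter_le_face U m 1)).op (ofSec pX (c (m ∘ Fin.succAbove 1))) =
          (0 : Γ(F, inter U m)) := by
      rw [← dA_zero_apply, ← dA_eq, hc]
      rfl
    have e0 : (fun a : Fin 2 => if a = 0 then i 0 else i' 0) ∘ Fin.succAbove 0 = i' := by
      funext a
      fin_cases a
      rfl
    have e1 : (fun a : Fin 2 => if a = 0 then i 0 else i' 0) ∘ Fin.succAbove 1 = i := by
      funext a
      fin_cases a
      rfl
    have hO : O ≤ inter U (fun a : Fin 2 => if a = 0 then i 0 else i' 0) := le_iInf fun a => by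
      fin_cases a
      · exact h.trans (Cech.Complex.inter_le U i 0)
      · exact h'.trans (Cech.Complex.inter_le U i' 0)
    have h1 := congrArg (F.presheaf.map (homOfLE hO).op) h0
    rw [map_sub, map_zero, sub_eq_zero, res_res, res_res] at h1
    have tr : ∀ (k k' : Fin 1 → ι) (e : k = k') (hk : O ≤ inter U k) (hk' : O ≤ inter U k'),
        F.presheaf.map (homOfLE hk).op (ofSec pX (c k)) = F.presheaf.map (homOfLE hk').op (ofSec pX (c k')) := by
      rintro k _ rfl _ _
      rfl
    exact ((tr _ _ e1 _ h).symm.trans h1.symm).trans (tr _ _ e0 _ h')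
  obtain ⟨s, hs, -⟩ := TopCat.Sheaf.existsUnique_gluing' (Coh.toAb F) W ⊤ (fun _ => homOfLE le_top) hW
    (fun j => ofSec pX (c fun _ => j)) fun i j => key _ _ _ inf_le_left inf_le_right
  refine ⟨s, funext fun i => ?_⟩
  have hi : i = fun _ => i 0 := funext fun a => congrArg i (Fin.fin_one_eq_zero a)
  rw [hi]
  exact hs (i 0)

end Gluing

section Lift

variable {A : Type u} [CommRing A] [IsNoetherianRing A] {X X' : Scheme.{u}}
  [X.Over (Spec (CommRingCat.of A))] [IsProper (X ↘ Spec (CommRingCat.of A))]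
  (x : PrimeSpectrum A) [X'.Over (Spec (CommRingCat.of x.asIdeal.ResidueField))] {g' : X' ⟶ X}
  (hsq : IsPullback g' (X' ↘ Spec (CommRingCat.of x.asIdeal.ResidueField))
    (X ↘ Spec (CommRingCat.of A))
    (Spec.map (CommRingCat.ofHom (algebraMap A x.asIdeal.ResidueField))))
  (F : X.Modules) (hF : Coh.IsCoh F)

local notation "pX" => (X ↘ Spec (CommRingCat.of A))
local notation "pX'" => (X' ↘ Spec (CommRingCat.of x.asIdeal.ResidueField))

include hsq hF in
/-- If `H^1` vanishes on the fibre then, up to a function not vanishing at the point, sections on the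
fibre are restrictions of sections. -/
theorem exists_lift (hfl : FlatMod.IsFlatOver pX F)
    (h1 : ∀ (P : ChainComplex (ModuleCat.{u} A) ℤ) (_ : ∀ i, Module.Finite A (P.X i))
      (_ : ∀ i, Module.Free A (P.X i))
      (_ : CohIII.TFun P (-((1 : ℕ) : ℤ)) ⋙ forget₂ (ModuleCat.{u} A) AddCommGrpCat.{u} ≅
        CohIII.tensorAFunctor A F ⋙ CohIII.HAb X 1), CohIII.dRank P (-((1 : ℕ) : ℤ)) x = 0)
    (t : Γ((Scheme.Modules.pullback g').obj F, ⊤)) :
    ∃ g, g ∉ x.asIdeal ∧ ∃ s : Γ(F, ⊤), PullbackSections.pbRes g' F le_top s =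
      (show Γ(X', ⊤) from Coh.toGlobal pX' (algebraMap A x.asIdeal.ResidueField g)) • t := by
  haveI : F.IsQuasicoherent := hF.1
  obtain ⟨b, P, -, hfin, hfree, -, hiso⟩ := Proper.exists_rep A F hF hfl
  obtain ⟨e⟩ := hiso 0
  obtain ⟨e₁⟩ := hiso 1
  have hd := h1 P hfin hfree e₁
  haveI : X.IsSeparated := ⟨by rw [← terminal.comp_from pX]; infer_instance⟩
  haveI : CompactSpace X := (quasiCompact_iff_compactSpace pX).mp inferInstance
  obtain ⟨S, hS, hcov⟩ :=
    isCompact_and_isOpen_iff_finite_and_eq_biUnion_affineOpens.mp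
      ⟨(isCompact_univ : IsCompact (Set.univ : Set X)), isOpen_univ⟩
  haveI := hS.to_subtype
  let U : S → X.Opens := fun i => i.1.1
  have hU : ∀ {q : ℕ} (i : Fin (q + 1) → S), IsAffineOpen (inter U i) := fun i =>
    IsAffineOpen.iInf fun a => (i a).1.2
  have hUtop : iSup U = ⊤ := by
    apply TopologicalSpace.Opens.ext
    rw [TopologicalSpace.Opens.coe_iSup, TopologicalSpace.Opens.coe_top, hcov]
    ext x
    simp
  obtain ⟨eC⟩ := Compare.nonempty_natIso A U F hU hUtop 0
  let k := x.asIdeal.ResidueField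
  let P' := (Scheme.Modules.pullback g').obj F
  let U' : S → X'.Opens := fun i => g' ⁻¹ᵁ U i
  letI : Module A (CM k U' P' 0) := Module.compHom _ (algebraMap A k)
  letI : Module A (CM k U' P' 1) := Module.compHom _ (algebraMap A k)
  haveI : IsScalarTower A k (CM k U' P' 0) := IsScalarTower.of_algebraMap_smul fun _ _ => rfl
  haveI : IsScalarTower A k (CM k U' P' 1) := IsScalarTower.of_algebraMap_smul fun _ _ => rfl
  let β : ∀ q, _ := fun q => BaseChange.betaM (A := A) (A' := k) (g' := g') F U q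
  let L0 := LinearMap.liftBaseChange k (R := A) (M := CM A U F 0) (N := CM k U' P' 0)
    { β 0 with map_smul' := BaseChange.betaM_smul hsq F U 0 }
  let L1 := LinearMap.liftBaseChange k (R := A) (M := CM A U F 1) (N := CM k U' P' 1)
    { β 1 with map_smul' := BaseChange.betaM_smul hsq F U 1 }
  have hL0 : Function.Bijective L0 := BaseChange.bijective_lift_betaM hsq F U hU 0
  have hL1 : Function.Bijective L1 := BaseChange.bijective_lift_betaM hsq F U hU 1
  have hcomm : ∀ v, dA k U' P' 0 (L0 v) = L1 ((dA A U F 0).lTensor k v) := fun v => by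
    induction v using TensorProduct.induction_on with
    | zero => simp only [map_zero]
    | tmul a c =>
      simp only [L0, L1, LinearMap.liftBaseChange_tmul, LinearMap.lTensor_tmul, map_smul]
      exact congrArg (a • ·) (BaseChange.betaM_dA F U 0 c)
    | add a b ha hb => simp only [map_add, ha, hb]
  obtain ⟨v, hv⟩ := hL0.2 (restrictions U' P' t)
  have hv0 : (dA A U F 0).lTensor k v = 0 := hL1.1 (by
    rw [← hcomm, hv, dA_restrictions, map_zero])
  let z : CM A U F 0 ⊗[A] k := TensorProduct.comm A k _ v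
  have hz : (dA A U F 0).rTensor k z = 0 := by
    have : ∀ v : k ⊗[A] CM A U F 0, (dA A U F 0).rTensor k (TensorProduct.comm A k _ v) =
        TensorProduct.comm A k _ ((dA A U F 0).lTensor k v) := fun v => by
      induction v using TensorProduct.induction_on with
      | zero => simp only [map_zero]
      | tmul a c => rfl
      | add a b ha hb => simp only [map_add, ha, hb]
    rw [this, hv0, map_zero]
  let K := ModuleCat.of A k
  let j : ModuleCat.of A A ⟶ K := ModuleCat.ofHom (Algebra.linearMap A k)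
  let TT : ∀ M : ModuleCat.{u} A,
      CohIII.T (C A U F) ((0 : ℕ) : ℤ) M ≃ₗ[A] CohIII.T P (-((0 : ℕ) : ℤ)) M := fun M =>
    (Main.linearEquivApp A F eC M).trans (Main.linearEquivApp A F e M).symm
  have hTT : ∀ η, TT K ((CohIII.TFun (C A U F) ((0 : ℕ) : ℤ)).map j η) =
      (CohIII.TFun P (-((0 : ℕ) : ℤ))).map j (TT (ModuleCat.of A A) η) := fun η => by
    show (Main.linearEquivApp A F e K).symm (Main.linearEquivApp A F eC K _) = _
    rw [LinearEquiv.symm_apply_eq]
    have h2 := ConcreteCategory.congr_hom (eC.hom.naturality j) η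
    have h3 := ConcreteCategory.congr_hom (e.hom.naturality j) (TT (ModuleCat.of A A) η)
    refine h2.trans (Eq.trans ?_ h3.symm)
    exact congrArg ((CohIII.tensorAFunctor A F ⋙ CohIII.HAb X 0).map j)
      ((Main.linearEquivApp A F e (ModuleCat.of A A)).apply_symm_apply _).symm
  have hn : (ComplexShape.up ℤ).next ((0 : ℕ) : ℤ) = ((0 + 1 : ℕ) : ℤ) := FlatCx.Above.next_up rfl
  have hzc : ((CohIII.tensorObj (C A U F) K).d ((0 : ℕ) : ℤ) ((0 + 1 : ℕ) : ℤ)).hom z = 0 := by
    show ((C A U F).d ((0 : ℕ) : ℤ) ((0 + 1 : ℕ) : ℤ)).hom.rTensor k z = 0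
    rw [C_d]
    exact hz
  let ξ : CohIII.T (C A U F) ((0 : ℕ) : ℤ) K :=
    FlatCx.Elem.cls (K := CohIII.tensorObj (C A U F) K) hn ⟨z, hzc⟩
  -- the class in the finite free complex
  have hnP : (ComplexShape.down ℤ).next (-((0 : ℕ) : ℤ)) = -((1 : ℕ) : ℤ) := FlatCx.Basic.next_eq (by simp)
  obtain ⟨⟨w, hw⟩, hwξ⟩ := FlatCx.Elem.cls_surjective (K := CohIII.tensorObj P K) hnP (TT K ξ)
  obtain ⟨g, hg, c, hc, hgc⟩ := Span.exists_cycle P (fun i => ⟨hfin i, hfree i⟩) (-((0 : ℕ) : ℤ))
    (-((1 : ℕ) : ℤ)) (-((1 : ℕ) : ℤ) - 1) (by simp) (by omega) x hd w hw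
  have hcA : ((CohIII.tensorObj P (ModuleCat.of A A)).d (-((0 : ℕ) : ℤ)) (-((1 : ℕ) : ℤ))).hom
      (c ⊗ₜ[A] (1 : A)) = 0 := by
    show (FlatCx.Basic.D P _ _).rTensor A (c ⊗ₜ[A] (1 : A)) = 0
    rw [LinearMap.rTensor_tmul, hc, TensorProduct.zero_tmul]
  let η := FlatCx.Elem.cls (K := CohIII.tensorObj P (ModuleCat.of A A)) hnP ⟨c ⊗ₜ[A] (1 : A), hcA⟩
  have hmap : (CohIII.TFun P (-((0 : ℕ) : ℤ))).map j η = g • TT K ξ := by
    rw [← hwξ, ← map_smul]
    refine FlatCx.Elem.homologyMap_cls (CohIII.tensorMap P j) hnP _ _ ?_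
    show c ⊗ₜ[A] algebraMap A k 1 = g • w
    rw [map_one]
    exact hgc.symm
  obtain ⟨η', hη'⟩ : ∃ η', TT (ModuleCat.of A A) η' = η := (TT _).surjective η
  rw [← hη', ← hTT, ← map_smul] at hmap
  replace hmap := (TT K).injective hmap
  obtain ⟨⟨u, hu⟩, rfl⟩ :=
    FlatCx.Elem.cls_surjective (K := CohIII.tensorObj (C A U F) (ModuleCat.of A A)) hn η'
  let c₀ : CM A U F 0 := TensorProduct.rid A (CM A U F 0) u
  have hu' : u = c₀ ⊗ₜ[A] (1 : A) := ((TensorProduct.rid A _).symm_apply_apply u).symm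
  have hc₀ : dA A U F 0 c₀ = 0 := by
    have hu2 : ((C A U F).d ((0 : ℕ) : ℤ) ((0 + 1 : ℕ) : ℤ)).hom.rTensor A u = 0 := hu
    rw [C_d, hu'] at hu2
    exact (TensorProduct.rid A (CM A U F 1)).symm.injective (hu2.trans (map_zero _).symm)
  have huz : c₀ ⊗ₜ[A] (1 : k) = g • z := by
    have hmap' : HomologicalComplex.homologyMap (CohIII.tensorMap (C A U F) j) ((0 : ℕ) : ℤ)
        (FlatCx.Elem.cls (K := CohIII.tensorObj (C A U F) (ModuleCat.of A A)) hn ⟨u, hu⟩) = g • ξ := hmap
    rw [FlatCx.Elem.homologyMap_cls (CohIII.tensorMap (C A U F) j) hn ⟨u, hu⟩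
      ⟨((CohIII.tensorMap (C A U F) j).f ((0 : ℕ) : ℤ)).hom u, by
        show ((CohIII.tensorMap (C A U F) j).f ((0 : ℕ) : ℤ) ≫
          (CohIII.tensorObj (C A U F) K).d ((0 : ℕ) : ℤ) ((0 + 1 : ℕ) : ℤ)).hom u = 0
        rw [(CohIII.tensorMap (C A U F) j).comm]
        exact (congrArg _ hu).trans (map_zero _)⟩ rfl] at hmap'
    rw [← sub_eq_zero] at hmap'
    change FlatCx.Elem.cls _ _ - g • FlatCx.Elem.cls _ _ = 0 at hmap'
    rw [← map_smul, ← map_sub, FlatCx.Elem.cls_eq_zero_iff (FlatCx.Above.prev_up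
      (show (-1 : ℤ) + 1 = ((0 : ℕ) : ℤ) by simp)) hn] at hmap'
    obtain ⟨y, hy⟩ := hmap'
    haveI : Subsingleton ((CohIII.tensorObj (C A U F) K).X (-1)) :=
      ModuleCat.subsingleton_of_isZero
        ((MonoidalCategory.tensorRight K).map_isZero (isZero_C A U F (-1) (by simp)))
    rw [Subsingleton.elim y 0, map_zero, eq_comm] at hy
    have hy' : j.hom.lTensor (CM A U F 0) u - g • z = 0 := hy
    rw [hu', LinearMap.lTensor_tmul, sub_eq_zero] at hy'
    refine Eq.trans ?_ hy'
    congr 1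
    exact (map_one (algebraMap A k)).symm
  obtain ⟨s, hs⟩ := exists_eq_restrictions U F hUtop c₀ hc₀
  refine ⟨g, hg, s, ?_⟩
  have hβ : β 0 c₀ = algebraMap A k g • restrictions U' P' t := by
    have h4 := congrArg (fun y => L0 (TensorProduct.comm A _ k y)) huz
    simp only [map_smul, z, TensorProduct.comm_tmul, L0, LinearMap.liftBaseChange_tmul, one_smul] at h4
    have h5 : TensorProduct.comm A (CM A U F 0) k (TensorProduct.comm A k (CM A U F 0) v) = v :=
      (TensorProduct.comm A k (CM A U F 0)).symm_apply_apply v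
    rw [h5] at h4
    refine h4.trans ?_
    rw [← algebraMap_smul k g v]
    change L0 _ = _
    rw [map_smul, hv]
  refine TopCat.Sheaf.eq_of_locally_eq' (Coh.toAb P') (fun i => inter U' fun _ : Fin 1 => i) ⊤
    (fun _ => homOfLE le_top) ?_ _ _ fun i => ?_
  · intro y _
    have hy : g' y ∈ iSup U := hUtop ▸ trivial
    obtain ⟨i, hi⟩ := Opens.mem_iSup.1 hy
    refine Opens.mem_iSup.2 ⟨i, ?_⟩
    exact (BaseChange.inter_preimage (g' := g') U fun _ : Fin 1 => i).symm ▸
      (show g' y ∈ inter U fun _ : Fin 1 => i from (le_iInf fun _ => le_rfl : U i ≤ _) hi)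
  · have hi := congrFun hβ fun _ => i
    rw [← hs] at hi
    refine Eq.trans (BaseChange.pbRes_res F le_top le_top le_top
      (BaseChange.inter_preimage U fun _ => i).le s) (hi.trans ?_)
    refine Eq.trans ?_ (P'.map_smul (homOfLE le_top) _ t).symm
    rfl

end Lift

end

end ZarCoh.Exchange.SectionLift
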