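import Groth.Agent.Lib.Exchange.HomPullback
import Groth.Agent.Lib.Exchange.SectionLift
import Groth.Agent.Lib.Exchange.Fibre
import Groth.Agent.Lib.Exchange.NearFibre
import Groth.Agent.H78.Faithful.HomLocFree
import Groth.Agent.H46.FiberStalk
import Groth.Agent.Lib.LocalFlat.InjMod
import Groth.Agent.Lib.StalkLoc.Basic
import Groth.Agent.Lib.TensorMod.HomGlue
import Groth.Agent.Lib.Curves.LES

/-!
# Lifting morphisms from a fibre
-/

set_option autoImplicit false
set_option linter.style.haveILetI false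
universe u

open CategoryTheory AlgebraicGeometry Opposite TopologicalSpace
open scoped TensorProduct

namespace ZarCoh.Exchange.HomLift

open Groth.Agent.Lib Groth.Agent.Lib.Modules ZarCoh.FlatBC
open Groth.Agent.Lib.TensorMod.Dual Groth.Agent.Lib.RefHull.SecHom
open ZarCoh.Exchange.HomPullback

noncomputable section

section Lift

variable {A : Type u} [CommRing A] [IsNoetherianRing A] {X X' : Scheme.{u}}
  [X.Over (Spec (CommRingCat.of A))] [IsProper (X ↘ Spec (CommRingCat.of A))]
  [Flat (X ↘ Spec (CommRingCat.of A))]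
  (x : PrimeSpectrum A) [X'.Over (Spec (CommRingCat.of x.asIdeal.ResidueField))] {g' : X' ⟶ X}
  (hsq : IsPullback g' (X' ↘ Spec (CommRingCat.of x.asIdeal.ResidueField))
    (X ↘ Spec (CommRingCat.of A))
    (Spec.map (CommRingCat.ofHom (algebraMap A x.asIdeal.ResidueField))))
  {F G : X.Modules}

local notation "pX" => (X ↘ Spec (CommRingCat.of A))
local notation "pX'" => (X' ↘ Spec (CommRingCat.of x.asIdeal.ResidueField))

include hsq in
/-- A morphism on the fibre is, up to a function not vanishing at the point, the restriction of a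
morphism. -/
theorem exists_section (hF : FlatMod.IsFinLocFree F) (hG : FlatMod.IsFinLocFree G)
    (h1 : Subsingleton (Coh.HH X' (_root_.RefHull.homSh ((Scheme.Modules.pullback g').obj F)
      ((Scheme.Modules.pullback g').obj G)) 1))
    (u₀ : (Scheme.Modules.pullback g').obj F ⟶ (Scheme.Modules.pullback g').obj G) :
    ∃ a, a ∉ x.asIdeal ∧ ∃ s : Γ(_root_.RefHull.homSh F G, ⊤), ∀ z : X',
      bc g' z (s.1 ⟨g' z, trivial⟩) =
        X'.presheaf.germ ⊤ z trivial (Coh.toGlobal pX' (algebraMap A x.asIdeal.ResidueField a)) •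
          StalkModule.stalkMapₗ u₀ z := by
  haveI : IsLocallyNoetherian X := LocallyOfFiniteType.isLocallyNoetherian pX
  haveI : IsProper pX' := MorphismProperty.of_isPullback hsq inferInstance
  haveI : IsLocallyNoetherian X' := LocallyOfFiniteType.isLocallyNoetherian pX'
  let H := _root_.RefHull.homSh F G
  have hH : FlatMod.IsFinLocFree H := Groth.Agent.H78.Faithful.HomLocFree.isFinLocFree_homSh hF hG
  have hHc : Coh.IsCoh H := Perfect.Coherent.isCoh_of_isFinLocFree hH
  have hfl := NearFibre.isFlatOver_of_isFinLocFree pX hH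
  haveI : H.IsQuasicoherent := hHc.1
  haveI := isIso_theta g' hF hG
  let t := (inv (theta g' F G)).app ⊤ (_root_.RefHull.ofHom u₀ ⊤)
  obtain ⟨a, ha, s, hs⟩ := SectionLift.exists_lift x hsq H hHc hfl (fun P _ _ e₁ => by
    obtain ⟨E⟩ := Fibre.nonempty_linearEquiv (A' := x.asIdeal.ResidueField) hsq H e₁
    haveI := h1
    haveI : Subsingleton (Coh.HH X' ((Scheme.Modules.pullback g').obj H) 1) :=
      (Curves.LES.isoK x.asIdeal.ResidueField (asIso (theta g' F G)) 1).injective.subsingleton
    refine Eq.trans ?_ (Module.finrank_zero_of_subsingleton (R := x.asIdeal.ResidueField)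
      (M := Coh.HH X' ((Scheme.Modules.pullback g').obj H) 1))
    exact E.finrank_eq.symm) t
  refine ⟨a, ha, s, fun z => ?_⟩
  have h2 := congrArg ((theta g' F G).app ⊤) hs
  rw [Scheme.Modules.Hom.app_smul] at h2
  have h3 : (theta g' F G).app ⊤ t = _root_.RefHull.ofHom u₀ ⊤ :=
    congrArg (fun φ : _root_.RefHull.homSh ((Scheme.Modules.pullback g').obj F)
        ((Scheme.Modules.pullback g').obj G) ⟶ _root_.RefHull.homSh ((Scheme.Modules.pullback g').obj F)
        ((Scheme.Modules.pullback g').obj G) => φ.app ⊤ (_root_.RefHull.ofHom u₀ ⊤))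
      (IsIso.inv_hom_id (theta g' F G))
  have h4 : (theta g' F G).app ⊤ (PullbackSections.pbRes g' H le_top s) = bcSec g' s := by
    refine (TensorMod.HomGlue.rs_app (theta g' F G) le_top _).symm.trans ?_
    exact (congrArg (rs _ le_top) (theta_unit g' s)).trans (rs_self _ _ _)
  rw [h3, h4] at h2
  refine (congrArg (fun w : Γ(_root_.RefHull.homSh _ _, ⊤) => w.1 ⟨z, trivial⟩) h2).trans ?_
  rfl

include hsq in
/-- Over a local base the morphism on the closed fibre lifts. -/
theorem exists_hom_of_isUnit (hF : FlatMod.IsFinLocFree F) (hG : FlatMod.IsFinLocFree G)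
    (h1 : Subsingleton (Coh.HH X' (_root_.RefHull.homSh ((Scheme.Modules.pullback g').obj F)
      ((Scheme.Modules.pullback g').obj G)) 1))
    (hu : ∀ a, a ∉ x.asIdeal → IsUnit a)
    (u₀ : (Scheme.Modules.pullback g').obj F ⟶ (Scheme.Modules.pullback g').obj G) :
    ∃ u : F ⟶ G, (Scheme.Modules.pullback g').map u = u₀ := by
  obtain ⟨a, ha, s, hs⟩ := exists_section x hsq hF hG h1 u₀
  obtain ⟨b, hb⟩ := (hu a ha).exists_left_inv
  refine ⟨RefHull.Colim.toHom ((show Γ(X, ⊤) from Coh.toGlobal pX b) • s),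
    StalkModule.hom_ext_stalkMapₗ fun z => ?_⟩
  rw [← bc_stalkMap]
  have h : StalkModule.stalkMapₗ (RefHull.Colim.toHom ((show Γ(X, ⊤) from Coh.toGlobal pX b) • s)) (g' z) =
      X.presheaf.germ ⊤ (g' z) trivial (Coh.toGlobal pX b) • s.1 ⟨g' z, trivial⟩ :=
    RefHull.Colim.stalkMap_toHom _ (g' z)
  rw [h, bc_smul, hs, smul_smul]
  refine Eq.trans (congrArg (· • _) ?_) (one_smul _ _)
  have h5 : (g'.stalkMap z).hom (X.presheaf.germ ⊤ (g' z) trivial (Coh.toGlobal pX b)) =
      X'.presheaf.germ ⊤ z trivial (Coh.toGlobal pX' (algebraMap A x.asIdeal.ResidueField b)) := by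
    refine (Scheme.Hom.germ_stalkMap_apply g' ⊤ z trivial _).trans (congrArg _ ?_)
    exact (Main.toGlobal_comm hsq b).symm
  rw [h5]
  refine (map_mul (X'.presheaf.germ ⊤ z trivial).hom _ _).symm.trans ?_
  refine (congrArg _ (map_mul (Coh.toGlobal pX') _ _).symm).trans ?_
  rw [← map_mul (algebraMap A x.asIdeal.ResidueField), hb, map_one, map_one]
  exact map_one _

end Lift

section Stalk

variable {X Z : Scheme.{u}} (i : Z ⟶ X) {M N : X.Modules} (z : Z)

theorem mem_of_pl_eq_zero (hs : Function.Surjective (i.stalkMap z).hom)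
    {n : N.presheaf.stalk (i z)} (h : pl i N z n = 0) :
    n ∈ RingHom.ker (i.stalkMap z).hom • (⊤ : Submodule (X.presheaf.stalk (i z)) _) := by
  letI : Algebra (X.presheaf.stalk (i z)) (Z.presheaf.stalk z) := (i.stalkMap z).hom.toAlgebra
  let e : (X.presheaf.stalk (i z) ⧸ RingHom.ker (i.stalkMap z).hom) ≃ₐ[X.presheaf.stalk (i z)]
      Z.presheaf.stalk z :=
    Ideal.quotientKerAlgEquivOfSurjective (f := Algebra.ofId (X.presheaf.stalk (i z)) (Z.presheaf.stalk z)) hs
  refine LocalFlat.InjMod.mem_smul_of_mkQ_rTensor_eq_zero _ ?_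
  have h1 : (1 : Z.presheaf.stalk z) ⊗ₜ[X.presheaf.stalk (i z)] n = 0 := (stalkEquiv i N z).injective
    (by rw [stalkEquiv_tmul, one_smul, h, map_zero])
  have h2 := congrArg (e.symm.toLinearMap.rTensor (N.presheaf.stalk (i z))) h1
  rw [LinearMap.rTensor_tmul, map_zero] at h2
  rwa [show e.symm.toLinearMap 1 = 1 from map_one e.symm] at h2

theorem surjective_of_bc (hs : Function.Surjective (i.stalkMap z).hom)
    [Module.Finite (X.presheaf.stalk (i z)) (N.presheaf.stalk (i z))]
    (g : RefHull.StalkHom M N (i z)) (hg : Function.Surjective (bc i z g)) :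
    Function.Surjective g := by
  letI : Algebra (X.presheaf.stalk (i z)) (Z.presheaf.stalk z) := (i.stalkMap z).hom.toAlgebra
  rw [← LinearMap.range_eq_top]
  refine top_le_iff.1 (Submodule.le_of_le_smul_of_le_jacobson_bot (I := RingHom.ker (i.stalkMap z).hom)
    Module.Finite.fg_top ?_ ?_)
  · rw [IsLocalRing.jacobson_eq_maximalIdeal ⊥ bot_ne_top]
    exact IsLocalRing.le_maximalIdeal (RingHom.ker_ne_top _)
  · intro n _
    obtain ⟨v, hv⟩ := hg (pl i N z n)
    obtain ⟨t, rfl⟩ := (stalkEquiv i M z).surjective v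
    obtain ⟨m, rfl⟩ : ∃ m, t = (1 : Z.presheaf.stalk z) ⊗ₜ[X.presheaf.stalk (i z)] m := by
      clear hv
      induction t using TensorProduct.induction_on with
      | zero => exact ⟨0, (TensorProduct.tmul_zero _ _).symm⟩
      | add s t hs ht =>
        obtain ⟨a, rfl⟩ := hs
        obtain ⟨b, rfl⟩ := ht
        exact ⟨a + b, (TensorProduct.tmul_add _ _ _).symm⟩
      | tmul c m =>
        obtain ⟨r, rfl⟩ := hs c
        refine ⟨r • m, ?_⟩
        rw [← TensorProduct.smul_tmul, Algebra.smul_def, mul_one]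
        rfl
    rw [stalkEquiv_tmul, one_smul, bc_pl] at hv
    have h := mem_of_pl_eq_zero i z hs (n := n - g m) (by rw [map_sub, hv, sub_self])
    rw [← add_sub_cancel (g m) n]
    exact Submodule.add_mem_sup ⟨m, rfl⟩ h

end Stalk

section Fibre

variable {X S : Scheme.{u}} (f : X ⟶ S) (y : S) (z : f.fiber y) {M N : X.Modules}

theorem injective_of_bc [IsLocallyNoetherian X]
    (hN : FlatMod.IsFlatOver f N) [Module.Finite (X.presheaf.stalk (f.fiberι y z)) (M.presheaf.stalk (f.fiberι y z))]
    (g : RefHull.StalkHom M N (f.fiberι y z)) (hg : Function.Injective (bc (f.fiberι y) z g)) :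
    Function.Injective g := by
  let x := f.fiberι y z
  let R := S.presheaf.stalk (f x)
  let B := X.presheaf.stalk x
  letI : Algebra R B := (f.stalkMap x).hom.toAlgebra
  haveI : IsLocalHom (algebraMap R B) := inferInstanceAs (IsLocalHom (f.stalkMap x).hom)
  letI : Module R (M.presheaf.stalk x) := FlatMod.moduleStalkOver f M x
  letI : Module R (N.presheaf.stalk x) := FlatMod.moduleStalkOver f N x
  haveI : IsScalarTower R B (M.presheaf.stalk x) := IsScalarTower.of_algebraMap_smul fun _ _ => rfl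
  haveI : IsScalarTower R B (N.presheaf.stalk x) := IsScalarTower.of_algebraMap_smul fun _ _ => rfl
  haveI : Module.Flat R (N.presheaf.stalk x) := hN x
  refine LocalFlat.InjMod.injective_of_injective_mod (g.restrictScalars R) ?_ B
  rw [injective_iff_map_eq_zero]
  intro v hv
  obtain ⟨m, rfl⟩ : ∃ m, v = (1 : IsLocalRing.ResidueField R) ⊗ₜ[R] m := by
    clear hv
    induction v using TensorProduct.induction_on with
    | zero => exact ⟨0, (TensorProduct.tmul_zero _ _).symm⟩
    | add s t hs ht =>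
      obtain ⟨a, rfl⟩ := hs
      obtain ⟨b, rfl⟩ := ht
      exact ⟨a + b, (TensorProduct.tmul_add _ _ _).symm⟩
    | tmul c m =>
      obtain ⟨r, rfl⟩ := IsLocalRing.residue_surjective c
      refine ⟨r • m, ?_⟩
      rw [← TensorProduct.smul_tmul, Algebra.smul_def, mul_one]
      rfl
  have hk : RingHom.ker ((f.fiberι y).stalkMap z).hom = (IsLocalRing.maximalIdeal R).map (algebraMap R B) :=
    Groth.Agent.H46.FiberStalk.ker_stalkMap_fiberι f y z
  have hle : ∀ w ∈ (IsLocalRing.maximalIdeal R • ⊤ :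
      Submodule R (N.presheaf.stalk x)), pl (f.fiberι y) N z w = 0 := fun w hw => by
    refine Submodule.smul_induction_on hw (fun r hr n _ => ?_) fun a b ha hb =>
      (map_add (pl (f.fiberι y) N z) a b).trans (by rw [ha, hb, add_zero])
    show pl (f.fiberι y) N z ((algebraMap R B r) • n) = 0
    have : algebraMap R B r ∈ RingHom.ker ((f.fiberι y).stalkMap z).hom :=
      hk ▸ Ideal.mem_map_of_mem _ hr
    rw [pl_smul, RingHom.mem_ker.1 this, zero_smul]
  have h1 : g m ∈ (IsLocalRing.maximalIdeal R • ⊤ : Submodule R (N.presheaf.stalk x)) :=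
    LocalFlat.InjMod.mem_smul_of_mkQ_rTensor_eq_zero _ hv
  have h2 : pl (f.fiberι y) M z m = 0 := hg (by rw [map_zero, bc_pl]; exact hle _ h1)
  have h3 := mem_of_pl_eq_zero (f.fiberι y) z ((f.fiberι y).stalkMap_surjective z) h2
  rw [hk] at h3
  have h4 : m ∈ (IsLocalRing.maximalIdeal R • ⊤ : Submodule R (M.presheaf.stalk x)) :=
    (Ideal.smul_restrictScalars (IsLocalRing.maximalIdeal R) (⊤ : Submodule B (M.presheaf.stalk x))).le h3
  exact Submodule.smul_induction_on h4 (fun r hr n _ => by
    rw [← TensorProduct.smul_tmul, Algebra.smul_def, mul_one]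
    exact (congrArg (· ⊗ₜ[R] n) ((IsLocalRing.residue_eq_zero_iff r).2 hr)).trans (TensorProduct.zero_tmul _ _))
    fun a b ha hb => by rw [TensorProduct.tmul_add, ha, hb, add_zero]

end Fibre

section Generize

variable {X : Scheme.{u}} {M N : X.Modules} [M.IsQuasicoherent] [N.IsQuasicoherent] (φ : M ⟶ N)
  {x z : X} (h : x ⤳ z)

include h in
theorem injective_of_specializes (hz : Function.Injective (StalkModule.stalkMapₗ φ z)) :
    Function.Injective (StalkModule.stalkMapₗ φ x) := by
  obtain ⟨U, hU, hzU, -⟩ := exists_isAffineOpen_mem_and_subset (X := X) (x := z) (U := ⊤) trivial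
  have hxU : x ∈ U := h.mem_open U.2 hzU
  rw [injective_iff_map_eq_zero]
  intro v hv
  obtain ⟨r, t, hr, e⟩ := StalkLoc.Basic.exists_smul_eq_germ hU hxU v
  have hu : IsUnit (X.presheaf.germ U x hxU r) := (X.mem_basicOpen r x hxU).mp hr
  have h1 := congrArg (StalkModule.stalkMapₗ φ x) e
  rw [map_smul, hv, smul_zero, StalkModule.stalkMapₗ_germ] at h1
  obtain ⟨n, hxn, hn⟩ := (StalkLoc.Basic.germ_eq_zero_iff (M := N) hU hxU (φ.app U t)).1
    (h1.symm)
  have ht : (X.presheaf.germ U z hzU n) • M.presheaf.germ U z hzU t = 0 := hz (by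
    rw [map_zero, map_smul, StalkModule.stalkMapₗ_germ, ← StalkModule.germ_smul, hn, map_zero])
  rw [← StalkModule.germ_smul] at ht
  have ht' : M.presheaf.germ U x hxU (n • t) = 0 := by
    have := congrArg (M.presheaf.stalkSpecializes h) ht
    rw [TopCat.Presheaf.germ_stalkSpecializes_apply, map_zero] at this
    exact this
  rw [StalkModule.germ_smul, ← e, smul_smul] at ht'
  exact (((X.mem_basicOpen n x hxU).mp hxn).mul hu).smul_left_cancel.1 (ht'.trans (smul_zero _).symm)

omit [M.IsQuasicoherent] in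
include h in
theorem surjective_of_specializes (hz : Function.Surjective (StalkModule.stalkMapₗ φ z)) :
    Function.Surjective (StalkModule.stalkMapₗ φ x) := by
  obtain ⟨U, hU, hzU, -⟩ := exists_isAffineOpen_mem_and_subset (X := X) (x := z) (U := ⊤) trivial
  have hxU : x ∈ U := h.mem_open U.2 hzU
  intro v
  obtain ⟨r, t, hr, e⟩ := StalkLoc.Basic.exists_smul_eq_germ hU hxU v
  obtain ⟨w, hw⟩ := hz (N.presheaf.germ U z hzU t)
  obtain ⟨V, hzV, m, rfl⟩ := TopCat.Presheaf.exists_germ_eq M.presheaf w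
  rw [StalkModule.stalkMapₗ_germ] at hw
  have h1 := congrArg (N.presheaf.stalkSpecializes h) hw
  rw [TopCat.Presheaf.germ_stalkSpecializes_apply, TopCat.Presheaf.germ_stalkSpecializes_apply] at h1
  obtain ⟨c, hc⟩ := ((X.mem_basicOpen r x hxU).mp hr).exists_left_inv
  refine ⟨c • M.presheaf.germ V x (h.mem_open V.2 hzV) m, ?_⟩
  rw [map_smul, StalkModule.stalkMapₗ_germ, h1, ← e, smul_smul, hc, one_smul]

end Generize

end

end ZarCoh.Exchange.HomLift
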