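import Groth.Agent.Lib.Exchange.HomLift
import Groth.Agent.Lib.Exchange.LocalRep
import Groth.Agent.Lib.RefHull.Open
import Groth.Agent.Lib.TensorMod.FibreTriv

/-!
# Finite locally free modules isomorphic on a fibre are isomorphic near it
-/

set_option autoImplicit false
set_option linter.style.haveILetI false
universe u

open CategoryTheory Limits AlgebraicGeometry Opposite TopologicalSpace

namespace ZarCoh.Exchange.HomNear

open Groth.Agent.Lib Groth.Agent.Lib.Modules ZarCoh.Exchange.Local ZarCoh.Exchange.HomPullback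
open Groth.Agent.Lib.TensorMod

noncomputable section

theorem bijective_bc {X Z : Scheme.{u}} (i : Z ⟶ X) {M N : X.Modules} (z : Z)
    (g : RefHull.StalkHom M N (i z)) (hg : Function.Bijective g) :
    Function.Bijective (bc i z g) := by
  let e := LinearEquiv.ofBijective g hg
  have h1 : (bc i z e.symm.toLinearMap).comp (bc i z g) = LinearMap.id := hom_ext i fun m => by
    rw [LinearMap.comp_apply, bc_pl, bc_pl, LinearMap.id_apply]
    exact congrArg _ (e.symm_apply_apply m)
  have h2 : (bc i z g).comp (bc i z e.symm.toLinearMap) = LinearMap.id := hom_ext i fun m => by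
    rw [LinearMap.comp_apply, bc_pl, bc_pl, LinearMap.id_apply]
    exact congrArg _ (e.apply_symm_apply m)
  exact ⟨Function.LeftInverse.injective (g := bc i z e.symm.toLinearMap) (LinearMap.congr_fun h1),
    Function.RightInverse.surjective (g := bc i z e.symm.toLinearMap) (LinearMap.congr_fun h2)⟩

theorem exists_iso_near {X Y : Scheme.{u}} (f : X ⟶ Y) [IsProper f] [Flat f]
    [IsLocallyNoetherian Y] (y : Y) (F G : X.Modules) (hF : FlatMod.IsFinLocFree F)
    (hG : FlatMod.IsFinLocFree G) [DCoh.HasSheafHom (CohIII.fiberMod f F y)]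
    (h1 : Subsingleton (Coh.HH (f.fiber y)
      ((DCoh.sheafHom (CohIII.fiberMod f F y)).obj (CohIII.fiberMod f F y)) 1))
    (hy : Nonempty (CohIII.fiberMod f F y ≅ CohIII.fiberMod f G y)) :
    ∃ U : Y.Opens, y ∈ U ∧ Nonempty (F.restrict (f ⁻¹ᵁ U).ι ≅ G.restrict (f ⁻¹ᵁ U).ι) := by
  obtain ⟨φ⟩ := hy
  obtain ⟨V, hV, hyV, -⟩ := exists_isAffineOpen_mem_and_subset (U := ⊤) (x := y) trivial
  haveI : IsAffine (V : Scheme.{u}) := hV
  let x : PrimeSpectrum (AV V) := (V : Scheme.{u}).isoSpec.hom ⟨y, hyV⟩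
  have hk : LocalRep.k V x = y := by
    show ((V : Scheme.{u}).isoSpec.hom ≫ (V : Scheme.{u}).isoSpec.inv ≫ V.ι) ⟨y, hyV⟩ = y
    rw [Iso.hom_inv_id_assoc]
    rfl
  clear_value x
  subst hk
  haveI : IsLocallyNoetherian X := LocallyOfFiniteType.isLocallyNoetherian f
  let k := LocalRep.k V
  let y := k x
  let K := x.asIdeal.ResidueField
  let θ : Y.residueField y ≅ CommRingCat.of K :=
    asIso (k.residueFieldMap x) ≪≫ Scheme.Spec.residueFieldIso (CommRingCat.of (AV V)) x
  have hθ : Spec.map θ.hom ≫ Y.fromSpecResidueField y =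
      Spec.map (CommRingCat.ofHom (algebraMap (AV V) K)) ≫ k := by
    rw [Iso.trans_hom, asIso_hom, Spec.map_comp, Category.assoc,
      Scheme.Hom.SpecMap_residueFieldMap_fromSpecResidueField, ← Category.assoc]
    congr 1
    rw [← Scheme.Spec.map_residueFieldIso_inv_eq_fromSpecResidueField, ← Category.assoc,
      ← Spec.map_comp, Iso.inv_hom_id, Spec.map_id, Category.id_comp]
  letI : (f.fiber y).Over (Spec (CommRingCat.of K)) :=
    ⟨f.fiberToSpecResidueField y ≫ Spec.map θ.inv⟩
  have hR := LocalRep.isPullback_k f V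
  have hbig : IsPullback (f.fiberι y) (f.fiber y ↘ Spec (CommRingCat.of K)) f
      (Spec.map (CommRingCat.ofHom (algebraMap (AV V) K)) ≫ k) := by
    refine IsPullback.of_iso (IsPullback.of_hasPullback f (Y.fromSpecResidueField y))
      (Iso.refl _) (Iso.refl _) (asIso (Spec.map θ.inv)) (Iso.refl _) ?_ ?_ ?_ ?_
    · exact (Category.comp_id _).trans (Category.id_comp _).symm
    · exact (Category.id_comp _).symm
    · exact (Category.comp_id _).trans (Category.id_comp _).symm
    · rw [Iso.refl_hom, Category.comp_id, asIso_hom, ← hθ, ← Category.assoc, ← Spec.map_comp,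
        Iso.hom_inv_id, Spec.map_id, Category.id_comp]
  let g' : f.fiber y ⟶ XV f V := hR.lift (f.fiberι y)
    ((f.fiber y ↘ Spec (CommRingCat.of K)) ≫ Spec.map (CommRingCat.ofHom (algebraMap (AV V) K)))
    (by rw [Category.assoc]; exact hbig.w)
  have hg : g' ≫ (f ⁻¹ᵁ V).ι = f.fiberι y := hR.lift_fst _ _ _
  have hsq : IsPullback g' (f.fiber y ↘ Spec (CommRingCat.of K))
      (XV f V ↘ Spec (CommRingCat.of (AV V)))
      (Spec.map (CommRingCat.ofHom (algebraMap (AV V) K))) :=
    IsPullback.of_right (hg.symm ▸ hbig) (hR.lift_snd _ _ _) hR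
  haveI : IsProper (XV f V ↘ Spec (CommRingCat.of (AV V))) :=
    MorphismProperty.of_isPullback hR inferInstance
  haveI : Flat (XV f V ↘ Spec (CommRingCat.of (AV V))) :=
    MorphismProperty.of_isPullback hR inferInstance
  haveI : IsLocallyNoetherian (XV f V) :=
    LocallyOfFiniteType.isLocallyNoetherian (XV f V ↘ Spec (CommRingCat.of (AV V)))
  haveI : IsPreimmersion g' := by
    haveI : IsPreimmersion (g' ≫ (f ⁻¹ᵁ V).ι) := hg.symm ▸ (inferInstance : IsPreimmersion (f.fiberι y))
    exact IsPreimmersion.of_comp g' (f ⁻¹ᵁ V).ι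
  let j := (f ⁻¹ᵁ V).ι
  let F' := MV f V F
  let G' := MV f V G
  have hF' : FlatMod.IsFinLocFree F' := LocFree.isFinLocFree_restrict j hF
  have hG' : FlatMod.IsFinLocFree G' := LocFree.isFinLocFree_restrict j hG
  let ρ := fun M : X.Modules => (Scheme.Modules.restrictFunctorIsoPullback j).app M
  let i := fun M : X.Modules => (Scheme.Modules.pullback g').mapIso (ρ M) ≪≫
    (Scheme.Modules.pullbackComp g' j).app M ≪≫ (Scheme.Modules.pullbackCongr hg).app M
  let eF : CohIII.fiberMod f F y ≅ (Scheme.Modules.pullback g').obj F' := (i F).symm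
  let eG : CohIII.fiberMod f F y ≅ (Scheme.Modules.pullback g').obj G' := φ ≪≫ (i G).symm
  haveI := h1
  obtain ⟨E₁⟩ := HomAdj.nonempty_sheafHom_iso eF eG
  obtain ⟨E₂⟩ := HomAdj.nonempty_sheafHom_iso eG eF
  obtain ⟨a, ha, s, hs⟩ := HomLift.exists_section x hsq hF' hG'
    (Curves.LES.isoK K E₁.symm 1).injective.subsingleton (eF.inv ≫ eG.hom)
  obtain ⟨b, hb, t, ht⟩ := HomLift.exists_section x hsq hG' hF'
    (Curves.LES.isoK K E₂.symm 1).injective.subsingleton (eG.inv ≫ eF.hom)
  let u := RefHull.Colim.toHom s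
  let v := RefHull.Colim.toHom t
  have hcF : Coh.IsCoh F' := Perfect.Coherent.isCoh_of_isFinLocFree hF'
  have hcG : Coh.IsCoh G' := Perfect.Coherent.isCoh_of_isFinLocFree hG'
  have key : ∀ z, Function.Bijective (_root_.RefHull.stalkMapₗ u (g' z)) := by
    intro z
    haveI := RefHull.LocFree.finite_stalk hcF (g' z)
    haveI := RefHull.LocFree.finite_stalk hcG (g' z)
    have hunit : ∀ c, c ∉ x.asIdeal → IsUnit ((f.fiber y).presheaf.germ ⊤ z trivial
        (Coh.toGlobal (f.fiber y ↘ Spec (CommRingCat.of K)) (algebraMap (AV V) K c))) := fun c hc => by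
      refine IsUnit.map _ (IsUnit.map _ (isUnit_iff_ne_zero.2 ?_))
      rwa [Ne, Ideal.algebraMap_residueField_eq_zero]
    have su : Function.Surjective (s.1 ⟨g' z, trivial⟩) := by
      refine HomLift.surjective_of_bc g' z (g'.stalkMap_surjective z) _ ?_
      rw [hs]
      exact (hunit a ha).smul_bijective.surjective.comp
        ((StalkModule.isIso_iff_stalkMapₗ_bijective (eF.inv ≫ eG.hom)).1 inferInstance z).2
    have sv : Function.Surjective (t.1 ⟨g' z, trivial⟩) := by
      refine HomLift.surjective_of_bc g' z (g'.stalkMap_surjective z) _ ?_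
      rw [ht]
      exact (hunit b hb).smul_bijective.surjective.comp
        ((StalkModule.isIso_iff_stalkMapₗ_bijective (eG.inv ≫ eF.hom)).1 inferInstance z).2
    have hvu := OrzechProperty.injective_of_surjective_endomorphism
      ((t.1 ⟨g' z, trivial⟩).comp (s.1 ⟨g' z, trivial⟩)) (sv.comp su)
    rw [RefHull.Colim.stalkMap_toHom]
    exact ⟨fun p q h => hvu (congrArg (t.1 ⟨g' z, trivial⟩) h), su⟩
  let O : (XV f V).Opens := ⟨_, RefHull.Open.isOpen_bijective hcF hcG u⟩
  let q : XV f V ⟶ Spec (CommRingCat.of (AV V)) := XV f V ↘ Spec (CommRingCat.of (AV V))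
  obtain ⟨W, hW, hWs⟩ := FibreTriv.exists_preimage_le q q.isClosedMap (y := x) (O := O)
    fun z hz => by
      have hzy : j z ∈ Set.range (f.fiberι y) := by
        rw [Scheme.Hom.range_fiberι]
        show f ((f ⁻¹ᵁ V).ι z) = k x
        rw [← hz]
        exact congrArg (fun h : XV f V ⟶ Y => h z) hR.w
      obtain ⟨z', hz'⟩ := hzy
      have : g' z' = z := (f ⁻¹ᵁ V).ι.isOpenEmbedding.injective
        ((congrArg (fun h : f.fiber y ⟶ X => h z') hg).trans hz')
      rw [← this]
      exact key z'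
  refine ⟨k ''ᵁ W, ⟨x, hW, rfl⟩, ?_⟩
  let O' := f ⁻¹ᵁ (k ''ᵁ W)
  have hle : O' ≤ f ⁻¹ᵁ V := f.preimage_mono (by
    rintro _ ⟨w, -, rfl⟩
    exact ((V : Scheme.{u}).isoSpec.inv w).2)
  let e : (O' : Scheme.{u}) ⟶ XV f V := X.homOfLE hle
  have he : IsIso ((Scheme.Modules.pullback e).map u) := by
    rw [StalkModule.isIso_iff_stalkMapₗ_bijective]
    intro z
    rw [← bc_stalkMap]
    refine bijective_bc e z _ (hWs (x := e z) ?_)
    obtain ⟨w, hw, hwz⟩ := z.2
    have h2 : k (q (e z)) = k w := by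
      refine Eq.trans ?_ hwz.symm
      refine (congrArg (fun h : XV f V ⟶ Y => h (e z)) hR.w).symm.trans ?_
      show f ((e ≫ (f ⁻¹ᵁ V).ι) z) = f (O'.ι z)
      rw [Scheme.homOfLE_ι]
    show q (e z) ∈ W
    rwa [k.isOpenEmbedding.injective h2]
  let σ := fun M : X.Modules => (Scheme.Modules.restrictFunctorIsoPullback O'.ι).app M ≪≫
    (Scheme.Modules.pullbackCongr (X.homOfLE_ι hle).symm).app M ≪≫
      ((Scheme.Modules.pullbackComp e j).app M).symm ≪≫
        (Scheme.Modules.pullback e).mapIso (ρ M).symm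
  exact ⟨σ F ≪≫ (@asIso _ _ _ _ _ he) ≪≫ (σ G).symm⟩

end

end ZarCoh.Exchange.HomNear
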