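import Groth.Agent.Lib.Exchange.FormalInj
import Groth.Agent.Lib.Exchange.Algz.Bundle
import Groth.Agent.Lib.Ideal.Comap
import Groth.Agent.S0002

/-!
# Ampleness from the closed fibre over a Zariski ring
-/

set_option autoImplicit false
set_option linter.style.haveILetI false

noncomputable section

universe u

open CategoryTheory Limits AlgebraicGeometry Opposite TopologicalSpace

namespace Groth.Agent.Lib.Exchange.LocalAmple

open Groth.Agent.Lib Groth.Agent.Lib.CohBasics.Affine Groth.Agent.Lib.Exchange.Thick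
open Groth.Agent.H78.Formal.Sections
open Groth.Agent.Lib.Exchange.Algz (jIdeal ideal_jIdeal)

variable {A : Type u} [CommRing A] (J : Ideal A) {X : Scheme.{u}}
  (f : X ⟶ Spec (CommRingCat.of A))

/-- The thickenings of the fibre over `V(J)`. -/
def thickTower : Tower J where
  X := CohB1.thick f J
  p := CohB1.thickToBase f J
  i := CohB1.thickTrans f J
  cart k := by
    have h1 : CohB1.thickTrans f J k ≫ pullback.fst f (CohB1.specQuot J (k + 1)) =
        pullback.fst f (CohB1.specQuot J k) :=
      (pullback.lift_fst _ _ _).trans (Category.comp_id _)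
    have h2 : CohB1.thickTrans f J k ≫ pullback.snd f (CohB1.specQuot J (k + 1)) =
        pullback.snd f (CohB1.specQuot J k) ≫ CohB1.specQuotTrans J k :=
      pullback.lift_snd _ _ _
    refine IsPullback.of_right ?_ h2 (IsPullback.of_hasPullback f (CohB1.specQuot J (k + 1)))
    rw [h1, CohB1.specQuotTrans_specQuot]
    exact IsPullback.of_hasPullback f (CohB1.specQuot J k)

/-- Over a Zariski ring an invertible module which is ample over `V(J)` is ample. -/
theorem isAmple [IsNoetherianRing A] (hJ : J ≤ Ideal.jacobson ⊥) [IsProper f] {M : X.Modules}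
    (hM : PicF.IsInvertible M)
    (ha : CohB1.IsAmple ((Scheme.Modules.pullback (CohB1.thickι f J 0)).obj M)) :
    CohB1.IsAmple M := by
  letI : X.Over (Spec (CommRingCat.of A)) := ⟨f⟩
  haveI : IsProper (X ↘ Spec (CommRingCat.of A)) := ‹IsProper f›
  haveI := H78.Existence.AmpleVanish.isNoetherian_of_proper A (X := X)
  let T := thickTower J f
  let w : ∀ k, T.X k ⟶ X := fun k => pullback.fst f (CohB1.specQuot J k)
  haveI : ∀ k, IsClosedImmersion (w k) := fun k =>
    MorphismProperty.of_isPullback (P := @IsClosedImmersion)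
      (IsPullback.of_hasPullback f (CohB1.specQuot J k)).flip
      (H30.IdealLemmas.isClosedImmersion_specQuot A J k)
  haveI : ∀ k, IsLocallyNoetherian (T.X k) := fun k => LocallyOfFiniteType.isLocallyNoetherian (w k)
  have hwo : ∀ k, w k ≫ (X ↘ Spec (CommRingCat.of A)) = T.X k ↘ Spec (CommRingCat.of A) :=
    fun k => pullback.condition
  have hw : ∀ k, T.i k ≫ w (k + 1) = w k := fun k =>
    (pullback.lift_fst _ _ _).trans (Category.comp_id _)
  have hker : ∀ k, (w k).ker = jIdeal J ^ (k + 1) := fun k => by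
    haveI := H30.IdealLemmas.isClosedImmersion_specQuot A J k
    show (pullback.fst f (CohB1.specQuot J k)).ker = _
    rw [Scheme.IdealSheafData.ker_fst_of_isClosedImmersion, H30.IdealLemmas.ker_specQuot,
      Groth.Agent.Lib.Ideal.Comap.comap_pow]
    rfl
  have hp : IsProper (T.p 0) := inferInstanceAs (IsProper (pullback.snd f (CohB1.specQuot J 0)))
  refine (Groth.Agent.S0051.result A X (X ↘ Spec (CommRingCat.of A)) M hM).2 fun G hG => ?_
  let L : ∀ k, (T.X k).Modules := fun k => (Scheme.Modules.pullback (w k)).obj M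
  let F : ModSys T :=
    { M := fun k => (Scheme.Modules.pullback (w k)).obj G
      coh := fun k => Cyc.FP.Stalk.isCoh_pullback _ hG
      iso := fun k => (Scheme.Modules.pullbackComp (T.i k) (w (k + 1))).app G ≪≫
        (Scheme.Modules.pullbackCongr (hw k)).app G }
  obtain ⟨d₀, hd⟩ := F.exists_vanish hp L (fun k => PicLoc.isInvertible_pullback _ hM)
    (fun k => (Scheme.Modules.pullbackComp (T.i k) (w (k + 1))).app M ≪≫
      (Scheme.Modules.pullbackCongr (hw k)).app M) ha
  refine ⟨d₀, fun d hd' p hp' => ?_⟩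
  obtain ⟨q, rfl⟩ : ∃ q, p = q + 1 := ⟨p - 1, by omega⟩
  let N := CohB1.tensorMod G (CohB1.tensorPow M d)
  have hN : Coh.IsCoh N := RefHull.Tensor.isCoh_tensorMod hG
    (Ample.GG.isCoh_of_isInvertible (TensorMod.Invertible.isInvertible_tensorPow hM d))
  haveI := hN.1
  have hkapp : ∀ (k : ℕ) {U : X.Opens} (hU : IsAffineOpen U),
      RingHom.ker ((w k).app U).hom = sIdeal J U ^ (k + 1) := fun k U hU => by
    have := congrArg (fun I : X.IdealSheafData => I.ideal ⟨U, hU⟩) (hker k)
    simp only [Scheme.Hom.ker_apply, Scheme.IdealSheafData.ideal_pow, Pi.pow_apply, ideal_jIdeal] at this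
    exact this
  have hsub : ∀ n, Subsingleton (_root_.Formal.HHmodPow J N (q + 1) n) := by
    intro n
    let P := (Scheme.Modules.pullback (w n)).obj N
    haveI : P.IsQuasicoherent := (Cyc.FP.Stalk.isCoh_pullback (w n) hN).1
    haveI := (Unit.isCoh_pushPull (w n) hN).1
    obtain ⟨h, hiso⟩ := Groth.Agent.H78.Formal.Sys.exists_isIso_desc (J ^ (n + 1)) (Unit.η (w n) N)
      (fun U hU => Unit.surjective_app (w n) hN hU) fun U hU s => by
        rw [Unit.app_eq_zero_iff (w n) hN hU, Scheme.Hom.ker_apply, hkapp n hU, sIdeal_pow]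
    haveI := hiso
    haveI h1 : Subsingleton (Coh.HH (T.X n) P (q + 1)) :=
      @Equiv.subsingleton _ _ (Curves.LES.isoK A (TensorMod.Pullback.pullbackTensorIso (w n) G _ ≪≫
        TensorMod.Basic.tensorIso (Iso.refl _) (Ample.Pow.pullbackPow (w n) M d)) (q + 1)).toEquiv
        (hd d hd' n q)
    haveI h2 : Subsingleton (Coh.HH X ((Coh.push (w n)).obj P) (q + 1)) :=
      (ZarCoh.Morph.affineEquiv (w n) P (q + 1)).toEquiv.subsingleton
    exact @Equiv.subsingleton _ _ (Curves.LES.isoK A
      (asIso (cokernel.desc (_root_.Formal.smulFamily (J ^ (n + 1)) N) (Unit.η (w n) N) h)) (q + 1)).toEquiv h2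
  refine subsingleton_of_forall_eq 0 fun x => FormalInj.eq_zero (A := A)
    (C := fun N : X.Modules => Coh.IsCoh N)
    { coh := fun h => h
      qfin := fun {N} h p => Groth.Agent.S0002.result A X N h p
      sub := fun _ _ h _ => h
      quot := fun _ _ h _ => h } J hJ N hN (q + 1) x fun n => ?_
  exact @Subsingleton.elim _ (hsub n) _ _

end Groth.Agent.Lib.Exchange.LocalAmple
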