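import Groth.Prelude.Def_ega3
import Groth.Agent.Lib.ZarCoh.FlatBC.PullbackSections
import Groth.Agent.Lib.Modules.TensorAffine
import Groth.Agent.Lib.CechRes.Sec
import Groth.Agent.Lib.QCoh.Pullback

/-!
# Sections of `f^* M~ ⊗ F` on affine opens

For `X` over `Spec A`, `Γ(W, F) ⊗_A M → Γ(W, f^* M~ ⊗ F)` is natural in `W` and `M`, and bijective
for `W` affine and `F` quasi-coherent.
-/

set_option autoImplicit false
set_option linter.style.haveILetI false
universe u

open CategoryTheory Limits AlgebraicGeometry Opposite TopologicalSpace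
open scoped TensorProduct

namespace ZarCoh.Exchange.Sections

open Groth.Agent.Lib Groth.Agent.Lib.Modules ZarCoh.FlatBC.PullbackSections
open Groth.Agent.Lib.CechRes.Sec (rho secA)
open Groth.Agent.Lib.TensorMod.Dual (rs)

noncomputable section

/-- Cancelling an isomorphism of base rings in a base change. -/
theorem bijective_of_bijective_base {A R R' M N P : Type u} [CommRing A] [CommRing R] [CommRing R']
    [Algebra A R] [Algebra A R'] [Algebra R R'] [IsScalarTower A R R']
    [AddCommGroup M] [Module A M] [AddCommGroup N] [Module R N] [AddCommGroup P] [Module R' P]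
    (hR : Function.Surjective (algebraMap A R)) (a : M ≃+ N)
    (ha : ∀ (r : A) (m : M), a (r • m) = algebraMap A R r • a m)
    (f : R' ⊗[R] N →ₗ[R'] P) (hf : Function.Bijective f) (d : R' ⊗[A] M →ₗ[R'] P)
    (hd : ∀ m, d (1 ⊗ₜ m) = f (1 ⊗ₜ a m)) : Function.Bijective d := by
  letI : Module A N := Module.compHom N (algebraMap A R)
  haveI : IsScalarTower A R N := IsScalarTower.of_algebraMap_smul fun _ _ => rfl
  let a' : M ≃ₗ[A] N := { a with map_smul' := ha }
  haveI : TensorProduct.CompatibleSMul A R R' N := ⟨fun r s n => by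
    obtain ⟨r₀, rfl⟩ := hR r
    rw [algebraMap_smul, algebraMap_smul, TensorProduct.smul_tmul]⟩
  let e := (TensorProduct.congr (LinearEquiv.refl A R') a').trans
    (TensorProduct.equivOfCompatibleSMul R A A R' N)
  have he : ∀ z, d z = f (e z) := fun z => by
    induction z using TensorProduct.induction_on with
    | zero => simp only [map_zero]
    | tmul s m =>
      show d (s ⊗ₜ m) = f (s ⊗ₜ a m)
      rw [← mul_one s, ← smul_eq_mul, ← TensorProduct.smul_tmul' s (1 : R'), map_smul, hd,
        ← map_smul, TensorProduct.smul_tmul']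
    | add x y hx hy => simp only [map_add, hx, hy]
  exact (funext he : ⇑d = _) ▸ hf.comp e.bijective

variable {A : Type u} [CommRing A]

/-- An element of `M` as a global section of `M~`. -/
def topSec (M : ModuleCat.{u} A) : M →+ Γ((tilde.functor (CommRingCat.of A)).obj M, ⊤) :=
  (tilde.toOpen (R := CommRingCat.of A) M ⊤).hom.toAddMonoidHom

theorem topSec_bijective (M : ModuleCat.{u} A) : Function.Bijective (topSec M) :=
  ConcreteCategory.bijective_of_isIso (tilde.isoTop (R := CommRingCat.of A) M).hom

theorem topSec_smul (M : ModuleCat.{u} A) (r : A) (m : M) :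
    topSec M (r • m) = (Scheme.ΓSpecIso (CommRingCat.of A)).inv r • topSec M m :=
  map_smul (tilde.toOpen (R := CommRingCat.of A) M ⊤).hom r m

theorem map_topSec {M N : ModuleCat.{u} A} (g : M ⟶ N) (m : M) :
    ((tilde.functor (CommRingCat.of A)).map g).app ⊤ (topSec M m) = topSec N (g m) :=
  ConcreteCategory.congr_hom (tilde.toOpen_map_app (R := CommRingCat.of A) g ⊤) m

variable {X : Scheme.{u}} [X.Over (Spec (CommRingCat.of A))]

local notation "pX" => (X ↘ Spec (CommRingCat.of A))

/-- An element of `M` as a section of `f^* M~` on `W`. -/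
def pbSec (M : ModuleCat.{u} A) (W : X.Opens) :
    M →+ Γ((Scheme.Modules.pullback pX).obj ((tilde.functor (CommRingCat.of A)).obj M), W) :=
  (pbRes pX ((tilde.functor (CommRingCat.of A)).obj M) (U := ⊤) (V := W) le_top).comp (topSec M)

theorem pbSec_smul (M : ModuleCat.{u} A) (W : X.Opens) (r : A) (m : M) :
    pbSec M W (r • m) = rho pX W r • pbSec M W m := by
  show pbRes pX _ _ (topSec M (r • m)) = _
  rw [topSec_smul, pbRes_smul]
  rfl

theorem pbSec_map {M N : ModuleCat.{u} A} (g : M ⟶ N) (W : X.Opens) (m : M) :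
    ((Scheme.Modules.pullback pX).map ((tilde.functor (CommRingCat.of A)).map g)).app W
      (pbSec M W m) = pbSec N W (g m) := by
  let φ := (tilde.functor (CommRingCat.of A)).map g
  have h1 := ConcreteCategory.congr_hom
    (congrArg (fun t => t.app ⊤) ((Scheme.Modules.pullbackPushforwardAdjunction pX).unit.naturality φ))
    (topSec M m)
  show ((Scheme.Modules.pullback pX).map φ).app W
      ((((Scheme.Modules.pullback pX).obj ((tilde.functor (CommRingCat.of A)).obj M)).presheaf.map
        (homOfLE le_top).op)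
        ((((Scheme.Modules.pullbackPushforwardAdjunction pX).unit.app
          ((tilde.functor (CommRingCat.of A)).obj M)).app ⊤) (topSec M m))) =
    pbRes pX ((tilde.functor (CommRingCat.of A)).obj N) le_top (topSec N (g m))
  rw [← map_topSec g m]
  refine (ConcreteCategory.congr_hom
    (((Scheme.Modules.pullback pX).map φ).mapPresheaf.naturality (homOfLE le_top).op) _).trans ?_
  exact congrArg _ h1.symm

theorem rs_pbSec (M : ModuleCat.{u} A) {W W' : X.Opens} (h : W' ≤ W) (m : M) :
    rs ((Scheme.Modules.pullback pX).obj ((tilde.functor (CommRingCat.of A)).obj M)) h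
      (pbSec M W m) = pbSec M W' m := by
  let P := ((Scheme.Modules.pullback pX).obj ((tilde.functor (CommRingCat.of A)).obj M)).presheaf
  show P.map (homOfLE h).op (P.map (homOfLE le_top).op _) = P.map (homOfLE le_top).op _
  rw [← ConcreteCategory.comp_apply, ← P.map_comp]
  rfl

/-- `f^* M~ ⊗ F`. -/
abbrev G (F : X.Modules) (M : ModuleCat.{u} A) : X.Modules := (CohIII.tensorAFunctor A F).obj M

variable (F : X.Modules)

theorem G_map {M N : ModuleCat.{u} A} (g : M ⟶ N) :
    (CohIII.tensorAFunctor A F).map g =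
      TensorMod.Basic.tmap ((Scheme.Modules.pullback pX).map ((tilde.functor (CommRingCat.of A)).map g))
        (𝟙 F) := by
  show (CohB1.sheafifyMod X).map _ = (CohB1.sheafifyMod X).map _
  congr 1

/-- The multiplication map on sections. -/
def psi (W : X.Opens) (M : ModuleCat.{u} A) :
    (secA pX W).obj F ⊗[A] M →ₗ[A] (secA pX W).obj (G F M) :=
  TensorProduct.lift (LinearMap.mk₂ A
    (fun (n : (secA pX W).obj F) (m : M) => CechRes.Sec.toSec pX
      (TensorSec.tens (pbSec M W m) (CechRes.Sec.ofSec pX n)))
    (fun n n' m => TensorSec.tens_add_right _ _ _)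
    (fun r n m => TensorSec.tens_smul_right (rho pX W r) _ _)
    (fun n m m' => by rw [map_add]; exact TensorSec.tens_add_left _ _ _)
    (fun r n m => by rw [pbSec_smul]; exact TensorSec.tens_smul_left (rho pX W r) _ _))

theorem psi_tmul (W : X.Opens) (M : ModuleCat.{u} A) (n : (secA pX W).obj F) (m : M) :
    psi F W M (n ⊗ₜ m) =
      CechRes.Sec.toSec pX (TensorSec.tens (pbSec M W m) (CechRes.Sec.ofSec pX n)) := rfl

theorem psi_natural (W : X.Opens) {M N : ModuleCat.{u} A} (g : M ⟶ N)
    (z : (secA pX W).obj F ⊗[A] M) :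
    (secA pX W).map ((CohIII.tensorAFunctor A F).map g) (psi F W M z) =
      psi F W N (g.hom.lTensor _ z) := by
  induction z using TensorProduct.induction_on with
  | zero => simp only [map_zero]
  | tmul n m =>
    show ((CohIII.tensorAFunctor A F).map g).app W
        (TensorSec.tens (pbSec M W m) (CechRes.Sec.ofSec pX n)) =
      TensorSec.tens (pbSec N W (g m)) (CechRes.Sec.ofSec pX n)
    rw [G_map, ← pbSec_map g W m]
    exact TensorSec.tmap_tens _ _ _ _
  | add a b ha hb => simp only [map_add, ha, hb]

theorem psi_res {W W' : X.Opens} (h : W' ≤ W) (M : ModuleCat.{u} A)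
    (z : (secA pX W).obj F ⊗[A] M) :
    (CechRes.Sec.resA pX h).app (G F M) (psi F W M z) =
      psi F W' M (((CechRes.Sec.resA pX h).app F).hom.rTensor M z) := by
  induction z using TensorProduct.induction_on with
  | zero => simp only [map_zero]
  | tmul n m =>
    show rs (G F M) h (TensorSec.tens (pbSec M W m) (CechRes.Sec.ofSec pX n)) =
      TensorSec.tens (pbSec M W' m) (rs F h (CechRes.Sec.ofSec pX n))
    rw [← rs_pbSec M h m]
    exact TensorSec.rs_tens h _ _
  | add a b ha hb => simp only [map_add, ha, hb]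

theorem bijective_psi [F.IsQuasicoherent] {W : X.Opens} (hW : IsAffineOpen W)
    (M : ModuleCat.{u} A) : Function.Bijective (psi F W M) := by
  let P := (Scheme.Modules.pullback pX).obj ((tilde.functor (CommRingCat.of A)).obj M)
  haveI : ((tilde.functor (CommRingCat.of A)).obj M).IsQuasicoherent := by
    dsimp [tilde.functor]; infer_instance
  haveI : P.IsQuasicoherent := QCoh.Pullback.isQCoh_pullback pX _
  let R' := Γ(X, W)
  letI : Algebra A R' := (rho pX W).toAlgebra
  letI : Module A Γ(P, W) := Module.compHom _ (rho pX W)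
  haveI : IsScalarTower A R' Γ(P, W) := IsScalarTower.of_algebraMap_smul fun _ _ => rfl
  letI : Module A Γ(F, W) := Module.compHom _ (rho pX W)
  haveI : IsScalarTower A R' Γ(F, W) := IsScalarTower.of_algebraMap_smul fun _ _ => rfl
  let b : M →ₗ[A] Γ(P, W) := { pbSec M W with map_smul' := pbSec_smul M W }
  -- the base change of `M` to `Γ(X, W)`
  let d : R' ⊗[A] M →ₗ[R'] Γ(P, W) := LinearMap.liftBaseChange R' b
  have hd : Function.Bijective d := by
    letI : Algebra Γ(Spec (CommRingCat.of A), ⊤) R' :=
      ((X ↘ Spec (CommRingCat.of A)).appLE ⊤ W le_top).hom.toAlgebra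
    letI : Algebra A Γ(Spec (CommRingCat.of A), ⊤) :=
      (Scheme.ΓSpecIso (CommRingCat.of A)).inv.hom.toAlgebra
    haveI : IsScalarTower A Γ(Spec (CommRingCat.of A), ⊤) R' :=
      IsScalarTower.of_algebraMap_eq fun _ => rfl
    refine bijective_of_bijective_base (R := Γ(Spec (CommRingCat.of A), ⊤))
      (ConcreteCategory.bijective_of_isIso (Scheme.ΓSpecIso (CommRingCat.of A)).inv).2
      (AddEquiv.ofBijective (topSec M) (topSec_bijective M)) (fun r m => topSec_smul M r m)
      (pbTensor pX ((tilde.functor (CommRingCat.of A)).obj M) (U := ⊤) (V := W) le_top)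
      (bijective_pbTensor pX _ (isAffineOpen_top _) hW le_top) d fun m => ?_
    show d ((1 : R') ⊗ₜ m) = (1 : R') • pbSec M W m
    rw [LinearMap.liftBaseChange_tmul]
    rfl
  let e1 : Γ(F, W) ⊗[A] M ≃ₗ[R'] Γ(F, W) ⊗[R'] (R' ⊗[A] M) :=
    (TensorProduct.AlgebraTensorModule.cancelBaseChange A R' R' Γ(F, W) M).symm
  let e2 := (TensorProduct.congr (LinearEquiv.refl R' Γ(F, W)) (LinearEquiv.ofBijective d hd)).trans
    (TensorProduct.comm R' Γ(F, W) Γ(P, W))
  have e : ∀ z : Γ(F, W) ⊗[A] M, psi F W M z = TensorAffine.gamma P F W (e2 (e1 z)) := fun z => by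
    induction z using TensorProduct.induction_on with
    | zero => simp only [map_zero]; rfl
    | tmul n m =>
      rw [show e1 (n ⊗ₜ m) = n ⊗ₜ ((1 : R') ⊗ₜ m) from
        TensorProduct.AlgebraTensorModule.cancelBaseChange_symm_tmul _ _ _ n m]
      show TensorSec.tens (pbSec M W m) n = TensorSec.tens (d ((1 : R') ⊗ₜ m)) n
      rw [LinearMap.liftBaseChange_tmul, one_smul]
      rfl
    | add x y hx hy =>
      rw [map_add, map_add, map_add, ← hx, ← hy]
      exact map_add (psi F W M) x y
  exact (funext e : ⇑(psi F W M) = _) ▸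
    (TensorAffine.bijective_gamma (M := P) (N := F) hW).comp (e2.bijective.comp e1.bijective)

end

end ZarCoh.Exchange.Sections
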