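import Groth.Agent.Lib.Exchange.Free
import Mathlib.RingTheory.Localization.BaseChange
import Mathlib.LinearAlgebra.TensorProduct.Quotient
import Mathlib.RingTheory.LocalRing.Module

/-!
# Lifting classes from a fibre when the next group of the fibre vanishes
-/

set_option autoImplicit false
set_option linter.style.haveILetI false
universe u

open CategoryTheory Limits
open scoped TensorProduct

namespace ZarCoh.Exchange.Span

open Groth.Agent.Lib Groth.Agent.Lib.FlatCx.Basic Groth.Agent.Lib.FlatCx.Rank

noncomputable section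

variable {A : Type u} [CommRing A]

/-- A cokernel which maps injectively to a free module on the fibre is flat at that point. -/
theorem flat_localization_of_injective {M N : Type u} [AddCommGroup M] [Module A M] [Module.Finite A M]
    [AddCommGroup N] [Module A N] [Module.Finite A N] [Module.Free A N] (l : M →ₗ[A] N)
    (p : Ideal A) [p.IsPrime] (h : Function.Injective (l.baseChange p.ResidueField)) :
    Module.Flat A (Localization.AtPrime p ⊗[A] M) := by
  let R := Localization.AtPrime p
  let K := p.ResidueField
  let c := fun (Q : Type u) [AddCommGroup Q] [Module A Q] =>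
    TensorProduct.AlgebraTensorModule.cancelBaseChange A R K K Q
  have hc : ∀ z : K ⊗[R] (R ⊗[A] M), c N ((l.baseChange R).lTensor K z) = l.baseChange K (c M z) := by
    intro z
    induction z using TensorProduct.induction_on with
    | zero => simp only [map_zero]
    | tmul k v =>
      induction v using TensorProduct.induction_on with
      | zero => simp only [TensorProduct.tmul_zero, map_zero]
      | tmul r m =>
        show (r • k) ⊗ₜ[A] l m = l.baseChange K ((r • k) ⊗ₜ[A] m)
        rfl
      | add a b ha hb => simp only [TensorProduct.tmul_add, map_add, ha, hb]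
    | add a b ha hb => simp only [map_add, ha, hb]
  have hi : Function.Injective ((l.baseChange R).lTensor (IsLocalRing.ResidueField R)) := fun a b hab =>
    (c M).injective (h ((hc a).symm.trans ((congrArg (c N) hab).trans (hc b))))
  obtain ⟨l', hl'⟩ :=
    (IsLocalRing.split_injective_iff_lTensor_residueField_injective (l.baseChange R)).2 hi
  haveI : Module.Flat R (R ⊗[A] M) := Module.Flat.of_retract (l.baseChange R) l' hl'
  exact Module.Flat.trans A R (R ⊗[A] M)

/-- An element killed in a flat localisation after multiplication into the ideal. -/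
theorem exists_smul_eq_zero {Q : Type u} [AddCommGroup Q] [Module A Q] (p : Ideal A) [p.IsPrime]
    [Module.Flat A (Localization.AtPrime p ⊗[A] Q)] (ζ : Q ⊗[A] p)
    (hζ : TensorProduct.rid A Q (p.subtype.lTensor Q ζ) = 0) :
    ∃ g, g ∉ p ∧ g • ζ = 0 := by
  let R := Localization.AtPrime p
  let m : Q →ₗ[A] R ⊗[A] Q := TensorProduct.mk A R Q 1
  haveI : IsLocalizedModule p.primeCompl m := inferInstance
  have h0 : p.subtype.lTensor (R ⊗[A] Q) (m.rTensor p ζ) = 0 := by
    rw [← LinearMap.comp_apply, LinearMap.lTensor_comp_rTensor, ← LinearMap.rTensor_comp_lTensor,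
      LinearMap.comp_apply,
      show p.subtype.lTensor Q ζ = 0 from (TensorProduct.rid A Q).injective (hζ.trans (map_zero _).symm),
      map_zero]
  have h1 : m.rTensor p ζ = 0 :=
    Module.Flat.lTensor_preserves_injective_linearMap (M := R ⊗[A] Q) p.subtype p.injective_subtype
      (h0.trans (map_zero _).symm)
  haveI : IsLocalizedModule p.primeCompl (TensorProduct.AlgebraTensorModule.rTensor A p m) :=
    inferInstance
  have h2 : TensorProduct.AlgebraTensorModule.rTensor A p m ζ = 0 := h1
  obtain ⟨⟨g, hg⟩, hgz⟩ := (IsLocalizedModule.eq_zero_iff p.primeCompl _).1 h2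
  exact ⟨g, hg, hgz⟩

/-- Every element of a fibre is, up to a function not vanishing at the point, an element. -/
theorem exists_smul_eq_tmul {N : Type u} [AddCommGroup N] [Module A N] (p : Ideal A) [p.IsPrime]
    (z : N ⊗[A] p.ResidueField) : ∃ g, g ∉ p ∧ ∃ x : N, g • z = x ⊗ₜ[A] 1 := by
  induction z using TensorProduct.induction_on with
  | zero => exact ⟨1, p.primeCompl.one_mem, 0, by simp⟩
  | tmul n k =>
    obtain ⟨a, b, hb, rfl⟩ := IsFractionRing.div_surjective (A := A ⧸ p) k
    obtain ⟨a, rfl⟩ := Ideal.Quotient.mk_surjective a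
    obtain ⟨b, rfl⟩ := Ideal.Quotient.mk_surjective b
    have hb0 : b ∉ p := fun h => nonZeroDivisors.ne_zero hb (Ideal.Quotient.eq_zero_iff_mem.2 h)
    refine ⟨b, hb0, a • n, ?_⟩
    have hne : algebraMap A p.ResidueField b ≠ 0 := by
      rw [Ne, Ideal.algebraMap_residueField_eq_zero]; exact hb0
    rw [TensorProduct.smul_tmul', TensorProduct.smul_tmul, TensorProduct.smul_tmul, Algebra.smul_def,
      Algebra.smul_def, mul_one]
    congr 1
    show algebraMap A p.ResidueField b * (algebraMap A p.ResidueField a / algebraMap A p.ResidueField b) = _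
    rw [mul_div_cancel₀ _ hne]
  | add a b ha hb =>
    obtain ⟨g, hg, x, hx⟩ := ha
    obtain ⟨g', hg', y, hy⟩ := hb
    refine ⟨g * g', p.primeCompl.mul_mem hg hg', g' • x + g • y, ?_⟩
    rw [smul_add, mul_comm g g', mul_smul, hx, mul_comm g' g, mul_smul, hy, TensorProduct.add_tmul,
      TensorProduct.smul_tmul', TensorProduct.smul_tmul']

/-- An element dying on the fibre of a flat module lies in the ideal times the module. -/
theorem exists_of_tmul_one_eq_zero {N : Type u} [AddCommGroup N] [Module A N] [Module.Flat A N]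
    (p : Ideal A) [p.IsPrime] (w : N) (hw : w ⊗ₜ[A] (1 : p.ResidueField) = 0) :
    ∃ ω : N ⊗[A] p, TensorProduct.rid A N (p.subtype.lTensor N ω) = w := by
  let j : (A ⧸ p) →ₗ[A] p.ResidueField :=
    (Algebra.linearMap (A ⧸ p) p.ResidueField).restrictScalars A
  have h1 : w ⊗ₜ[A] (Submodule.mkQ p 1) = 0 := by
    apply Module.Flat.lTensor_preserves_injective_linearMap (M := N) j
      (Ideal.injective_algebraMap_quotient_residueField p)
    rw [map_zero, LinearMap.lTensor_tmul]
    convert hw using 2
    exact map_one (algebraMap (A ⧸ p) p.ResidueField)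
  obtain ⟨ω, hω⟩ := (_root_.lTensor_exact N (LinearMap.exact_subtype_mkQ p)
    (Submodule.mkQ_surjective _) (w ⊗ₜ[A] (1 : A))).1 h1
  exact ⟨ω, by rw [hω, TensorProduct.rid_tmul, one_smul]⟩

variable [IsNoetherianRing A] (P : ChainComplex (ModuleCat.{u} A) ℤ)
  (hP : ∀ i, Module.Finite A (P.X i) ∧ Module.Free A (P.X i))

include hP in
/-- If the fibre has no homology in degree `q`, the differential into degree `r` is injective on the fibre. -/
theorem injective_baseChange_Dbar (q r : ℤ) (hqr : r + 1 = q) (x : PrimeSpectrum A)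
    (h : CohIII.dRank P q x = 0) :
    Function.Injective ((FlatCx.HKer.Dbar P q r).baseChange x.asIdeal.ResidueField) := by
  have hP' : ∀ i, Module.Finite A (P.X i) ∧ Module.Flat A (P.X i) := fun i =>
    ⟨(hP i).1, haveI := (hP i).2; inferInstance⟩
  haveI := (hP q).1
  haveI := (hP r).1
  let k := x.asIdeal.ResidueField
  let l := FlatCx.HKer.Dbar P q r
  have h0 := FlatCx.DRank.dRank_add' P hP' q r hqr x
  rw [h] at h0
  have h1 := FlatCx.FibreRank.finrank_range_add l k
  have e : Module.finrank k (k ⊗[A] (P.X r ⧸ LinearMap.range l)) = fdim (Q P r) x :=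
    congrFun (fdim_congr (A := A) _ (Submodule.quotEquivOfEq _ _ (FlatCx.HKer.range_Dbar P hqr))) x
  have h3 := LinearMap.finrank_range_add_finrank_ker (l.baseChange k)
  have h0' : 0 + Module.finrank k (k ⊗[A] P.X r) =
      Module.finrank k (k ⊗[A] Q P q) + fdim (Q P r) x := h0
  have h4 : Module.finrank k (LinearMap.ker (l.baseChange k)) = 0 := by omega
  exact LinearMap.ker_eq_bot.1 (Submodule.finrank_eq_zero.1 h4)

include hP in
/-- Cycles of the fibre lift to cycles, up to a function not vanishing at the point. -/
theorem exists_cycle (s q r : ℤ) (hsq : q + 1 = s) (hqr : r + 1 = q) (x : PrimeSpectrum A)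
    (h : CohIII.dRank P q x = 0) (z : P.X s ⊗[A] x.asIdeal.ResidueField)
    (hz : (D P s q).rTensor x.asIdeal.ResidueField z = 0) :
    ∃ g, g ∉ x.asIdeal ∧ ∃ c : P.X s, D P s q c = 0 ∧ g • z = c ⊗ₜ[A] 1 := by
  subst hsq
  let p := x.asIdeal
  haveI := (hP q).1
  haveI := (hP r).1
  haveI := (hP r).2
  haveI := (hP q).2
  haveI := flat_localization_of_injective (FlatCx.HKer.Dbar P q r) p
    (injective_baseChange_Dbar P hP q r hqr x h)
  obtain ⟨g, hg, y, hy⟩ := exists_smul_eq_tmul p z
  have hw : D P (q + 1) q y ⊗ₜ[A] (1 : p.ResidueField) = 0 := by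
    rw [← LinearMap.rTensor_tmul, ← hy, map_smul, hz, smul_zero]
  obtain ⟨ω, hω⟩ := exists_of_tmul_one_eq_zero p _ hw
  let π := (Bd P q).mkQ
  have hnat : ∀ {M M' : Type u} [AddCommGroup M] [Module A M] [AddCommGroup M'] [Module A M']
      (f : M →ₗ[A] M') (v : M ⊗[A] p),
      TensorProduct.rid A M' (p.subtype.lTensor M' (f.rTensor p v)) =
        f (TensorProduct.rid A M (p.subtype.lTensor M v)) := by
    intro M M' _ _ _ _ f v
    induction v using TensorProduct.induction_on with
    | zero => simp only [map_zero]
    | tmul m a => simp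
    | add a b ha hb => simp only [map_add, ha, hb]
  obtain ⟨g', hg', hz'⟩ := exists_smul_eq_zero p (π.rTensor p ω) (by
    rw [hnat, hω]
    exact (Submodule.Quotient.mk_eq_zero _).2 ⟨y, rfl⟩)
  rw [← map_smul] at hz'
  obtain ⟨v, hv⟩ := (_root_.rTensor_exact p (LinearMap.exact_map_mkQ_range (D P (q + 1) q))
    (Submodule.mkQ_surjective _) (g' • ω)).1 hz'
  refine ⟨g' * g, p.primeCompl.mul_mem hg' hg,
    g' • y - TensorProduct.rid A _ (p.subtype.lTensor _ v), ?_, ?_⟩
  · rw [map_sub, map_smul, ← hnat, hv, map_smul, map_smul, hω, sub_self]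
  · rw [mul_smul, hy, TensorProduct.sub_tmul, TensorProduct.smul_tmul', eq_comm, sub_eq_self]
    clear hv
    induction v using TensorProduct.induction_on with
    | zero => simp
    | tmul m a =>
      simp only [LinearMap.lTensor_tmul, TensorProduct.rid_tmul, Submodule.subtype_apply]
      rw [TensorProduct.smul_tmul, Algebra.smul_def, mul_one,
        (Ideal.algebraMap_residueField_eq_zero).2 a.2, TensorProduct.tmul_zero]
    | add a b ha hb =>
      simp only [map_add, TensorProduct.add_tmul, ha, hb, add_zero]

end

end ZarCoh.Exchange.Span
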