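import Groth.Agent.Lib.Ample.Basis
import Groth.Agent.Lib.Ample.Pow
import Groth.Agent.Lib.CechRes.Sec
import Groth.Agent.Lib.SurfInt.ColonSeq
import Groth.Agent.Lib.Modules.Support
import Groth.Agent.Lib.Modules.TensorSec
import Groth.Agent.Lib.TensorMod.TensorQCoh
import Mathlib.RingTheory.Flat.EquationalCriterion

/-!
# Flatness of the sections on the locus of a section from flatness of the twists
-/

set_option autoImplicit false
set_option linter.style.haveILetI false

noncomputable section

universe u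

open CategoryTheory Limits AlgebraicGeometry Opposite TopologicalSpace

namespace Groth.Agent.Lib.Exchange.TwistSections

open Groth.Agent.Lib
open Groth.Agent.Lib.TensorMod.Dual (rs rs_smul)
open Groth.Agent.Lib.TensorMod.Gen Groth.Agent.Lib.Ample.Extend Groth.Agent.Lib.Ample.GenLocus
open Groth.Agent.Lib.TensorMod.Basic (tmap)

variable {X : Scheme.{u}} {L : X.Modules}

/-- Multiplication by the power of a section. -/
def φ (s : Coh.structureModule X ⟶ L) (n : ℕ) (F : X.Modules) :
    F ⟶ CohB1.tensorMod F (CohB1.tensorPow L n) :=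
  (SecTwist.unitorR F).inv ≫ tmap (𝟙 F) (SecTwist.powHom s n)

theorem φ_app (s : Coh.structureModule X ⟶ L) (n : ℕ) (F : X.Modules) (U : X.Opens) (t : Γ(F, U)) :
    (φ s n F).app U t = tw s n t := by
  have h1 : (SecTwist.unitorR F).inv.app U t = Modules.TensorSec.tens t (one X U) := by
    refine (ConcreteCategory.bijective_of_isIso ((SecTwist.unitorR F).hom.app U)).1 ?_
    refine Eq.trans ?_ ((one_smul Γ(X, U) t).symm.trans
      ((SecTwist.unitorR_tmul F U t (1 : Γ(X, U))).symm.trans ?_))
    · exact ConcreteCategory.congr_hom (congrArg (fun χ => χ.app U) (SecTwist.unitorR F).inv_hom_id) t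
    · rw [Modules.TensorSec.tens, pairM_id]
      rfl
  change (tmap (𝟙 F) (SecTwist.powHom s n)).app U ((SecTwist.unitorR F).inv.app U t) = _
  rw [h1, Modules.TensorSec.tmap_tens, Modules.TensorSec.tens, pairM_id]
  exact congrArg (SecTwist.tmul F (CohB1.tensorPow L n) U t) (SecTwist.val_powHom s n U)

theorem bijective_stalk_powHom (s : Coh.structureModule X ⟶ L) (n : ℕ) {x : X}
    (hx : x ∈ CohB1.genLocus L s) :
    Function.Bijective (Modules.StalkModule.stalkMapₗ (SecTwist.powHom s n) x) := by
  let G := CohB1.genLocus L s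
  have he : IsGen (CohB1.tensorPow L n) G (powSec (sv s G) n) := isGen_powSec (Ample.Basis.isGen_genLocus s) n
  have hφ : ∀ (V : X.Opens) (hV : V ≤ G) (a : Γ(X, V)),
      (SecTwist.powHom s n).app V (show Γ(Coh.structureModule X, V) from a) =
        a • rs _ hV (powSec (sv s G) n) := fun V hV a => by
    rw [app_eq_smul]
    congr 1
    exact ((SecTwist.val_powHom s n V).trans (pow_eq_powSec s V n)).trans
      ((congrArg (fun e => powSec e n) (rs_sv s hV).symm).trans (rs_powSec hV _ n).symm)
  refine ⟨(injective_iff_map_eq_zero _).2 fun v hv => ?_, fun w => ?_⟩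
  · obtain ⟨W, hxW, a, rfl⟩ := TopCat.Presheaf.exists_germ_eq (Coh.structureModule X).presheaf v
    rw [Modules.StalkModule.stalkMapₗ_germ] at hv
    obtain ⟨V, hxV, i, j, hij⟩ := TopCat.Presheaf.germ_eq (CohB1.tensorPow L n).presheaf x hxW hxW _ _
      (hv.trans (map_zero ((CohB1.tensorPow L n).presheaf.germ W x hxW).hom).symm)
    have hV : V ⊓ G ≤ W := inf_le_left.trans i.le
    have h2 : (SecTwist.powHom s n).app (V ⊓ G) ((Coh.structureModule X).presheaf.map (homOfLE hV).op a) = 0 := by
      refine ((SecTwist.powHom s n).mapPresheaf.naturality_apply (homOfLE hV).op a).trans ?_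
      have h3 := congrArg ((CohB1.tensorPow L n).presheaf.map (homOfLE (inf_le_left : V ⊓ G ≤ V)).op) hij
      rw [← ConcreteCategory.comp_apply, ← Functor.map_comp] at h3
      exact h3.trans ((congrArg _ (map_zero _)).trans (map_zero _))
    rw [← TopCat.Presheaf.germ_res_apply (Coh.structureModule X).presheaf (homOfLE hV) x ⟨hxV, hx⟩ a]
    have h4 : (show Γ(X, V ⊓ G) from (Coh.structureModule X).presheaf.map (homOfLE hV).op a) = 0 := by
      refine (he _ (inf_le_right : V ⊓ G ≤ G)).1 ?_
      exact ((hφ _ inf_le_right _).symm.trans h2).trans (zero_smul _ _).symm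
    exact (congrArg _ h4).trans (map_zero ((Coh.structureModule X).presheaf.germ _ x _).hom)
  · obtain ⟨W, hxW, b, rfl⟩ := TopCat.Presheaf.exists_germ_eq (CohB1.tensorPow L n).presheaf w
    obtain ⟨a, ha⟩ := (he _ (inf_le_right : W ⊓ G ≤ G)).2 (rs _ (inf_le_left : W ⊓ G ≤ W) b)
    refine ⟨(Coh.structureModule X).presheaf.germ (W ⊓ G) x ⟨hxW, hx⟩ a, ?_⟩
    rw [Modules.StalkModule.stalkMapₗ_germ, hφ _ inf_le_right a]
    exact (congrArg _ ha).trans (TopCat.Presheaf.germ_res_apply _ _ _ _ _)

theorem bijective_stalk_φ (s : Coh.structureModule X ⟶ L) (n : ℕ) (F : X.Modules) {x : X}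
    (hx : x ∈ CohB1.genLocus L s) :
    Function.Bijective (Modules.StalkModule.stalkMapₗ (φ s n F) x) := by
  rw [φ, Modules.StalkModule.stalkMapₗ_comp, LinearMap.coe_comp]
  refine Function.Bijective.comp ?_
    ((Modules.StalkModule.isIso_iff_stalkMapₗ_bijective _).1 inferInstance x)
  let g : (Coh.structureModule X).presheaf.stalk x ≃ₗ[X.presheaf.stalk x]
      (CohB1.tensorPow L n).presheaf.stalk x :=
    LinearEquiv.ofBijective _ (bijective_stalk_powHom s n hx)
  let t₁ := DerivedOX.TensorSheaf.tensorStalk x F (Coh.structureModule X)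
  let t₂ := DerivedOX.TensorSheaf.tensorStalk x F (CohB1.tensorPow L n)
  have e : ⇑(Modules.StalkModule.stalkMapₗ (tmap (𝟙 F) (SecTwist.powHom s n)) x) =
      ⇑(t₁.trans ((LinearEquiv.lTensor (F.presheaf.stalk x) g).trans t₂.symm)) := by
    funext z
    obtain ⟨c, rfl⟩ := t₁.symm.surjective z
    simp only [LinearEquiv.trans_apply, LinearEquiv.apply_symm_apply]
    induction c using TensorProduct.induction_on with
    | zero =>
      rw [map_zero, map_zero, map_zero]
      exact (Modules.StalkModule.stalkMapₗ (tmap (𝟙 F) (SecTwist.powHom s n)) x).map_zero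
    | tmul a v =>
      rw [LinearEquiv.lTensor_tmul]
      exact SurfInt.ColonSeq.stalk_tmap (SecTwist.powHom s n) x a v
    | add c d hc hd =>
      rw [map_add, map_add, map_add, ← hc, ← hd]
      exact map_add _ _ _
  rw [e]
  exact LinearEquiv.bijective _

theorem bijective_app_of_stalk {M N : X.Modules} [M.IsQuasicoherent] [N.IsQuasicoherent] (χ : M ⟶ N)
    {U : X.Opens} (hU : IsAffineOpen U)
    (h : ∀ x ∈ U, Function.Bijective (Modules.StalkModule.stalkMapₗ χ x)) :
    Function.Bijective (χ.app U) := by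
  refine ⟨(injective_iff_map_eq_zero _).2 fun s hs => ?_, fun z => ?_⟩
  · refine Modules.Support.eq_zero_of_germ_eq_zero s fun x hx _ => (h x hx).1 ?_
    rw [Modules.StalkModule.stalkMapₗ_germ, hs, map_zero, map_zero]
  · have hz : z ∈ LinearMap.range (CohBasics.Affine.secₗ χ U) := by
      refine CohBasics.Affine.mem_of_germ_mem hU _ z fun x hx => ?_
      obtain ⟨v, hv⟩ := (h x hx).2 (N.presheaf.germ U x hx z)
      obtain ⟨g, t, hg, e⟩ := StalkLoc.Basic.exists_smul_eq_germ hU hx v
      have e2 := congrArg (Modules.StalkModule.stalkMapₗ χ x) e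
      rw [map_smul, hv, Modules.StalkModule.stalkMapₗ_germ] at e2
      refine (Submodule.smul_mem_iff_of_isUnit _ ((X.mem_basicOpen g x hx).mp hg)).mp ?_
      rw [e2]
      exact Submodule.subset_span ⟨χ.app U t, ⟨t, rfl⟩, rfl⟩
    obtain ⟨t, ht⟩ := hz
    exact ⟨t, ht⟩

variable {A : Type u} [CommRing A] (p : X ⟶ Spec (CommRingCat.of A))

open CechRes.Sec in
/-- Sections on an affine locus are flat as soon as the global sections of the twists are flat. -/
theorem flat_genLocus [CompactSpace X] [QuasiSeparatedSpace X] (hL : PicF.IsInvertible L)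
    (F : X.Modules) [F.IsQuasicoherent] (s : Coh.structureModule X ⟶ L)
    (hs : IsAffineOpen (CohB1.genLocus L s)) (n₀ : ℕ)
    (h : ∀ n, n₀ ≤ n → Module.Flat A ((secA p ⊤).obj (CohB1.tensorMod F (CohB1.tensorPow L n)))) :
    Module.Flat A ((secA p (CohB1.genLocus L s)).obj F) := by
  let G := CohB1.genLocus L s
  haveI hqp : ∀ n, (CohB1.tensorPow L n).IsQuasicoherent := fun n =>
    TensorMod.QCohInv.isQCoh_of_isInvertible (TensorMod.Invertible.isInvertible_tensorPow hL n)
  refine Module.Flat.of_forall_isTrivialRelation fun {l a t} hrel => ?_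
  obtain ⟨n, hn, hn₀⟩ := ((Filter.eventually_all.2 fun i => eventually_extension (F := F) hL s
    (ofSec p (t i))).and (Filter.eventually_ge_atTop n₀)).exists
  choose T hT using hn
  let M₁ := CohB1.tensorMod F (CohB1.tensorPow L n)
  haveI : M₁.IsQuasicoherent := TensorMod.TensorQCoh.isQCoh_tensorMod _ _
  let z : (secA p ⊤).obj M₁ := ∑ i, a i • toSec p (T i)
  have hres : ∀ i, (resA p (le_top : G ≤ ⊤)).app M₁ (toSec p (T i)) = (secA p G).map (φ s n F) (t i) :=
    fun i => (hT i).trans (φ_app s n F G (ofSec p (t i))).symm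
  have hz0 : (resA p (le_top : G ≤ ⊤)).app M₁ z = 0 := by
    simp only [z, map_sum, map_smul, hres]
    simp only [← map_smul, ← map_sum, hrel, map_zero]
  obtain ⟨k, -, hk⟩ := exists_twist_eq_zero (F := M₁) hL s (ofSec p z) hz0
  let M₂ := CohB1.tensorMod M₁ (CohB1.tensorPow L k)
  haveI : M₂.IsQuasicoherent := TensorMod.TensorQCoh.isQCoh_tensorMod _ _
  haveI : Module.Flat A ((secA p ⊤).obj M₂) := by
    haveI := h (n + k) (hn₀.trans (Nat.le_add_right n k))
    exact Module.Flat.of_linearEquiv ((secA p ⊤).mapIso (TensorMod.Basic.assoc F _ _ ≪≫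
      TensorMod.Basic.tensorIso (Iso.refl F) (Ample.Pow.powAdd L n k).symm)).toLinearEquiv
  let T' : Fin l → (secA p ⊤).obj M₂ := fun i => (secA p ⊤).map (φ s k M₁) (toSec p (T i))
  have hrel' : ∑ i, a i • T' i = 0 := by
    simp only [T', ← map_smul, ← map_sum]
    exact (φ_app s k M₁ ⊤ (ofSec p z)).trans hk
  obtain ⟨m, b, y, hy, hab⟩ := Module.Flat.isTrivialRelation_of_sum_smul_eq_zero hrel'
  have hb : Function.Bijective ((secA p G).map (φ s n F ≫ φ s k M₁)).hom := by
    haveI : (CohB1.tensorMod M₁ (CohB1.tensorPow L k)).IsQuasicoherent := ‹_›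
    exact bijective_app_of_stalk (φ s n F ≫ φ s k M₁) hs fun x hx => by
      rw [Modules.StalkModule.stalkMapₗ_comp, LinearMap.coe_comp]
      exact (bijective_stalk_φ s k M₁ hx).comp (bijective_stalk_φ s n F hx)
  let e := LinearEquiv.ofBijective _ hb
  let ψ : (secA p ⊤).obj M₂ →ₗ[A] (secA p G).obj F :=
    e.symm.toLinearMap.comp ((resA p (le_top : G ≤ ⊤)).app M₂).hom
  have hψ : ∀ i, ψ (T' i) = t i := fun i => by
    refine e.injective ?_
    refine (e.apply_symm_apply _).trans ?_
    change _ = (secA p G).map (φ s n F ≫ φ s k M₁) (t i)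
    rw [Functor.map_comp, ConcreteCategory.comp_apply, ← hres i]
    exact ConcreteCategory.congr_hom ((resA p (le_top : G ≤ ⊤)).naturality (φ s k M₁)) (toSec p (T i))
  refine ⟨m, b, fun j => ψ (y j), fun i => ?_, hab⟩
  rw [← hψ i, hy i, map_sum]
  simp only [map_smul]

end Groth.Agent.Lib.Exchange.TwistSections
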