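import Groth.Agent.Lib.Exchange.NearFibre
import Groth.Agent.Lib.Exchange.Linear
import Groth.Agent.Lib.ProjMor.Embed
import Groth.Agent.Lib.ProjMor.Conv
import Groth.Agent.Lib.ProjSpace.BaseChange
import Groth.Agent.S2803

/-!
# Very ampleness spreads from a fibre without `H^1`
-/

set_option autoImplicit false
set_option linter.style.haveILetI false
set_option maxHeartbeats 1000000
universe u

open CategoryTheory Limits AlgebraicGeometry Opposite TopologicalSpace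

namespace ZarCoh.Exchange.VeryAmpleNear

open Groth.Agent.Lib Groth.Agent.Lib.TensorMod Groth.Agent.Lib.TensorMod.Gen
open Groth.Agent.Lib.ProjMor Groth.Agent.Lib.ProjMor.Sec Groth.Agent.Lib.Ample.GenLocus
open Groth.Agent.Lib.ProjSpace.BaseChange ZarCoh.Exchange.Local

noncomputable section

/-- Multiplication by a unit as an automorphism. -/
theorem exists_scale {X : Scheme.{u}} (M : X.Modules) (c : Γ(X, ⊤)) (hc : IsUnit c) :
    ∃ σ : M ≅ M, ∀ m : Γ(M, ⊤), σ.hom.app ⊤ (c • m) = m := by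
  obtain ⟨u, rfl⟩ := hc
  have h : ∀ (a : Γ(X, ⊤)) (m : Γ(M, ⊤)), (Formal.smulModΓ M a).app ⊤ m = a • m := fun a m => by
    refine (Linear.smulModΓ_app M a ⊤ m).trans ?_
    congr 1
    exact TensorMod.Dual.rs_self (Coh.structureModule X) le_top a
  have hcomp : ∀ a b : Γ(X, ⊤), a * b = 1 → Formal.smulModΓ M a ≫ Formal.smulModΓ M b = 𝟙 M := by
    intro a b hab
    ext U s
    rw [Scheme.Modules.Hom.comp_app, ConcreteCategory.comp_apply, Linear.smulModΓ_app, Linear.smulModΓ_app,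
      ← mul_smul, ← map_mul, mul_comm b a, hab, map_one, one_smul]
    rfl
  refine ⟨⟨Formal.smulModΓ M (↑u⁻¹ : Γ(X, ⊤)), Formal.smulModΓ M (u : Γ(X, ⊤)),
    hcomp _ _ u.inv_mul, hcomp _ _ u.mul_inv⟩, fun m => ?_⟩
  exact (h _ _).trans (by rw [← mul_smul, u.inv_mul, one_smul])

/-- The morphism to projective space given by `t` restricts to a given closed immersion over `κ`. -/
theorem exists_immersion {W U : Scheme.{u}} (q : W ⟶ U) [IsProper q] (M : W.Modules)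
    (hM : PicF.IsInvertible M) {n : ℕ} (t : Fin (n + 1) → ProjUP.Γm M)
    (ht : ∀ w, ∃ m, w ∈ locus (t m))
    {F P : Scheme.{u}} (κ : P ⟶ U) [IsPreimmersion κ] (g : F ⟶ W) (p₀ : F ⟶ P)
    (hsq : IsPullback g p₀ q κ) (i : F ⟶ CohB1.ProjSpaceOver n P) [IsClosedImmersion i]
    (hi : i ≫ CohB1.ProjSpaceOver.toBase n P = p₀)
    (φ : (Scheme.Modules.pullback g).obj M ≅ (Scheme.Modules.pullback (i ≫ pullback.fst _ _)).obj
      (Twist.twistProjSpace n (ULift.{u} ℤ) 1))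
    (hφ : ∀ m, φ.hom.app ⊤ (ProjUP.pullSec g M (t m)) =
      ProjUP.pullSec (i ≫ pullback.fst _ _) _ (ProjUP.coord n (ULift.{u} ℤ) m)) :
    ∃ U₀ : U.Opens, Set.range κ ⊆ U₀ ∧ ∀ {U' W' : Scheme.{u}} (ν : U' ⟶ U) [IsOpenImmersion ν]
      (e : W' ⟶ W) (q' : W' ⟶ U'), IsPullback e q' q ν → Set.range ν ⊆ U₀ →
        RelAmple.IsRelVeryAmplePn q' ((Scheme.Modules.pullback e).obj M) := by
  let Z : Type u := ULift.{u} ℤ
  let O1 := Twist.twistProjSpace n Z 1
  obtain ⟨r, hr, τ, hτ⟩ := Poly.exists_map n Z (q ≫ specULiftZIsTerminal.from U) M hM t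
    (Embed.generatedBy_of_locus t ht)
  let P' := CohB1.ProjSpaceOver n U
  let j : W ⟶ P' := pullback.lift r q hr
  let π := CohB1.ProjSpaceOver.toBase n U
  have hjπ : j ≫ π = q := pullback.lift_snd _ _ _
  have hjr : j ≫ pullback.fst _ _ = r := pullback.lift_fst _ _ _
  haveI : IsProper (j ≫ π) := hjπ.symm ▸ inferInstance
  haveI : IsProper j := IsProper.of_comp j π
  have hgr : g ≫ r = i ≫ pullback.fst _ _ := by
    refine Poly.eq_of_iso n Z (g ≫ r) _ (specULiftZIsTerminal.hom_ext _ _)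
      (((Scheme.Modules.pullbackComp g r).app O1).symm ≪≫ (Scheme.Modules.pullback g).mapIso τ ≪≫ φ)
      fun m => ?_
    have h1 : ((Scheme.Modules.pullbackComp g r).hom.app O1).app ⊤
        (ProjUP.pullSec g _ (ProjUP.pullSec r O1 (ProjUP.coord n Z m))) =
          ProjUP.pullSec (g ≫ r) O1 (ProjUP.coord n Z m) := CohDelta.Units.comp_eta g r O1 ⊤ _
    rw [← h1, ← hφ m, ← hτ m]
    simp only [Iso.trans_hom, Scheme.Modules.Hom.comp_app, ConcreteCategory.comp_apply]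
    refine congrArg (φ.hom.app ⊤) ?_
    refine (congrArg ((((Scheme.Modules.pullback g).mapIso τ).hom).app ⊤) ?_).trans
      (TensorMod.Pullback.unitSec_natural g τ.hom (U := ⊤) _).symm
    rw [← ConcreteCategory.comp_apply, ← Scheme.Modules.Hom.comp_app]
    have h2 : (Scheme.Modules.pullbackComp g r).hom.app O1 ≫
        ((Scheme.Modules.pullbackComp g r).app O1).symm.hom = 𝟙 _ :=
      (Scheme.Modules.pullbackComp g r).hom_inv_id_app O1
    rw [h2]
    rfl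
  have hbig : IsPullback g i j (overMap n κ) := by
    refine IsPullback.of_bot ?_ ?_ (isPullback_overMap n κ)
    · rw [hi, hjπ]
      exact hsq
    · apply pullback.hom_ext
      · refine (Category.assoc g j _).trans (((congrArg (g ≫ ·) hjr).trans hgr).trans ?_)
        exact (congrArg (i ≫ ·) (overMap_fst n κ)).symm.trans (Category.assoc i _ _).symm
      · refine (Category.assoc g j _).trans (((congrArg (g ≫ ·) hjπ).trans hsq.w).trans ?_)
        refine Eq.trans ?_ ((congrArg (i ≫ ·) (overMap_toBase n κ)).symm.trans (Category.assoc i _ _).symm)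
        rw [← Category.assoc, hi]
  haveI : IsPreimmersion (overMap n κ) :=
    MorphismProperty.of_isPullback (P := @IsPreimmersion) (isPullback_overMap n κ).flip inferInstance
  have hnear : ∀ z : P', π z ∈ Set.range κ → ∃ O : P'.Opens, z ∈ O ∧ IsClosedImmersion (j ∣_ O) := by
    intro z hz
    obtain ⟨a, ha⟩ := hz
    obtain ⟨z₀, rfl, -⟩ := Scheme.exists_preimage_of_isPullback (isPullback_overMap n κ) z a ha.symm
    refine (Groth.Agent.S2803.result j (overMap n κ z₀)).2 ⟨?_, ⟨⊤, trivial, inferInstance⟩⟩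
    have h₀ := ((Groth.Agent.S2803.result i z₀).1 ⟨⊤, trivial, inferInstance⟩).1
    haveI : IsIso ((overMap n κ).residueFieldMap z₀) := by
      refine (ConcreteCategory.isIso_iff_bijective _).2 ⟨RingHom.injective _, fun b => ?_⟩
      obtain ⟨b, rfl⟩ := Scheme.residue_surjective _ _ b
      obtain ⟨c, rfl⟩ := (overMap n κ).stalkMap_surjective z₀ b
      refine ⟨(CohB1.ProjSpaceOver n U).residue _ c, ?_⟩
      exact congr($(Scheme.residue_residueFieldMap (overMap n κ) z₀) c)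
    obtain ⟨m, hm, hfib⟩ : ∃ m : i.fiber z₀ ⟶ j.fiber (overMap n κ z₀), IsIso m ∧
        IsPullback m (i.fiberToSpecResidueField z₀) (j.fiberToSpecResidueField (overMap n κ z₀))
          (Spec.map ((overMap n κ).residueFieldMap z₀)) :=
      ⟨_, (isPullback_fiberToSpecResidueField_of_isPullback hbig z₀).isIso_fst_of_isIso,
        isPullback_fiberToSpecResidueField_of_isPullback hbig z₀⟩
    rcases h₀ with h₀ | h₀
    · exact Or.inl (Function.isEmpty (fun v => inv m v))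
    · right
      rw [show j.fiberToSpecResidueField (overMap n κ z₀) =
        inv m ≫ i.fiberToSpecResidueField z₀ ≫ Spec.map ((overMap n κ).residueFieldMap z₀) from
          (IsIso.eq_inv_comp m).2 hfib.w]
      infer_instance
  choose! O hzO hO using hnear
  let Ω : P'.Opens := ⨆ z : {z : P' // π z ∈ Set.range κ}, O z
  haveI : IsClosedImmersion (j ∣_ Ω) := by
    refine IsZariskiLocalAtTarget.of_iSup_eq_top (P := @IsClosedImmersion)
      (fun z : {z : P' // π z ∈ Set.range κ} => Ω.ι ⁻¹ᵁ O z) ?_ fun z => ?_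
    · rw [← Scheme.Hom.preimage_iSup]
      exact top_le_iff.1 fun x _ => x.2
    · refine (MorphismProperty.arrow_mk_iso_iff (P := @IsClosedImmersion)
        (morphismRestrictRestrict j Ω _ ≪≫ morphismRestrictEq j ?_)).2 (hO z.1 z.2)
      rw [Scheme.Hom.image_preimage_eq_opensRange_inf, Scheme.Opens.opensRange_ι]
      exact inf_eq_right.2 (le_iSup (fun z : {z : P' // π z ∈ Set.range κ} => O z) z)
  let U₀ : U.Opens := ⟨(π '' (Ω : Set P')ᶜ)ᶜ, (π.isClosedMap _ Ω.2.isClosed_compl).isOpen_compl⟩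
  have hκU : Set.range κ ⊆ U₀ := by
    rintro _ ⟨a, rfl⟩ ⟨z, hz, hza⟩
    exact hz (Opens.mem_iSup.2 ⟨⟨z, a, hza.symm⟩, hzO z ⟨a, hza.symm⟩⟩)
  have hU₀ : ∀ ⦃z : P'⦄, π z ∈ U₀ → z ∈ Ω := fun z hz => by
    by_contra h
    exact hz ⟨z, h, rfl⟩
  refine ⟨U₀, hκU, fun {U' W'} ν _ e q' hpb hν => ?_⟩
  let j' : W' ⟶ CohB1.ProjSpaceOver n U' := pullback.lift (e ≫ r) q' (specULiftZIsTerminal.hom_ext _ _)
  have hj'π : j' ≫ CohB1.ProjSpaceOver.toBase n U' = q' := pullback.lift_snd _ _ _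
  have hj'r : j' ≫ pullback.fst _ _ = e ≫ r := pullback.lift_fst _ _ _
  have hsq' : IsPullback e j' j (overMap n ν) := by
    refine IsPullback.of_bot ?_ ?_ (isPullback_overMap n ν)
    · rw [hj'π, hjπ]
      exact hpb
    · apply pullback.hom_ext
      · refine (Category.assoc e j _).trans ((congrArg (e ≫ ·) hjr).trans (hj'r.symm.trans ?_))
        exact (congrArg (j' ≫ ·) (overMap_fst n ν)).symm.trans (Category.assoc j' _ _).symm
      · refine (Category.assoc e j _).trans (((congrArg (e ≫ ·) hjπ).trans hpb.w).trans ?_)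
        refine Eq.trans ?_ ((congrArg (j' ≫ ·) (overMap_toBase n ν)).symm.trans (Category.assoc j' _ _).symm)
        rw [← Category.assoc, hj'π]
  haveI : IsOpenImmersion (overMap n ν) :=
    MorphismProperty.of_isPullback (P := @IsOpenImmersion) (isPullback_overMap n ν).flip inferInstance
  have hΩ : Set.range (overMap n ν) ⊆ Set.range Ω.ι := by
    rw [Scheme.Opens.range_ι]
    rintro _ ⟨v, rfl⟩
    refine hU₀ (hν ⟨CohB1.ProjSpaceOver.toBase n U' v, ?_⟩)
    exact (congr($(overMap_toBase n ν) v)).symm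
  let l := IsOpenImmersion.lift Ω.ι (overMap n ν) hΩ
  have hl : l ≫ Ω.ι = overMap n ν := IsOpenImmersion.lift_fac _ _ _
  let e' := (isPullback_morphismRestrict j Ω).lift (j' ≫ l) e (by rw [Category.assoc, hl, hsq'.w])
  haveI : IsClosedImmersion j' :=
    MorphismProperty.of_isPullback (P := @IsClosedImmersion)
      (IsPullback.of_right (h₁₁ := e') (by rw [IsPullback.lift_snd, hl]; exact hsq')
        (IsPullback.lift_fst _ _ _ _) (isPullback_morphismRestrict j Ω).flip) inferInstance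
  refine ⟨n, j', inferInstance, hj'π, ⟨(Scheme.Modules.pullback e).mapIso τ.symm ≪≫
    (Scheme.Modules.pullbackComp e r).app O1 ≪≫ (Scheme.Modules.pullbackCongr hj'r.symm).app O1 ≪≫
      ((Scheme.Modules.pullbackComp j' _).app O1).symm⟩⟩

theorem pullSec_congr {X Y : Scheme.{u}} {a b : X ⟶ Y} (h : a = b) (M : Y.Modules) (m : ProjUP.Γm M) :
    ((Scheme.Modules.pullbackCongr h).hom.app M).app ⊤ (ProjUP.pullSec a M m) = ProjUP.pullSec b M m := by
  subst h
  rfl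

theorem pullSec_smul {X Y : Scheme.{u}} (a : X ⟶ Y) (M : Y.Modules) (c : Γ(Y, ⊤)) (m : ProjUP.Γm M) :
    ProjUP.pullSec a M (c • m) = (show Γ(X, ⊤) from a.app ⊤ c) • ProjUP.pullSec a M m :=
  unitSec_smul a c m

theorem isInvertible_O1 (n : ℕ) :
    PicF.IsInvertible (Twist.twistProjSpace n (ULift.{u} ℤ) 1) :=
  let Z : Type u := ULift.{u} ℤ
  have hcv := Main.cover (Poly.lin_mem n Z) (Poly.adjoin_lin n Z)
  ProjTilde.Invertible.twist_isInvertible_of_cover (𝒜 := CohB1.polyGrading n Z) (fun x => by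
    obtain ⟨c, hc⟩ := hcv x
    exact ⟨c, c.2, hc⟩) 1

/-- The same, without assuming that the sections generate away from the fibre. -/
theorem exists_immersion' {W U : Scheme.{u}} (q : W ⟶ U) [IsProper q] (M : W.Modules)
    (hM : PicF.IsInvertible M) {n : ℕ} (t : Fin (n + 1) → ProjUP.Γm M)
    {F P : Scheme.{u}} (κ : P ⟶ U) [IsPreimmersion κ] (g : F ⟶ W) (p₀ : F ⟶ P)
    (hsq : IsPullback g p₀ q κ) (i : F ⟶ CohB1.ProjSpaceOver n P) [IsClosedImmersion i]
    (hi : i ≫ CohB1.ProjSpaceOver.toBase n P = p₀)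
    (φ : (Scheme.Modules.pullback g).obj M ≅ (Scheme.Modules.pullback (i ≫ pullback.fst _ _)).obj
      (Twist.twistProjSpace n (ULift.{u} ℤ) 1))
    (hφ : ∀ m, φ.hom.app ⊤ (ProjUP.pullSec g M (t m)) =
      ProjUP.pullSec (i ≫ pullback.fst _ _) _ (ProjUP.coord n (ULift.{u} ℤ) m)) :
    ∃ U₀ : U.Opens, Set.range κ ⊆ U₀ ∧ ∀ {U' W' : Scheme.{u}} (ν : U' ⟶ U) [IsOpenImmersion ν]
      (e : W' ⟶ W) (q' : W' ⟶ U'), IsPullback e q' q ν → Set.range ν ⊆ U₀ →
        RelAmple.IsRelVeryAmplePn q' ((Scheme.Modules.pullback e).obj M) := by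
  let Z : Type u := ULift.{u} ℤ
  let O : W.Opens := ⨆ m, locus (t m)
  let W₀ : U.Opens := ⟨(q '' (O : Set W)ᶜ)ᶜ, (q.isClosedMap _ O.2.isClosed_compl).isOpen_compl⟩
  have hWO : ∀ ⦃z : W⦄, q z ∈ W₀ → z ∈ O := fun z hz => by
    by_contra h
    exact hz ⟨z, h, rfl⟩
  have hκr : Set.range κ ⊆ Set.range W₀.ι := by
    rw [Scheme.Opens.range_ι]
    rintro _ ⟨v, rfl⟩ ⟨z, hz, hzv⟩
    obtain ⟨z', rfl, -⟩ := Scheme.exists_preimage_of_isPullback hsq z v hzv
    have hcov : (i ≫ pullback.fst _ _) z' ∈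
        ⨆ m, Proj.basicOpen (CohB1.polyGrading n Z) (MvPolynomial.X m) :=
      (ProjSpace.Basic.iSup_basicOpen_X_eq_top n Z).ge trivial
    obtain ⟨m, hm⟩ := Opens.mem_iSup.1 hcov
    refine hz (Opens.mem_iSup.2 ⟨m, ?_⟩)
    show z' ∈ g ⁻¹ᵁ locus (t m)
    rw [← locus_pullback hM, ← locus_iso φ, hφ m, locus_pullback (isInvertible_O1 n)]
    exact (Frame.locus_g (Main.cover (Poly.lin_mem n Z) (Poly.adjoin_lin n Z))
      ⟨MvPolynomial.X m, MvPolynomial.isHomogeneous_X Z m⟩).ge hm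
  let W₁ := q ⁻¹ᵁ W₀
  let q₁ := q ∣_ W₀
  let κ₁ := IsOpenImmersion.lift W₀.ι κ hκr
  have hκ₁ : κ₁ ≫ W₀.ι = κ := IsOpenImmersion.lift_fac _ _ _
  haveI : IsPreimmersion (κ₁ ≫ W₀.ι) := hκ₁.symm ▸ inferInstance
  haveI : IsPreimmersion κ₁ := IsPreimmersion.of_comp κ₁ W₀.ι
  let g₁ := (isPullback_morphismRestrict q W₀).lift (p₀ ≫ κ₁) g
    (by rw [Category.assoc, hκ₁]; exact hsq.w.symm)
  have hg₁ : g₁ ≫ W₁.ι = g := IsPullback.lift_snd _ _ _ _
  have hsq₁ : IsPullback g₁ p₀ q₁ κ₁ :=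
    IsPullback.of_right (h₁₁ := g₁) (by rw [hg₁, hκ₁]; exact hsq)
      (IsPullback.lift_fst _ _ _ _) (isPullback_morphismRestrict q W₀).flip
  obtain ⟨U₀, hκU, hU₀⟩ := exists_immersion q₁ _ (PicLoc.isInvertible_pullback W₁.ι hM)
    (fun m => ProjUP.pullSec W₁.ι M (t m)) (fun w => by
      obtain ⟨m, hm⟩ := Opens.mem_iSup.1 (hWO w.2)
      exact ⟨m, (locus_pullback hM W₁.ι (t m)).ge hm⟩)
    κ₁ g₁ p₀ hsq₁ i hi
    ((Scheme.Modules.pullbackComp g₁ W₁.ι).app M ≪≫ (Scheme.Modules.pullbackCongr hg₁).app M ≪≫ φ)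
    (fun m => by
      refine Eq.trans ?_ (hφ m)
      simp only [Iso.trans_hom, Scheme.Modules.Hom.comp_app, ConcreteCategory.comp_apply, Iso.app_hom]
      refine congrArg (φ.hom.app ⊤) ?_
      exact (congrArg (fun u => ((Scheme.Modules.pullbackCongr hg₁).hom.app M).app ⊤ u)
        (CohDelta.Units.comp_eta g₁ W₁.ι M ⊤ (t m))).trans (pullSec_congr hg₁ M (t m)))
  refine ⟨W₀.ι ''ᵁ U₀, ?_, fun {U' W'} ν _ e q' hpb hν => ?_⟩
  · rintro _ ⟨v, rfl⟩
    exact ⟨κ₁ v, hκU ⟨v, rfl⟩, congr($hκ₁ v)⟩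
  have hνW : Set.range ν ⊆ Set.range W₀.ι := fun _ h => by
    obtain ⟨w, -, rfl⟩ := hν h
    exact ⟨w, rfl⟩
  let ν₁ := IsOpenImmersion.lift W₀.ι ν hνW
  have hν₁ : ν₁ ≫ W₀.ι = ν := IsOpenImmersion.lift_fac _ _ _
  haveI : IsOpenImmersion (ν₁ ≫ W₀.ι) := hν₁.symm ▸ inferInstance
  haveI : IsOpenImmersion ν₁ := IsOpenImmersion.of_comp ν₁ W₀.ι
  let e₁ := (isPullback_morphismRestrict q W₀).lift (q' ≫ ν₁) e
    (by rw [Category.assoc, hν₁]; exact hpb.w.symm)
  have he₁ : e₁ ≫ W₁.ι = e := IsPullback.lift_snd _ _ _ _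
  have hpb₁ : IsPullback e₁ q' q₁ ν₁ :=
    IsPullback.of_right (h₁₁ := e₁) (by rw [he₁, hν₁]; exact hpb)
      (IsPullback.lift_fst _ _ _ _) (isPullback_morphismRestrict q W₀).flip
  refine Conv.isRelVeryAmplePn_of_iso ((Scheme.Modules.pullbackComp e₁ W₁.ι).app M ≪≫
    (Scheme.Modules.pullbackCongr he₁).app M) (hU₀ ν₁ e₁ q' hpb₁ ?_)
  rintro _ ⟨v, rfl⟩
  obtain ⟨w, hw, hwv⟩ := hν ⟨v, rfl⟩
  have : W₀.ι (ν₁ v) = W₀.ι w := (congr($hν₁ v)).trans hwv.symm
  exact W₀.ι.isOpenEmbedding.injective this ▸ hw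

theorem app_inv_app {W : Scheme.{u}} {A B C : W.Modules} (σ : A ≅ B) (ψ : B ≅ C) (a : Γ(A, ⊤)) (c : Γ(C, ⊤))
    (h : σ.hom.app ⊤ a = ψ.inv.app ⊤ c) : (σ ≪≫ ψ).hom.app ⊤ a = c := by
  rw [Iso.trans_hom, Scheme.Modules.Hom.comp_app, ConcreteCategory.comp_apply, h,
    ← ConcreteCategory.comp_apply, ← Scheme.Modules.Hom.comp_app, ψ.inv_hom_id]
  rfl

/-- The same, with the comparison given as a composite. -/
theorem exists_immersion'' {W U : Scheme.{u}} (q : W ⟶ U) [IsProper q] (M : W.Modules)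
    (hM : PicF.IsInvertible M) {n : ℕ} (t : Fin (n + 1) → ProjUP.Γm M)
    {F P : Scheme.{u}} (κ : P ⟶ U) [IsPreimmersion κ] (g : F ⟶ W) (p₀ : F ⟶ P)
    (hsq : IsPullback g p₀ q κ) (i : F ⟶ CohB1.ProjSpaceOver n P) [IsClosedImmersion i]
    (hi : i ≫ CohB1.ProjSpaceOver.toBase n P = p₀)
    (σ : (Scheme.Modules.pullback g).obj M ≅ (Scheme.Modules.pullback g).obj M)
    (ψ : (Scheme.Modules.pullback g).obj M ≅ (Scheme.Modules.pullback (i ≫ pullback.fst _ _)).obj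
      (Twist.twistProjSpace n (ULift.{u} ℤ) 1))
    (ht : ∀ m, σ.hom.app ⊤ (ProjUP.pullSec g M (t m)) = ψ.inv.app ⊤
      (ProjUP.pullSec (i ≫ pullback.fst _ _) _ (ProjUP.coord n (ULift.{u} ℤ) m))) :
    ∃ U₀ : U.Opens, Set.range κ ⊆ U₀ ∧ ∀ {U' W' : Scheme.{u}} (ν : U' ⟶ U) [IsOpenImmersion ν]
      (e : W' ⟶ W) (q' : W' ⟶ U'), IsPullback e q' q ν → Set.range ν ⊆ U₀ →
        RelAmple.IsRelVeryAmplePn q' ((Scheme.Modules.pullback e).obj M) :=
  exists_immersion' q M hM t κ g p₀ hsq i hi (σ ≪≫ ψ) fun m => app_inv_app σ ψ _ _ (ht m)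

section Lift

variable {A : Type u} [CommRing A] [IsNoetherianRing A] {X X' : Scheme.{u}}
  [X.Over (Spec (CommRingCat.of A))] [IsProper (X ↘ Spec (CommRingCat.of A))]
  (x : PrimeSpectrum A) [X'.Over (Spec (CommRingCat.of x.asIdeal.ResidueField))] {g' : X' ⟶ X}
  (hsq : IsPullback g' (X' ↘ Spec (CommRingCat.of x.asIdeal.ResidueField))
    (X ↘ Spec (CommRingCat.of A))
    (Spec.map (CommRingCat.ofHom (algebraMap A x.asIdeal.ResidueField))))
  (F : X.Modules) (hF : Coh.IsCoh F)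

local notation "pX" => (X ↘ Spec (CommRingCat.of A))
local notation "pX'" => (X' ↘ Spec (CommRingCat.of x.asIdeal.ResidueField))

include hsq in
theorem app_toGlobal (b : A) :
    (show Γ(X', ⊤) from g'.app ⊤ (Coh.toGlobal pX b)) =
      Coh.toGlobal pX' (algebraMap A x.asIdeal.ResidueField b) := by
  refine Eq.trans ?_ (LocalRep.toGlobal_comp (CommRingCat.ofHom (algebraMap A x.asIdeal.ResidueField)) pX' b)
  rw [← hsq.w]
  rfl

include hsq hF in
/-- Finitely many sections on the fibre lift simultaneously, up to an automorphism. -/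
theorem exists_lift_family (hfl : FlatMod.IsFlatOver pX F)
    (h1 : ∀ (P : ChainComplex (ModuleCat.{u} A) ℤ) (_ : ∀ i, Module.Finite A (P.X i))
      (_ : ∀ i, Module.Free A (P.X i))
      (_ : CohIII.TFun P (-((1 : ℕ) : ℤ)) ⋙ forget₂ (ModuleCat.{u} A) AddCommGrpCat.{u} ≅
        CohIII.tensorAFunctor A F ⋙ CohIII.HAb X 1), CohIII.dRank P (-((1 : ℕ) : ℤ)) x = 0)
    {ι : Type} [Fintype ι] (T₀ : ι → ProjUP.Γm ((Scheme.Modules.pullback g').obj F)) :
    ∃ (σ : (Scheme.Modules.pullback g').obj F ≅ (Scheme.Modules.pullback g').obj F)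
      (t : ι → ProjUP.Γm F), ∀ m, σ.hom.app ⊤ (ProjUP.pullSec g' F (t m)) = T₀ m := by
  classical
  haveI : F.IsQuasicoherent := hF.1
  have hlift : ∀ m, ∃ a, a ∉ x.asIdeal ∧ ∃ s : Γ(F, ⊤), ProjUP.pullSec g' F s =
      (show Γ(X', ⊤) from Coh.toGlobal pX' (algebraMap A x.asIdeal.ResidueField a)) • T₀ m := fun m => by
    obtain ⟨a, ha, s, hs⟩ := SectionLift.exists_lift (A := A) x hsq F hF hfl h1 (T₀ m)
    exact ⟨a, ha, s, Eq.trans
      (TensorMod.Dual.rs_self ((Scheme.Modules.pullback g').obj F) le_top _).symm hs⟩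
  choose a ha s hs using hlift
  let c : Γ(X', ⊤) := Coh.toGlobal pX' (algebraMap A x.asIdeal.ResidueField (∏ m, a m))
  have hc : IsUnit c := by
    refine IsUnit.map _ (isUnit_iff_ne_zero.2 ?_)
    rw [Ne, Ideal.algebraMap_residueField_eq_zero]
    exact fun h => by
      obtain ⟨m, -, hm⟩ := (Ideal.IsPrime.prod_mem_iff).1 h
      exact ha m hm
  obtain ⟨σ, hσ⟩ := exists_scale _ c hc
  refine ⟨σ, fun m => (show Γ(X, ⊤) from Coh.toGlobal pX (∏ j ∈ Finset.univ.erase m, a j)) • s m, fun m => ?_⟩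
  refine Eq.trans (congrArg (σ.hom.app ⊤) ?_) (hσ (T₀ m))
  refine (pullSec_smul g' F _ (s m)).trans ?_
  rw [hs, app_toGlobal x hsq, ← mul_smul]
  refine congrArg (· • T₀ m) ?_
  show (Coh.toGlobal pX') _ * (Coh.toGlobal pX') _ = Coh.toGlobal pX' _
  rw [← map_mul, ← map_mul, Finset.prod_erase_mul _ _ (Finset.mem_univ m)]

end Lift

theorem isClosedImmersion_comp_overMap {F P P' : Scheme.{u}} {n : ℕ} (θ : P ⟶ P') [IsIso θ]
    (i₀ : F ⟶ CohB1.ProjSpaceOver n P) [IsImmersion i₀] (p : F ⟶ P') [IsProper p]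
    (h : (i₀ ≫ CohB1.ProjSpaceOver.toBase n P) ≫ θ = p) :
    IsClosedImmersion (i₀ ≫ overMap n θ) ∧
      (i₀ ≫ overMap n θ) ≫ CohB1.ProjSpaceOver.toBase n P' = p := by
  have hi : (i₀ ≫ overMap n θ) ≫ CohB1.ProjSpaceOver.toBase n P' = p := by
    rw [Category.assoc, overMap_toBase, ← Category.assoc, h]
  haveI : IsIso (overMap n θ) := (isPullback_overMap n θ).isIso_fst_of_isIso
  haveI : IsProper ((i₀ ≫ overMap n θ) ≫ CohB1.ProjSpaceOver.toBase n P') := hi.symm ▸ inferInstance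
  haveI : IsProper (i₀ ≫ overMap n θ) := IsProper.of_comp _ (CohB1.ProjSpaceOver.toBase n P')
  exact ⟨IsClosedImmersion.of_isPreimmersion _ (i₀ ≫ overMap n θ).isClosedMap.isClosed_range, hi⟩


end

end ZarCoh.Exchange.VeryAmpleNear
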